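import Cfsg.Agent.Lib.SRank.FiveCore
import Cfsg.Agent.Lib.Solvable.Gaschutz
import Cfsg.Agent.Lib.StructC.AltEightOrders

/-!
Sections of order `8` and `16` acted on by `L₃(2)`: coordinates, orbits, and complements.
-/

set_option autoImplicit false
set_option linter.style.haveILetI false

namespace CfsgLib.SRank.Seven

open Subgroup Matrix
open CfsgLib.SRank.Five (card_modEq card_set_modEq card_map_mk exists_lift)

universe u

/-- `GL₃(2)`. -/
abbrev L := GL (Fin 3) (ZMod 2)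

/-- An element of order `4`. -/
def gS : L := ⟨!![1, 0, 0; 1, 1, 0; 0, 1, 1], !![1, 0, 0; 1, 1, 0; 1, 1, 1], by decide, by decide⟩

/-- Its square, a transvection with centre the third axis. -/
def gT : L := ⟨!![1, 0, 0; 0, 1, 0; 1, 0, 1], !![1, 0, 0; 0, 1, 0; 1, 0, 1], by decide, by decide⟩

/-- An element of order `3` fixing the third axis. -/
def gY : L := ⟨!![0, 1, 0; 1, 1, 0; 0, 0, 1], !![1, 1, 0; 1, 0, 0; 0, 0, 1], by decide, by decide⟩

/-- An involution inverting `gS`. -/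
def gR : L := ⟨!![1, 0, 0; 1, 1, 0; 0, 0, 1], !![1, 0, 0; 1, 1, 0; 0, 0, 1], by decide, by decide⟩

/-- The third axis. -/
def e3 : Fin 3 → ZMod 2 := ![0, 0, 1]

theorem gS_sq : gS * gS = gT := by decide

theorem gT_sq : gT * gT = 1 := by decide

theorem gT_ne : gT ≠ 1 := by decide

theorem gS_pow : gS ^ 4 = 1 := by decide

theorem gY_pow : gY ^ 3 = 1 := by decide

theorem gY_ne : gY ≠ 1 := by decide

theorem four_group : gT * (gY * gT * gY⁻¹) * (gY * (gY * gT * gY⁻¹) * gY⁻¹) = 1 := by decide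

theorem gR_facts : gR * gR = 1 ∧ gR ≠ 1 ∧ gR * gS * gR * gS = 1 ∧
    ∀ j : Fin 2, ∀ i : Fin 4, gR ^ (j : ℕ) * gS ^ (i : ℕ) = 1 → j = 0 ∧ i = 0 := by decide

variable {Y : Type u} [Group Y] [Finite Y]

/-! ### Fixed points -/

theorem fixed_card {h : Y} (h7 : h ^ 7 = 1) {B : Subgroup Y} (hB : ∀ b ∈ B, h * b * h⁻¹ ∈ B) {k : ℕ}
    (hc : Nat.card B = 2 ^ k) : ∃ i ≤ k, Nat.card (B ⊓ centralizer ({h} : Set Y) : Subgroup Y) = 2 ^ i ∧
      2 ^ k % 7 = 2 ^ i % 7 := by
  haveI : Fact (Nat.Prime 7) := ⟨by norm_num⟩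
  have hm := card_modEq h7 hB
  obtain ⟨i, hi, hiF⟩ := (Nat.dvd_prime_pow Nat.prime_two).1
    (hc ▸ card_dvd_of_le (inf_le_left : B ⊓ centralizer ({h} : Set Y) ≤ B))
  exact ⟨i, hi, hiF, by rw [hc, hiF] at hm; exact hm⟩

/-- An element of order `7` is trivial on a group of order at most `4`. -/
theorem small_fixed {h : Y} (h7 : h ^ 7 = 1) {B : Subgroup Y} (hB : ∀ b ∈ B, h * b * h⁻¹ ∈ B) {k : ℕ}
    (hc : Nat.card B = 2 ^ k) (hk : k ≤ 2) {b : Y} (hb : b ∈ B) : h * b = b * h := by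
  obtain ⟨i, hi, hiF, hmod⟩ := fixed_card h7 hB hc
  have hik : i = k := by interval_cases k <;> interval_cases i <;> first | rfl | (norm_num at hmod)
  have heq := eq_of_le_of_card_ge (inf_le_left : B ⊓ centralizer ({h} : Set Y) ≤ B) (by rw [hiF, hc, hik])
  exact (mem_centralizer_singleton_iff.1 (heq.ge hb).2).symm

/-- A moving element of order `7` fixes nothing in a group of order `8`. -/
theorem eight_fixed {h : Y} (h7 : h ^ 7 = 1) {B : Subgroup Y} (hB : ∀ b ∈ B, h * b * h⁻¹ ∈ B)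
    (hc : Nat.card B = 8) {c : Y} (hc1 : c ∈ B) (hc2 : h * c ≠ c * h) {b : Y} (hb : b ∈ B)
    (hfix : h * b = b * h) : b = 1 := by
  obtain ⟨i, hi, hiF, hmod⟩ := fixed_card h7 hB (k := 3) hc
  rcases Nat.lt_or_ge i 3 with hlt | hge
  · have : i = 0 := by interval_cases i <;> first | rfl | (norm_num at hmod)
    exact (eq_bot_iff_forall _).1 (card_eq_one.1 (hiF.trans (by rw [this, pow_zero]))) b
      ⟨hb, mem_centralizer_singleton_iff.2 hfix.symm⟩
  · have heq := eq_of_le_of_card_ge (inf_le_left : B ⊓ centralizer ({h} : Set Y) ≤ B)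
      (by rw [hiF, hc, show i = 3 by omega]; norm_num)
    exact absurd (mem_centralizer_singleton_iff.1 (heq.ge hc1).2).symm hc2

/-- A moving element of order `7` fixes a subgroup of order `2` in a group of order `16`. -/
theorem sixteen_fixed {h : Y} (h7 : h ^ 7 = 1) {B : Subgroup Y} (hB : ∀ b ∈ B, h * b * h⁻¹ ∈ B)
    (hc : Nat.card B = 16) {c : Y} (hc1 : c ∈ B) (hc2 : h * c ≠ c * h) :
    Nat.card (B ⊓ centralizer ({h} : Set Y) : Subgroup Y) = 2 := by
  obtain ⟨i, hi, hiF, hmod⟩ := fixed_card h7 hB (k := 4) hc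
  have hi4 : i ≠ 4 := fun e => hc2 (mem_centralizer_singleton_iff.1
    ((eq_of_le_of_card_ge (inf_le_left : B ⊓ centralizer ({h} : Set Y) ≤ B)
      (by rw [hiF, hc, e]; norm_num)).ge hc1).2).symm
  rw [hiF]
  interval_cases i <;> first | rfl | (exact absurd rfl hi4) | (norm_num at hmod)

/-! ### Sections -/

/-- A bound from an elementary abelian section. -/
theorem card_closure_le (hrank : Cfsg.SectionalPRankLE 2 4 Y) {G : Set Y} {R : Subgroup Y}
    (hR : R ≤ Subgroup.closure G) (hn : ∀ g ∈ G, ∀ r ∈ R, g * r * g⁻¹ ∈ R)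
    (hsq : ∀ g ∈ G, g * g ∈ R) (hcm : ∀ a ∈ G, ∀ b ∈ G, a * b * a⁻¹ * b⁻¹ ∈ R) :
    Nat.card (Subgroup.closure G) ≤ 16 * Nat.card R := by
  set H := Subgroup.closure G with hH
  have hnorm : H ≤ normalizer (R : Set Y) := by
    rw [hH, Subgroup.closure_le]
    intro g hg
    refine mem_normalizer_iff.2 fun r => ⟨hn g hg r, fun hr => ?_⟩
    let f : R → R := fun x => ⟨g * x * g⁻¹, hn g hg x x.2⟩
    obtain ⟨⟨x, hx⟩, hxe⟩ := Finite.surjective_of_injective (f := f) (fun a b e => Subtype.ext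
      (mul_left_cancel (mul_right_cancel (congrArg Subtype.val e)))) ⟨g * r * g⁻¹, hr⟩
    have : g * x * g⁻¹ = g * r * g⁻¹ := congrArg Subtype.val hxe
    rwa [← mul_left_cancel (mul_right_cancel this)]
  haveI : (R.subgroupOf H).Normal :=
    ⟨fun n hnR g => (mem_normalizer_iff.1 (hnorm g.2) (n : Y)).1 hnR⟩
  set π := QuotientGroup.mk' (R.subgroupOf H)
  set G' : Set (H ⧸ R.subgroupOf H) := π '' {x : H | (x : Y) ∈ G}
  have htop : Subgroup.closure G' = ⊤ := by
    rw [eq_top_iff]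
    rintro q -
    obtain ⟨⟨x, hx⟩, rfl⟩ := QuotientGroup.mk'_surjective _ q
    have hle : H ≤ ((Subgroup.closure G').comap π).map H.subtype := by
      refine (Subgroup.closure_le _).2 fun g hg => ?_
      exact ⟨⟨g, Subgroup.subset_closure hg⟩, Subgroup.subset_closure ⟨_, hg, rfl⟩, rfl⟩
    obtain ⟨z, hz, hzx⟩ := hle hx
    rwa [show (⟨x, hx⟩ : H) = z from Subtype.ext hzx.symm]
  have hcomm : IsMulCommutative (⊤ : Subgroup (H ⧸ R.subgroupOf H)) := by
    rw [← htop]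
    refine isMulCommutative_closure ?_
    rintro _ ⟨a, ha, rfl⟩ _ ⟨b, hb, rfl⟩
    refine commutatorElement_eq_one_iff_mul_comm.1 ?_
    rw [commutatorElement_def, ← map_inv, ← map_inv, ← map_mul, ← map_mul, ← map_mul]
    exact (QuotientGroup.eq_one_iff _).2 (hcm a ha b hb)
  have hexp : ∀ g ∈ (⊤ : Subgroup (H ⧸ R.subgroupOf H)), g ^ 2 = 1 := by
    intro g _
    refine Subgroup.closure_induction (p := fun g _ => g ^ 2 = 1) ?_ (one_pow 2) ?_
      (fun a _ ha => by rw [inv_pow, ha, inv_one]) (htop.ge (mem_top g))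
    · rintro _ ⟨a, ha, rfl⟩
      rw [pow_two, ← map_mul]
      exact (QuotientGroup.eq_one_iff _).2 (hsq a ha)
    · intro a b _ _ ha hb
      rw [Commute.mul_pow, ha, hb, one_mul]
      exact congrArg Subtype.val (hcomm.is_comm.comm ⟨a, mem_top _⟩ ⟨b, mem_top _⟩)
  have hle := hrank H (R.subgroupOf H) ⊤ hcomm hexp
  have hmul := (R.subgroupOf H).card_mul_index
  rw [Nat.card_congr (subgroupOfEquivOfLe hR).toEquiv, index_eq_card] at hmul
  rw [card_top] at hle
  rw [← hmul, mul_comm]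
  exact Nat.mul_le_mul_right _ (by simpa using hle)

/-! ### Coordinates -/

omit [Finite Y] in
/-- The matrices of conjugation on a coordinatized normal set. -/
theorem exists_rep {n m : ℕ} [NeZero m] (φ : (Fin n → ZMod m) → Y) (hadd : ∀ v w, φ (v + w) = φ v * φ w)
    (hinj : Function.Injective φ) (hinv : ∀ g v, ∃ w, φ w = g * φ v * g⁻¹) :
    ∃ ρ : Y →* GL (Fin n) (ZMod m),
      ∀ g v, φ ((ρ g : Matrix (Fin n) (Fin n) (ZMod m)) *ᵥ v) = g * φ v * g⁻¹ := by
  choose f hf using hinv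
  let F : Y → (Fin n → ZMod m) →+ (Fin n → ZMod m) := fun g =>
    AddMonoidHom.mk' (f g) fun v w => hinj (by rw [hf, hadd, hadd, hf, hf]; group)
  let M : Y →* Matrix (Fin n) (Fin n) (ZMod m) :=
    { toFun := fun g => LinearMap.toMatrix' ((F g).toZModLinearMap m)
      map_one' := by
        rw [← LinearMap.toMatrix'_id]
        refine congrArg _ (LinearMap.ext fun v => hinj ?_)
        show φ (f 1 v) = φ v
        rw [hf, one_mul, inv_one, mul_one]
      map_mul' := fun a b => by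
        rw [← LinearMap.toMatrix'_comp]
        refine congrArg _ (LinearMap.ext fun v => hinj ?_)
        show φ (f (a * b) v) = φ (f a (f b v))
        rw [hf, hf, hf]; group }
  refine ⟨M.toHomUnits, fun g v => ?_⟩
  show φ (LinearMap.toMatrix' ((F g).toZModLinearMap m) *ᵥ v) = _
  rw [LinearMap.toMatrix'_mulVec]
  exact hf g v

omit [Finite Y] in
/-- Coordinates of an elementary abelian group. -/
theorem exists_coords {B : Subgroup Y} [Finite B] (hB : Exp2 B) {n : ℕ} (hc : Nat.card B = 2 ^ n) :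
    ∃ φ : (Fin n → ZMod 2) → Y, (∀ v, φ v ∈ B) ∧ (∀ b ∈ B, ∃ v, φ v = b) ∧ Function.Injective φ ∧
      ∀ v w, φ (v + w) = φ v * φ w := by
  haveI : Fact (Nat.Prime 2) := ⟨Nat.prime_two⟩
  letI : CommGroup B := { (inferInstance : Group B) with
    mul_comm := fun a b => Subtype.ext (hB.comm a.2 b.2) }
  letI : Module (ZMod 2) (Additive B) := AddCommGroup.zmodModule (n := 2) fun w => by
    show Additive.toMul w ^ 2 = 1
    exact Subtype.ext (by rw [Subgroup.coe_pow, pow_two]; exact hB _ (Additive.toMul w).2)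
  have hr : Module.finrank (ZMod 2) (Additive B) = n := by
    have h := Module.natCard_eq_pow_finrank (K := ZMod 2) (V := Additive B)
    rw [show Nat.card (Additive B) = 2 ^ n from hc, Nat.card_zmod] at h
    exact (Nat.pow_right_injective (le_refl 2) h).symm
  let e : (Fin n → ZMod 2) ≃ₗ[ZMod 2] Additive B :=
    LinearEquiv.ofFinrankEq _ _ (by rw [hr, Module.finrank_fin_fun])
  refine ⟨fun v => ((Additive.toMul (e v) : B) : Y), fun v => (Additive.toMul (e v)).2,
    fun b hb => ⟨e.symm (Additive.ofMul ⟨b, hb⟩), ?_⟩, fun v w h => ?_, fun v w => ?_⟩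
  · simp only [LinearEquiv.apply_symm_apply]; rfl
  · exact e.injective (Additive.toMul.injective (Subtype.ext h))
  · show ((Additive.toMul (e (v + w)) : B) : Y) = _
    rw [map_add]; rfl

/-- Coordinates on a section of order `8`. -/
structure Frame (Q B : Subgroup Y) where
  /-- The coordinates. -/
  φ : (Fin 3 → ZMod 2) → Y
  /-- The action. -/
  π : Y →* L
  mem : ∀ v, φ v ∈ B
  surj : ∀ b ∈ B, ∃ v, φ v = b
  inj : Function.Injective φ
  add : ∀ v w, φ (v + w) = φ v * φ w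
  equiv : ∀ g v, φ ((π g : Matrix (Fin 3) (Fin 3) (ZMod 2)) *ᵥ v) = g * φ v * g⁻¹
  πsurj : Function.Surjective π
  ker : ∀ g, π g = 1 ↔ g ∈ Q

/-- The hypothesis on the quotient. -/
structure Top (Q : Subgroup Y) [Q.Normal] : Prop where
  two : IsPGroup 2 Q
  simple : IsSimpleGroup (Y ⧸ Q)
  card : Nat.card (Y ⧸ Q) = 168

namespace Top

variable {Q : Subgroup Y} [Q.Normal] (τ : Top Q)
include τ

omit [Finite Y] τ in
theorem of_iso_L (hQ : IsPGroup 2 Q) (e : Y ⧸ Q ≃* L) : Top Q := by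
  obtain ⟨hs, hc⟩ := StructC.AltEight.gl_three_two
  haveI := hs
  exact ⟨hQ, e.isSimpleGroup, (Nat.card_congr e.toEquiv).trans hc⟩

omit [Finite Y] in
theorem eq_top {K : Subgroup Y} [K.Normal] (hQK : Q ≤ K) {g : Y} (hg : g ∈ K) (hgQ : g ∉ Q) :
    K = ⊤ := by
  haveI := τ.simple
  rcases (Normal.map (inferInstance : K.Normal) _ (QuotientGroup.mk'_surjective Q)).eq_bot_or_eq_top with h | h
  · exact absurd ((QuotientGroup.eq_one_iff g).1 ((eq_bot_iff_forall _).1 h _ (mem_map_of_mem _ hg))) hgQ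
  · rw [← comap_map_eq_self (f := QuotientGroup.mk' Q) (H := K) (by rwa [QuotientGroup.ker_mk']),
      h, comap_top]

theorem exists_seven : ∃ h : Y, h ^ 7 = 1 ∧ h ∉ Q := by
  haveI : Fact (Nat.Prime 7) := ⟨by norm_num⟩
  obtain ⟨s, hs⟩ := exists_prime_orderOf_dvd_card' (G := Y ⧸ Q) 7 (by rw [τ.card]; norm_num)
  obtain ⟨g, hg, hg7⟩ := exists_lift τ.two (by norm_num : Nat.Prime 7) (by norm_num)
    (show s ^ 7 = 1 by rw [← hs, pow_orderOf_eq_one])
  refine ⟨g, hg7, fun hm => ?_⟩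
  rw [← hg, (QuotientGroup.eq_one_iff g).2 hm, orderOf_one] at hs
  norm_num at hs

theorem exists_frame {B : Subgroup Y} [B.Normal] (hB : Exp2 B) (h8 : Nat.card B = 8)
    (hcen : ∀ q ∈ Q, ∀ b ∈ B, q * b = b * q) {g : Y} {b : Y} (hb : b ∈ B) (hgb : g * b ≠ b * g) :
    Nonempty (Frame Q B) := by
  obtain ⟨φ, hmem, hsurj, hinj, hadd⟩ := exists_coords hB (n := 3) h8
  obtain ⟨π, hπ⟩ := exists_rep φ hadd hinj fun g v =>
    hsurj _ (Normal.conj_mem inferInstance _ (hmem v) g)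
  have hker : ∀ x, π x = 1 ↔ x ∈ Q := by
    have hmemker : ∀ x, x ∈ π.ker ↔ ∀ c ∈ B, x * c = c * x := by
      intro x
      rw [MonoidHom.mem_ker]
      constructor
      · intro h c hc
        obtain ⟨v, rfl⟩ := hsurj c hc
        have := hπ x v
        rw [h, Units.val_one, one_mulVec] at this
        exact conj_eq_iff.1 this.symm
      · intro h
        refine Units.ext (Matrix.ext_of_mulVec_single fun i => hinj ?_)
        rw [hπ, Units.val_one, one_mulVec, h _ (hmem _), mul_inv_cancel_right]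
    have hQk : Q ≤ π.ker := fun q hq => (hmemker q).2 (hcen q hq)
    intro x
    refine ⟨fun hx => ?_, fun hx => MonoidHom.mem_ker.1 (hQk hx)⟩
    by_contra hxQ
    exact hgb ((hmemker g).1 ((τ.eq_top hQk (MonoidHom.mem_ker.2 hx) hxQ).ge (mem_top g)) b hb)
  refine ⟨⟨φ, π, hmem, hsurj, hinj, hadd, hπ, ?_, hker⟩⟩
  have heq : π.ker = Q := by ext x; rw [MonoidHom.mem_ker]; exact hker x
  rw [← MonoidHom.range_eq_top]
  refine eq_top_of_card_eq _ ?_
  rw [← index_ker, heq, index_eq_card, τ.card, StructC.AltEight.gl_three_two.2]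

end Top

namespace Frame

variable {Q B : Subgroup Y} (F : Frame Q B)

omit [Finite Y] in
theorem zero : F.φ 0 = 1 := mul_eq_left.1 ((F.add 0 0).symm.trans (by rw [add_zero]))

omit [Finite Y] in
theorem ne_one {v : Fin 3 → ZMod 2} (hv : v ≠ 0) : F.φ v ≠ 1 := fun e => hv (F.inj (e.trans F.zero.symm))

omit [Finite Y] in
theorem fixes {g : Y} {v : Fin 3 → ZMod 2} :
    g * F.φ v = F.φ v * g ↔ (F.π g : Matrix (Fin 3) (Fin 3) (ZMod 2)) *ᵥ v = v := by
  rw [← conj_eq_iff, ← F.equiv]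
  exact F.inj.eq_iff

/-- Lifts of the distinguished elements. -/
theorem exists_elts [Q.Normal] (hQ : IsPGroup 2 Q) :
    ∃ s y : Y, F.π s = gS ∧ F.π y = gY ∧ y ^ 3 = 1 := by
  obtain ⟨s, hs⟩ := F.πsurj gS
  obtain ⟨y0, hy0⟩ := F.πsurj gY
  have h3 : (y0 : Y ⧸ Q) ^ 3 = 1 := by
    rw [← QuotientGroup.mk_pow, QuotientGroup.eq_one_iff, ← F.ker, map_pow, hy0, gY_pow]
  obtain ⟨y, hy, hy3⟩ := exists_lift hQ Nat.prime_three (by norm_num) h3
  refine ⟨s, y, hs, ?_, hy3⟩
  have hm : y⁻¹ * y0 ∈ Q := QuotientGroup.eq.1 hy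
  rw [← hy0, ← mul_one (F.π y), ← (F.ker _).2 hm, ← map_mul, mul_inv_cancel_left]

end Frame

/-! ### Orbits on sixteen elements -/

section Sixteen

variable {Q : Subgroup Y} [Q.Normal]

/-- An invariant set of seven elements gives an invariant hyperplane. -/
theorem hyperplane_of_seven {h : Y} (h7 : h ^ 7 = 1) {B : Subgroup Y} [B.Normal] (hB : Exp2 B)
    (h16 : Nat.card B = 16) {e : Y} (he : e ∈ B) (he1 : e ≠ 1) (hhe : h * e = e * h)
    {c : Y} (hc : c ∈ B) (hhc : h * c ≠ c * h) {O : Set Y} (hOB : O ⊆ B) (h1O : (1 : Y) ∉ O)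
    (heO : e ∉ O) (hO7 : Nat.card O = 7) (hinv : ∀ g : Y, ∀ o ∈ O, g * o * g⁻¹ ∈ O) :
    ∃ U : Subgroup Y, U.Normal ∧ U ≤ B ∧ Nat.card U = 8 ∧ e ∉ U := by
  classical
  haveI : Fact (Nat.Prime 7) := ⟨by norm_num⟩
  set F := B ⊓ centralizer ({h} : Set Y) with hF
  have hF2 : Nat.card F = 2 := sixteen_fixed h7 (fun b hb => Normal.conj_mem inferInstance b hb h) h16 hc hhc
  have heF : e ∈ F := ⟨he, mem_centralizer_singleton_iff.2 hhe.symm⟩
  have hFe : ∀ x ∈ F, x = 1 ∨ x = e := fun x hx => two_cases hF2.le heF he1 hx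
  set U := (dltHom hB h).range.map B.subtype with hU
  have hUB : U ≤ B := map_subtype_le _
  have hU8 : Nat.card U = 8 := by
    have hr := card_range_dlt hB h
    rw [hU, card_map_of_injective B.subtype_injective]
    rw [show Nat.card (B ⊓ centralizer ({h} : Set Y) : Subgroup Y) = 2 from hF2,
      show Nat.card B = 16 from h16] at hr
    refine Nat.eq_of_mul_eq_mul_right (show 0 < 2 by norm_num) ?_
    exact hr
  have hUmem : ∀ b ∈ B, b * (h * b * h⁻¹) ∈ U := fun b hb =>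
    ⟨dltHom hB h ⟨b, hb⟩, ⟨_, rfl⟩, rfl⟩
  have heU : e ∉ U := by
    intro hm
    obtain ⟨_, ⟨⟨b, hb⟩, rfl⟩, hbe⟩ := hm
    change b * (h * b * h⁻¹) = e at hbe
    have hb' : h * b * h⁻¹ = b * e := by rw [← hbe, ← mul_assoc, hB b hb, one_mul]
    have hit : ∀ n : ℕ, h ^ n * b * (h ^ n)⁻¹ = b * e ^ n := by
      intro n
      induction n with
      | zero => simp
      | succ n ih =>
        rw [pow_succ', show h * h ^ n * b * (h * h ^ n)⁻¹ = h * (h ^ n * b * (h ^ n)⁻¹) * h⁻¹ by group,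
          ih, show h * (b * e ^ n) * h⁻¹ = (h * b * h⁻¹) * (h * e ^ n * h⁻¹) by group, hb',
          show h * e ^ n * h⁻¹ = e ^ n from conj_eq_iff.2 ((show Commute h e from hhe).pow_right n).eq,
          pow_succ', mul_assoc]
    have := hit 7
    rw [h7, one_mul, inv_one, mul_one, show e ^ 7 = e by
      rw [show 7 = 2 * 3 + 1 from rfl, pow_succ, pow_mul, pow_two, hB e he, one_pow, one_mul]] at this
    exact he1 (left_eq_mul.1 this)
  have hUinv : ∀ u ∈ U, h * u * h⁻¹ ∈ U := by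
    rintro _ ⟨_, ⟨⟨b, hb⟩, rfl⟩, rfl⟩
    show h * (b * (h * b * h⁻¹)) * h⁻¹ ∈ U
    rw [show h * (b * (h * b * h⁻¹)) * h⁻¹ = (h * b * h⁻¹) * (h * (h * b * h⁻¹) * h⁻¹) by group]
    exact hUmem _ (Normal.conj_mem inferInstance b hb h)
  -- the set lies on one side of the hyperplane
  have hside : ∀ P : Y → Prop, (∀ x ∈ O, P x → P (h * x * h⁻¹)) → (∃ x ∈ O, P x) → ∀ x ∈ O, P x := by
    intro P hP ⟨x0, hx0, hPx0⟩
    have hm := card_set_modEq h7 (S := {x | x ∈ O ∧ P x}) fun x hx => ⟨hinv h x hx.1, hP x hx.1 hx.2⟩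
    have h0 : Nat.card {s : Y // s ∈ {x | x ∈ O ∧ P x} ∧ h * s * h⁻¹ = s} = 0 := by
      haveI : IsEmpty {s : Y // s ∈ {x | x ∈ O ∧ P x} ∧ h * s * h⁻¹ = s} := by
        refine ⟨fun ⟨x, ⟨hxO, _⟩, hx⟩ => ?_⟩
        rcases hFe x ⟨hOB hxO, mem_centralizer_singleton_iff.2 (conj_eq_iff.1 hx).symm⟩ with rfl | rfl
        exacts [h1O hxO, heO hxO]
      exact Nat.card_of_isEmpty
    rw [h0, Nat.card_coe_set_eq] at hm
    have hpos : 0 < {x | x ∈ O ∧ P x}.ncard := (Set.ncard_pos (Set.toFinite _)).2 ⟨x0, hx0, hPx0⟩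
    have hle : {x | x ∈ O ∧ P x}.ncard ≤ O.ncard := Set.ncard_le_ncard (fun x hx => hx.1) (Set.toFinite _)
    rw [← Nat.card_coe_set_eq O, hO7] at hle
    rw [Nat.ModEq] at hm
    have heq : {x | x ∈ O ∧ P x} = O := Set.eq_of_subset_of_ncard_le (fun x hx => hx.1)
      (by rw [← Nat.card_coe_set_eq O, hO7]; omega) (Set.toFinite _)
    exact fun x hx => (heq.ge hx).2
  have hsplit : ∀ b ∈ B, b ∉ U → b * e ∈ U := by
    have hidx : (U.subgroupOf B).index = 2 := by
      have := (U.subgroupOf B).card_mul_index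
      rw [Nat.card_congr (subgroupOfEquivOfLe hUB).toEquiv, hU8, h16] at this
      omega
    intro b hb hbU
    have := (mul_mem_iff_of_index_two hidx (a := (⟨b, hb⟩ : B)) (b := ⟨e, he⟩)).2
      (by simp only [mem_subgroupOf]; exact ⟨fun hh => absurd hh hbU, fun hh => absurd hh heU⟩)
    exact this
  obtain ⟨x0, hx0⟩ : O.Nonempty := Set.nonempty_of_ncard_ne_zero (by rw [← Nat.card_coe_set_eq, hO7]; norm_num)
  have hcardU : ∀ f : Y → Y, (∀ o ∈ O, f o ∈ U ∧ f o ≠ 1) → Set.InjOn f O → ∀ u ∈ U, u ≠ 1 → ∃ o ∈ O, f o = u := by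
    intro f hf hfi u hu hu1
    have hsub : f '' O ⊆ (U : Set Y) \ {1} := by
      rintro _ ⟨o, ho, rfl⟩; exact ⟨(hf o ho).1, (hf o ho).2⟩
    have hc : (f '' O).ncard = 7 := by rw [hfi.ncard_image, ← Nat.card_coe_set_eq, hO7]
    have hd : ((U : Set Y) \ {1}).ncard = 7 := by
      rw [Set.ncard_diff_singleton_of_mem (one_mem U), ← Nat.card_coe_set_eq]
      show Nat.card U - 1 = 7
      rw [hU8]
    obtain ⟨o, ho, rfl⟩ := (Set.eq_of_subset_of_ncard_le hsub (by rw [hc, hd]) (Set.toFinite _)).ge ⟨hu, hu1⟩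
    exact ⟨o, ho, rfl⟩
  refine ⟨U, ⟨fun u hu g => ?_⟩, hUB, hU8, heU⟩
  by_cases hin : x0 ∈ U
  · have hall := hside (fun x => x ∈ U) (fun x _ hx => hUinv x hx) ⟨x0, hx0, hin⟩
    by_cases hu1 : u = 1
    · rw [hu1, mul_one, mul_inv_cancel]; exact one_mem U
    obtain ⟨o, ho, rfl⟩ := hcardU id (fun o ho => ⟨hall o ho, fun e => h1O (e ▸ ho)⟩)
      (Set.injOn_id _) u hu hu1
    exact hall _ (hinv g o ho)
  · have hall : ∀ x ∈ O, x * e ∈ U := by
      refine hside (fun x => x * e ∈ U) (fun x _ hx => ?_) ⟨x0, hx0, hsplit x0 (hOB hx0) hin⟩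
      have := hUinv _ hx
      rwa [show h * (x * e) * h⁻¹ = h * x * h⁻¹ * (h * e * h⁻¹) by group, conj_eq_iff.2 hhe] at this
    by_cases hu1 : u = 1
    · rw [hu1, mul_one, mul_inv_cancel]; exact one_mem U
    have hsur := hcardU (fun o => o * e) (fun o ho => ⟨hall o ho, fun hh => heO (by
      rw [← hB.inv_eq he, ← eq_inv_of_mul_eq_one_left hh]; exact ho)⟩)
      (fun a _ b _ hab => mul_right_cancel hab)
    obtain ⟨u1, hu1U, hu11, hu1u⟩ : ∃ u1 ∈ U, u1 ≠ 1 ∧ u1 ≠ u := by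
      by_contra! hall'
      have hsub : (U : Set Y) ⊆ {1, u} := fun x hx => by
        by_cases hx1 : x = 1
        · exact Or.inl hx1
        · exact Or.inr (hall' x hx hx1)
      have := (Set.ncard_le_ncard hsub (Set.toFinite _)).trans (Set.ncard_insert_le 1 {u})
      rw [← Nat.card_coe_set_eq, Set.ncard_singleton] at this
      rw [show Nat.card ((U : Set Y) : Set Y) = 8 from hU8] at this
      omega
    obtain ⟨o1, ho1, e1⟩ := hsur u1 hu1U hu11
    obtain ⟨o2, ho2, e2⟩ := hsur (u1 * u) (mul_mem hu1U hu) fun hh => hu1u (by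
      rw [eq_inv_of_mul_eq_one_left hh, hB.inv_eq (hUB hu)])
    have hprod : u = o1 * o2 := by
      have h1 : (o1 * e) * (o2 * e) = o1 * o2 := by
        rw [mul_assoc o1, ← mul_assoc e, hB.comm he (hOB ho2), mul_assoc, hB e he, mul_one]
      rw [← h1, e1, e2, ← mul_assoc, hB u1 (hUB hu1U), one_mul]
    rw [hprod, show g * (o1 * o2) * g⁻¹ = (g * o1 * g⁻¹) * (g * o2 * g⁻¹) by group]
    have a1 := hall _ (hinv g o1 ho1)
    have a2 := hall _ (hinv g o2 ho2)
    have h2 : (g * o1 * g⁻¹ * e) * (g * o2 * g⁻¹ * e) = (g * o1 * g⁻¹) * (g * o2 * g⁻¹) := by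
      calc (g * o1 * g⁻¹ * e) * (g * o2 * g⁻¹ * e)
          = (g * o1 * g⁻¹) * (e * (g * o2 * g⁻¹)) * e := by group
        _ = (g * o1 * g⁻¹) * (g * o2 * g⁻¹ * e) * e := by rw [hB.comm he (hOB (hinv g o2 ho2))]
        _ = (g * o1 * g⁻¹) * (g * o2 * g⁻¹) * (e * e) := by group
        _ = _ := by rw [hB e he, mul_one]
    exact h2 ▸ mul_mem a1 a2

/-- Either the fixed point of `h` is fixed by all, or it has an orbit of `8` and there is an invariant
hyperplane off which involutions fix nothing. -/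
theorem fixed_or_hyperplane (τ : Top Q) {h : Y} (h7 : h ^ 7 = 1) {B : Subgroup Y}
    [B.Normal] (hB : Exp2 B) (h16 : Nat.card B = 16) (hQB : ∀ q ∈ Q, ∀ b ∈ B, q * b = b * q)
    {e : Y} (he : e ∈ B) (he1 : e ≠ 1) (hhe : h * e = e * h) {c : Y} (hc : c ∈ B) (hhc : h * c ≠ c * h) :
    (∀ g : Y, g * e = e * g) ∨ ∃ U : Subgroup Y, U.Normal ∧ U ≤ B ∧ Nat.card U = 8 ∧ e ∉ U ∧
      ∀ b ∈ B, b ∉ U → ∀ x : Y, x ∉ Q → x * x ∈ Q → x * b ≠ b * x := by
  classical
  haveI : Fact (Nat.Prime 7) := ⟨by norm_num⟩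
  have hFe : ∀ x ∈ B, h * x = x * h → x = 1 ∨ x = e := fun x hx hhx =>
    two_cases (sixteen_fixed h7 (fun b hb => Normal.conj_mem inferInstance b hb h) h16 hc hhc).le
      (show e ∈ B ⊓ centralizer ({h} : Set Y) from ⟨he, mem_centralizer_singleton_iff.2 hhe.symm⟩) he1
      ⟨hx, mem_centralizer_singleton_iff.2 hhx.symm⟩
  set C := centralizer ({e} : Set Y) with hC
  have hQC : Q ≤ C := fun q hq => mem_centralizer_singleton_iff.2 (hQB q hq e he)
  set E : Set Y := Set.range fun g : Y => g * e * g⁻¹ with hE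
  have hEC : Nat.card E = C.index := by
    refine (Nat.card_congr (Equiv.ofBijective (fun q : Y ⧸ C => (⟨q.out * e * q.out⁻¹, q.out, rfl⟩ : E))
      ⟨fun a b hab => ?_, ?_⟩)).symm
    · have h' : a.out * e * a.out⁻¹ = b.out * e * b.out⁻¹ := congrArg Subtype.val hab
      rw [← QuotientGroup.out_eq' a, ← QuotientGroup.out_eq' b, QuotientGroup.eq]
      refine mem_centralizer_singleton_iff.2 ?_
      calc a.out⁻¹ * b.out * e = a.out⁻¹ * (b.out * e * b.out⁻¹) * b.out := by group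
        _ = a.out⁻¹ * (a.out * e * a.out⁻¹) * b.out := by rw [h']
        _ = e * (a.out⁻¹ * b.out) := by group
    · rintro ⟨_, g, rfl⟩
      obtain ⟨⟨c', hc'⟩, hcg⟩ := QuotientGroup.mk_out_eq_mul C g
      refine ⟨(g : Y ⧸ C), Subtype.ext ?_⟩
      show (g : Y ⧸ C).out * e * (g : Y ⧸ C).out⁻¹ = g * e * g⁻¹
      rw [hcg, show g * c' * e * (g * c')⁻¹ = g * (c' * e * c'⁻¹) * g⁻¹ by group,
        conj_eq_iff.2 (mem_centralizer_singleton_iff.1 hc')]
  have hEB : E ⊆ B := by rintro _ ⟨g, rfl⟩; exact Normal.conj_mem inferInstance e he g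
  have hEinv : ∀ g : Y, ∀ x ∈ E, g * x * g⁻¹ ∈ E := by
    rintro g _ ⟨k, rfl⟩
    exact ⟨g * k, by group⟩
  have heE : e ∈ E := ⟨1, by group⟩
  have h1E : (1 : Y) ∉ E := fun ⟨g, hg⟩ => he1 (conj_eq_one_iff.1 hg)
  have hfixE : {s : Y // s ∈ E ∧ h * s * h⁻¹ = s} ≃ Unit :=
    { toFun := fun _ => ()
      invFun := fun _ => ⟨e, heE, conj_eq_iff.2 hhe⟩
      left_inv := fun ⟨s, hsE, hs⟩ => Subtype.ext
        ((hFe s (hEB hsE) (conj_eq_iff.1 hs)).resolve_left fun h1 => h1E (h1 ▸ hsE)).symm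
      right_inv := fun _ => rfl }
  have hm := card_set_modEq h7 (S := E) (hEinv h)
  rw [Nat.card_congr hfixE, Nat.card_unique (α := Unit), hEC] at hm
  have hd : C.index ∣ 168 := by
    have := index_dvd_of_le hQC
    rwa [index_eq_card Q, τ.card] at this
  have hle : C.index ≤ 15 := by
    rw [← hEC, Nat.card_coe_set_eq]
    have h15 : ((B : Set Y) \ {1}).ncard = 15 := by
      rw [Set.ncard_diff_singleton_of_mem (one_mem B), ← Nat.card_coe_set_eq]
      show Nat.card B - 1 = 15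
      rw [h16]
    exact h15 ▸ Set.ncard_le_ncard (fun x hx => ⟨hEB hx, fun h1 => h1E (h1 ▸ hx)⟩) (Set.toFinite _)
  rcases (show C.index = 1 ∨ C.index = 8 by
    rw [Nat.ModEq] at hm
    generalize C.index = i at hm hd hle
    interval_cases i <;> omega) with h1 | h8
  · exact Or.inl fun g => mem_centralizer_singleton_iff.1 ((index_eq_one.1 h1).ge (mem_top g))
  refine Or.inr ?_
  -- the stabilizer has odd order modulo `Q`
  have hodd : ∀ x, x * x ∈ Q → x ∈ C → x ∈ Q := by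
    intro x hxx hxC
    have h21 : (Q.subgroupOf C).index = 21 := by
      have := relIndex_mul_index hQC
      rw [h8, index_eq_card Q, τ.card] at this
      rw [relIndex] at this
      omega
    haveI : (Q.subgroupOf C).Normal := Normal.subgroupOf inferInstance C
    have h' := pow_index_mem (Q.subgroupOf C) (⟨x, hxC⟩ : C)
    rw [h21, mem_subgroupOf, Subgroup.coe_pow] at h'
    change x ^ 21 ∈ Q at h'
    rw [show x = x ^ 21 * ((x * x) ^ 10)⁻¹ by rw [← pow_two, ← pow_mul, eq_mul_inv_iff_mul_eq, ← pow_succ']]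
    exact mul_mem h' (inv_mem (pow_mem hxx 10))
  set O : Set Y := (B : Set Y) \ (insert 1 E) with hO
  have hO7 : Nat.card O = 7 := by
    rw [Nat.card_coe_set_eq, hO, Set.ncard_diff (Set.insert_subset (one_mem B) hEB) (Set.toFinite _),
      Set.ncard_insert_of_notMem h1E (Set.toFinite _), ← Nat.card_coe_set_eq, ← Nat.card_coe_set_eq,
      hEC, h8]
    show Nat.card B - 9 = 7
    rw [h16]
  obtain ⟨U, hUn, hUB, hU8, heU⟩ := hyperplane_of_seven h7 hB h16 he he1 hhe hc hhc (O := O)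
    (fun x hx => hx.1) (fun hx => hx.2 (Or.inl rfl)) (fun hx => hx.2 (Or.inr heE)) hO7 (by
      intro g x hx
      refine ⟨Normal.conj_mem inferInstance x hx.1 g, ?_⟩
      rintro (h1 | hg)
      · exact hx.2 (Or.inl (conj_eq_one_iff.1 h1))
      · refine hx.2 (Or.inr ?_)
        have := hEinv g⁻¹ _ hg
        rwa [show g⁻¹ * (g * x * g⁻¹) * g⁻¹⁻¹ = x by group] at this)
  refine ⟨U, hUn, hUB, hU8, heU, fun b hb hbU x hxQ hxx hxb => ?_⟩
  have hEU : E ⊆ (B : Set Y) \ (U : Set Y) := by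
    rintro _ ⟨g, rfl⟩
    refine ⟨Normal.conj_mem inferInstance e he g, fun hm => heU ?_⟩
    have := hUn.conj_mem _ hm g⁻¹
    rwa [show g⁻¹ * (g * e * g⁻¹) * g⁻¹⁻¹ = e by group] at this
  have hBU : ((B : Set Y) \ (U : Set Y)).ncard = 8 := by
    rw [Set.ncard_diff hUB (Set.toFinite _), ← Nat.card_coe_set_eq, ← Nat.card_coe_set_eq]
    show Nat.card B - Nat.card U = 8
    rw [h16, hU8]
  obtain ⟨g, hg⟩ : b ∈ E := by
    rw [Set.eq_of_subset_of_ncard_le hEU (by rw [hBU, ← Nat.card_coe_set_eq, hEC, h8]) (Set.toFinite _)]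
    exact ⟨hb, hbU⟩
  have hy : g⁻¹ * x * g ∈ C := by
    rw [hC, mem_centralizer_singleton_iff]
    calc g⁻¹ * x * g * e = g⁻¹ * (x * (g * e * g⁻¹)) * g := by group
      _ = g⁻¹ * ((g * e * g⁻¹) * x) * g := by rw [show g * e * g⁻¹ = b from hg, hxb]
      _ = _ := by group
  have hyy : g⁻¹ * x * g * (g⁻¹ * x * g) ∈ Q := by
    rw [show g⁻¹ * x * g * (g⁻¹ * x * g) = g⁻¹ * (x * x) * g⁻¹⁻¹ by group]
    exact Normal.conj_mem inferInstance _ hxx _
  have := Normal.conj_mem inferInstance _ (hodd _ hyy hy) g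
  rw [show g * (g⁻¹ * x * g) * g⁻¹ = x by group] at this
  exact hxQ this

end Sixteen

/-! ### Complements -/

/-- A subgroup meeting `Q` in `A`, when all involutions modulo `Q` lift to involutions modulo `A`. -/
theorem exists_index_two {Q A : Subgroup Y} [Q.Normal] [A.Normal] (τ : Top Q) (π : Y →* L)
    (πsurj : Function.Surjective π) (πker : ∀ g, π g = 1 ↔ g ∈ Q) (hAQ : A ≤ Q) (h2 : Nat.card Q = 2 * Nat.card A)
    (hsq : ∀ x, x * x ∈ Q → x * x ∈ A) :
    ∃ Y1 : Subgroup Y, A ≤ Y1 ∧ Y1 ⊓ Q = A ∧ Y1 ⊔ Q = ⊤ ∧ Y1.index = 2 := by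
  classical
  haveI : Fact (Nat.Prime 2) := ⟨Nat.prime_two⟩
  set p := QuotientGroup.mk' A with hp
  set K := Q.map p with hK
  haveI : K.Normal := Normal.map inferInstance _ (QuotientGroup.mk'_surjective A)
  have hK2 : Nat.card K = 2 := by
    have := card_map_mk hAQ
    rw [h2, mul_comm 2] at this
    exact (Nat.eq_of_mul_eq_mul_left Nat.card_pos this).symm
  haveI : IsMulCommutative K := by
    haveI : IsCyclic K := isCyclic_of_prime_card hK2
    exact IsCyclic.isMulCommutative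
  obtain ⟨s, hs⟩ := πsurj gS
  obtain ⟨r, hr⟩ := πsurj gR
  obtain ⟨hR2, hR1, hRS, hfree⟩ := gR_facts
  have hone : ∀ x, π (x * x) = 1 → p (x * x) = 1 := fun x hx =>
    (QuotientGroup.eq_one_iff _).2 (hsq x ((πker _).1 hx))
  have hs4 : p s ^ 4 = 1 := by
    rw [show p s ^ 4 = p (s * s * (s * s)) by simp only [map_mul, pow_succ, pow_zero, one_mul, mul_assoc]]
    exact hone _ (by simp only [map_mul, hs]; decide)
  have hrr : p r * p r = 1 := by
    rw [← map_mul]; exact hone _ (by rw [map_mul, hr, hR2])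
  have hrs : p r * p s * (p r * p s) = 1 := by
    rw [← map_mul, ← map_mul]; exact hone _ (by simp only [map_mul, hr, hs]; rw [← mul_assoc, hRS])
  set Zs := zpowers (p s) with hZs
  set Zr := zpowers (p r) with hZr
  have hnorm : Zr ≤ normalizer (Zs : Set (Y ⧸ A)) := by
    rw [hZr, zpowers_le, mem_normalizer_iff]
    have key : ∀ x ∈ Zs, p r * x * (p r)⁻¹ = x⁻¹ := by
      intro x hx
      obtain ⟨n, rfl⟩ := mem_zpowers_iff.1 hx
      rw [← conj_zpow, show p r * p s * (p r)⁻¹ = (p s)⁻¹ from eq_inv_of_mul_eq_one_left (by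
        rw [inv_eq_of_mul_eq_one_right hrr, ← hrs]; group), _root_.inv_zpow]
    intro x
    refine ⟨fun hx => by rw [key x hx]; exact inv_mem hx, fun hx => ?_⟩
    have h1 := key _ hx
    rw [show p r * (p r * x * (p r)⁻¹) * (p r)⁻¹ = p r * p r * x * (p r * p r)⁻¹ by group, hrr, one_mul,
      inv_one, mul_one] at h1
    rw [h1]
    exact inv_mem hx
  set A0 := Zr ⊔ Zs with hA0
  set U := K ⊔ A0 with hU
  have hAK : A0 ⊓ K = ⊥ := by
    rw [eq_bot_iff_forall]
    rintro x ⟨hx, hxK⟩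
    have hx' : x ∈ ((Zr ⊔ Zs : Subgroup (Y ⧸ A)) : Set (Y ⧸ A)) := hx
    rw [coe_mul_of_left_le_normalizer_right Zr Zs hnorm] at hx'
    obtain ⟨a, ha, b, hb, rfl⟩ := Set.mem_mul.1 hx'
    obtain ⟨j, rfl⟩ := mem_powers_iff_mem_zpowers.2 ha
    obtain ⟨i, rfl⟩ := mem_powers_iff_mem_zpowers.2 hb
    dsimp only at hxK ⊢
    rw [pow_eq_pow_mod i hs4, pow_eq_pow_mod j (show p r ^ 2 = 1 by rw [pow_two, hrr])] at hxK ⊢
    obtain ⟨q, hq, hqe⟩ := hxK
    rw [← map_pow, ← map_pow, ← map_mul] at hqe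
    have hm : q⁻¹ * (r ^ (j % 2) * s ^ (i % 4)) ∈ A := QuotientGroup.eq.1 hqe
    have hπ : π (r ^ (j % 2) * s ^ (i % 4)) = 1 :=
      (πker _).2 (by simpa using mul_mem hq (hAQ hm))
    rw [map_mul, map_pow, map_pow, hr, hs] at hπ
    obtain ⟨hj, hi⟩ := hfree ⟨j % 2, Nat.mod_lt _ two_pos⟩ ⟨i % 4, Nat.mod_lt _ (by norm_num)⟩ hπ
    rw [show j % 2 = 0 from congrArg Fin.val hj, show i % 4 = 0 from congrArg Fin.val hi, pow_zero,
      pow_zero, mul_one]
  have hcop : (Nat.card K).Coprime U.index := by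
    rw [hK2]
    refine Nat.coprime_two_left.2 ?_
    -- the image in `L` has order at least `8`
    set π' : Y →* L := π
    have hA' : A ≤ π'.ker := fun a ha => MonoidHom.mem_ker.2 ((πker a).2 (hAQ ha))
    set φ := QuotientGroup.lift A π' hA' with hφ
    have hφs : Function.Surjective φ := fun g => by
      obtain ⟨y, rfl⟩ := πsurj g; exact ⟨p y, rfl⟩
    have hkerU : φ.ker ≤ U := by
      intro x hx
      obtain ⟨y, rfl⟩ := QuotientGroup.mk'_surjective A x
      exact mem_sup_left (mem_map_of_mem _ ((πker y).1 hx))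
    have hidx : U.index = (U.map φ).index := (index_map_eq U hφs hkerU).symm
    rw [hidx]
    have hgS : gS ∈ U.map φ := ⟨p s, mem_sup_right (mem_sup_right (mem_zpowers _)), hs⟩
    have hgR : gR ∈ U.map φ := ⟨p r, mem_sup_right (mem_sup_left (mem_zpowers _)), hr⟩
    let f : Fin 2 × Fin 4 → U.map φ := fun ij =>
      ⟨gR ^ (ij.1 : ℕ) * gS ^ (ij.2 : ℕ), mul_mem (pow_mem hgR _) (pow_mem hgS _)⟩
    have hdec : ∀ a b : Fin 2 × Fin 4, gR ^ (a.1 : ℕ) * gS ^ (a.2 : ℕ) = gR ^ (b.1 : ℕ) * gS ^ (b.2 : ℕ) → a = b := by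
      decide
    have hf : Function.Injective f := fun a b h => hdec a b (congrArg Subtype.val h)
    have h8 : 8 ≤ Nat.card (U.map φ) := by
      have := Nat.card_le_card_of_injective f hf
      simpa using this
    have hp2 : IsPGroup 2 (U.map φ) := by
      have hU8 : IsPGroup 2 (zpowers gR ⊔ zpowers gS : Subgroup L) → IsPGroup 2 (U.map φ) := by
        refine fun h => h.to_le ?_
        rw [hU, Subgroup.map_sup, hA0, Subgroup.map_sup, MonoidHom.map_zpowers, MonoidHom.map_zpowers]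
        refine sup_le ?_ (sup_le_sup (zpowers_le.2 ?_) (zpowers_le.2 ?_))
        · rintro _ ⟨_, ⟨q, hq, rfl⟩, rfl⟩
          rw [show φ (p q) = π' q from rfl, show π' q = 1 from (πker q).2 hq]
          exact one_mem _
        · rw [show φ (p r) = π' r from rfl, show π' r = gR from hr]; exact mem_zpowers _
        · rw [show φ (p s) = π' s from rfl, show π' s = gS from hs]; exact mem_zpowers _
      refine hU8 (IsPGroup.to_sup_of_normal_right' ?_ ?_ ?_)
      · exact IsPGroup.of_card (n := 1) (by rw [Nat.card_zpowers, orderOf_eq_prime (by rw [pow_two]; exact hR2) hR1, pow_one])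
      · refine IsPGroup.of_card (n := 2) ?_
        rw [Nat.card_zpowers]
        exact orderOf_eq_prime_pow (p := 2) (n := 1) (by decide) (by decide)
      · rw [zpowers_le, mem_normalizer_iff]
        have key : ∀ x ∈ zpowers gS, gR * x * gR⁻¹ ∈ zpowers gS := by
          intro x hx
          obtain ⟨n, rfl⟩ := mem_zpowers_iff.1 hx
          rw [← conj_zpow]
          exact zpow_mem (show gR * gS * gR⁻¹ ∈ zpowers gS from ⟨-1, by decide⟩) n
        intro x
        refine ⟨key x, fun hx => ?_⟩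
        have := key _ hx
        rwa [show gR * (gR * x * gR⁻¹) * gR⁻¹ = gR * gR * x * (gR * gR)⁻¹ by group, hR2, one_mul,
          inv_one, mul_one] at this
    obtain ⟨n, hn⟩ := hp2.exists_card_eq
    have hmul := (U.map φ).index_mul_card
    rw [hn, StructC.AltEight.gl_three_two.2] at hmul
    rw [hn] at h8
    have hd : 2 ^ n ∣ 168 := ⟨(U.map φ).index, by rw [← hmul, mul_comm]⟩
    have hn3 : n = 3 := by
      have h2le := Nat.le_of_dvd (by norm_num) hd
      have hn8 : n < 8 := by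
        by_contra hge
        have := Nat.pow_le_pow_right (show 1 ≤ 2 by norm_num) (not_lt.1 hge)
        omega
      interval_cases n <;> omega
    rw [hn3] at hmul
    rw [show (U.map φ).index = 21 by omega]
    decide
  obtain ⟨H, hH⟩ := Solvable.gaschutz_exists (le_sup_left : K ≤ U) hcop hAK rfl
  refine ⟨H.comap p, fun a ha => ?_, ?_, ?_, ?_⟩
  · show p a ∈ H
    rw [show p a = 1 from (QuotientGroup.eq_one_iff a).2 ha]; exact one_mem H
  · refine le_antisymm (fun x hx => ?_) (fun a ha => ⟨?_, hAQ ha⟩)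
    · exact (QuotientGroup.eq_one_iff x).1 (disjoint_def.1 hH.disjoint (mem_map_of_mem _ hx.2) hx.1)
    · show p a ∈ H
      rw [show p a = 1 from (QuotientGroup.eq_one_iff a).2 ha]; exact one_mem H
  · refine eq_top_iff.2 fun x _ => ?_
    have hx : p x ∈ ((K ⊔ H : Subgroup (Y ⧸ A)) : Set (Y ⧸ A)) := by rw [hH.sup_eq_top]; trivial
    rw [Subgroup.normal_mul] at hx
    obtain ⟨_, ⟨q, hq, rfl⟩, b, hb, hqb⟩ := Set.mem_mul.1 hx
    have hbm : q⁻¹ * x ∈ H.comap p := by
      show p (q⁻¹ * x) ∈ H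
      rw [map_mul, map_inv, ← hqb, inv_mul_cancel_left]; exact hb
    rw [show x = q * (q⁻¹ * x) by group]
    exact mul_mem (mem_sup_right hq) (mem_sup_left hbm)
  · rw [index_comap_of_surjective _ (QuotientGroup.mk'_surjective A), hH.index_eq_card, hK2]

end CfsgLib.SRank.Seven
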