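import Cfsg.Agent.Lib.SRank.Seven.LayerTwo

/-!
`O₂` of a group of sectional `2`-rank `4` with quotient `L₃(2)`: `E₈`, `E₁₆` or `C₄ × E₈`.
-/

set_option autoImplicit false
set_option linter.style.haveILetI false

namespace CfsgLib.SRank.Seven

open Subgroup Matrix
open CfsgLib.SRank.Five (card_map_mk card_set_modEq exists_lift squares)

universe u

theorem psl_facts {F : Type*} [Field F] [Fintype F] (hF : Fintype.card F = 2) :
    IsSimpleGroup (Matrix.ProjectiveSpecialLinearGroup (Fin 3) F) ∧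
      Nat.card (Matrix.ProjectiveSpecialLinearGroup (Fin 3) F) = 168 := by
  classical
  have h01 : ∀ r : F, r = 0 ∨ r = 1 := by
    intro r
    by_contra! hr
    have : ({0, 1, r} : Finset F).card = 3 := Finset.card_eq_three.2 ⟨0, 1, r, zero_ne_one, hr.1.symm, hr.2.symm, rfl⟩
    have := Finset.card_le_univ ({0, 1, r} : Finset F)
    omega
  have hdet : ∀ g : GL (Fin 3) F, (g : Matrix (Fin 3) (Fin 3) F).det = 1 := fun g =>
    (h01 _).resolve_left ((Matrix.isUnit_iff_isUnit_det _).1 g.isUnit).ne_zero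
  let c0 : GL (Fin 3) F →* Matrix.SpecialLinearGroup (Fin 3) F :=
      { toFun := fun g => ⟨g, hdet g⟩
        map_one' := rfl
        map_mul' := fun _ _ => rfl }
  let c : GL (Fin 3) F →* Matrix.ProjectiveSpecialLinearGroup (Fin 3) F := (QuotientGroup.mk' _).comp c0
  have hc : Function.Bijective c := by
    refine ⟨?_, ?_⟩
    · rw [← MonoidHom.ker_eq_bot_iff, Subgroup.eq_bot_iff_forall]
      intro g hg
      have hg' : c0 g ∈ Subgroup.center (Matrix.SpecialLinearGroup (Fin 3) F) :=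
        (QuotientGroup.eq_one_iff _).1 hg
      obtain ⟨r, hr, hA⟩ := Matrix.SpecialLinearGroup.mem_center_iff.1 hg'
      refine Units.ext ?_
      have hA' : Matrix.scalar (Fin 3) r = (g : Matrix (Fin 3) (Fin 3) F) := hA
      rw [← hA']
      rcases h01 r with rfl | rfl
      · exact absurd hr (by simp)
      · simp
    · intro y
      obtain ⟨s, rfl⟩ := QuotientGroup.mk'_surjective _ y
      exact ⟨Matrix.SpecialLinearGroup.toGL s, congrArg (QuotientGroup.mk' _) (Subtype.ext rfl)⟩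
  refine ⟨CfsgLib.Classical.isSimpleGroup_psl (ι := Fin 3) (F := F) (by simp), ?_⟩
  rw [← Nat.card_congr (MulEquiv.ofBijective c hc).toEquiv, Matrix.card_GL_field]
  simp [Fin.prod_univ_three, hF]

variable {Y : Type u} [Group Y] [Finite Y]

/-- The hypotheses. -/
structure Setting (Q P : Subgroup Y) [Q.Normal] [P.Normal] : Prop where
  τ : Top Q
  rank : Cfsg.SectionalPRankLE 2 4 Y
  sqgen : P = squares Q
  self : ∀ y, (∀ q ∈ Q, y * q * y⁻¹ * q⁻¹ ∈ P) → y ∈ Q

/-- The possible shapes. -/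
def Shape (Q P : Subgroup Y) : Prop :=
  (P = ⊥ ∧ (Nat.card Q = 8 ∨ Nat.card Q = 16)) ∨
    (Nat.card P = 2 ∧ Nat.card Q = 32 ∧ ∀ a ∈ Q, ∀ b ∈ Q, a * b = b * a)

namespace Setting

variable {Q P : Subgroup Y} [Q.Normal] [P.Normal] (σ : Setting Q P)
include σ

omit [Finite Y] in
theorem sq_mem {q : Y} (hq : q ∈ Q) : q * q ∈ P := σ.sqgen.ge (Subgroup.subset_closure ⟨q, hq, rfl⟩)

omit [Finite Y] in
theorem le : P ≤ Q := by
  rw [σ.sqgen, squares, Subgroup.closure_le]
  rintro _ ⟨q, hq, rfl⟩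
  exact mul_mem hq hq

omit [Finite Y] in
theorem le_of_sq {K : Subgroup Y} (hK : ∀ q ∈ Q, q * q ∈ K) : P ≤ K := by
  rw [σ.sqgen, squares, Subgroup.closure_le]
  rintro _ ⟨q, hq, rfl⟩
  exact hK q hq

theorem card_bar : Nat.card (Q.map (QuotientGroup.mk' P)) = 8 ∨ Nat.card (Q.map (QuotientGroup.mk' P)) = 16 := by
  haveI : Fact (Nat.Prime 2) := ⟨Nat.prime_two⟩
  set p := QuotientGroup.mk' P with hp
  set V := Q.map p with hV
  have hexp : Exp2 V := by
    rintro _ ⟨q, hq, rfl⟩
    rw [← map_mul]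
    exact (QuotientGroup.eq_one_iff _).2 (σ.sq_mem hq)
  have hle : Nat.card V ≤ 2 ^ 4 := Invol.prank_of_sectional (Invol.sectional_quotient P σ.rank) V
    hexp.isMulCommutative (fun a ha => by rw [pow_two]; exact hexp a ha)
  obtain ⟨n, hn⟩ := (σ.τ.two.map p).exists_card_eq
  rw [← hV] at hn
  have hn4 : n ≤ 4 := (Nat.pow_le_pow_iff_right (a := 2) (by norm_num)).1 (hn ▸ hle)
  obtain ⟨h, h7, hhQ⟩ := σ.τ.exists_seven
  have hn3 : 3 ≤ n := by
    by_contra hlt
    haveI : V.Normal := Normal.map inferInstance _ (QuotientGroup.mk'_surjective P)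
    refine hhQ (σ.self h fun q hq => (QuotientGroup.eq_one_iff _).1 ?_)
    show p h * p q * (p h)⁻¹ * (p q)⁻¹ = 1
    rw [small_fixed (h := p h) (by rw [← map_pow, h7, map_one])
      (fun x hx => Normal.conj_mem (inferInstance : V.Normal) x hx _) hn (by omega) (mem_map_of_mem p hq),
      mul_inv_cancel_right, mul_inv_cancel]
  rw [hn]
  rcases (show n = 3 ∨ n = 4 by omega) with rfl | rfl <;> norm_num

/-- A minimal normal subgroup inside `P`. -/
theorem exists_minimal (hP : P ≠ ⊥) : ∃ (W : Subgroup Y) (_ : W.Normal), W ≤ P ∧ Exp2 W ∧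
    (∀ q ∈ Q, ∀ w ∈ W, q * w = w * q) ∧
    ((Nat.card W = 2 ∧ ∀ g : Y, ∀ w ∈ W, g * w = w * g) ∨
      (Nat.card W = 8 ∧ ∃ g, ∃ w ∈ W, g * w ≠ w * g)) := by
  classical
  haveI : Fact (Nat.Prime 2) := ⟨Nat.prime_two⟩
  have hex : ∃ n, ∃ K : Subgroup Y, K.Normal ∧ K ≠ ⊥ ∧ K ≤ P ∧ Nat.card K = n :=
    ⟨_, P, inferInstance, hP, le_rfl, rfl⟩
  obtain ⟨W, hWn, hW1, hWP, hWc⟩ := Nat.find_spec hex
  haveI := hWn
  have hmin : ∀ K : Subgroup Y, K.Normal → K ≤ W → K = ⊥ ∨ K = W := by
    intro K hK hKW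
    by_cases hK1 : K = ⊥
    · exact Or.inl hK1
    exact Or.inr (eq_of_le_of_card_ge hKW
      (hWc ▸ Nat.find_min' hex ⟨K, hK, hK1, hKW.trans hWP, rfl⟩))
  have hWQ := hWP.trans σ.le
  have hcen : W ≤ centralizer (Q : Set Y) := by
    haveI : (W.subgroupOf Q).Normal := Normal.subgroupOf inferInstance Q
    obtain ⟨z, hzW, hz1, hzc⟩ := InvChar.exists_mem_center_of_normal σ.τ.two (W.subgroupOf Q)
      (fun e => hW1 (by
        rw [eq_bot_iff]
        intro w hw
        have : (⟨w, hWQ hw⟩ : Q) = 1 := (eq_bot_iff_forall _).1 e _ hw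
        exact congrArg Subtype.val this))
    refine inf_eq_left.1 ((hmin _ inferInstance inf_le_left).resolve_left fun e => hz1 ?_)
    exact Subtype.ext ((eq_bot_iff_forall _).1 e z ⟨hzW,
      mem_centralizer_iff.2 fun q hq => congrArg Subtype.val (mem_center_iff.1 hzc ⟨q, hq⟩)⟩)
  have hcq : ∀ q ∈ Q, ∀ w ∈ W, q * w = w * q := fun q hq w hw => mem_centralizer_iff.1 (hcen hw) q hq
  have hexp : Exp2 W := by
    let W0 : Subgroup Y :=
      { carrier := {w | w ∈ W ∧ w * w = 1}
        mul_mem' := fun {a b} ha hb => ⟨mul_mem ha.1 hb.1, by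
          rw [mul_assoc, ← mul_assoc b, ← hcq a (hWQ ha.1) b hb.1, mul_assoc, hb.2, mul_one, ha.2]⟩
        one_mem' := ⟨one_mem _, one_mul 1⟩
        inv_mem' := fun {a} ha => ⟨inv_mem ha.1, by rw [← _root_.mul_inv_rev, ha.2, inv_one]⟩ }
    have hW0 : W0.Normal := ⟨fun w hw g => ⟨Normal.conj_mem inferInstance w hw.1 g, by
      rw [show g * w * g⁻¹ * (g * w * g⁻¹) = g * (w * w) * g⁻¹ by group, hw.2, mul_one, mul_inv_cancel]⟩⟩
    have hne : W0 ≠ ⊥ := by
      obtain ⟨k, hk⟩ := (σ.τ.two.to_le hWQ).exists_card_eq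
      have hk0 : k ≠ 0 := fun e => hW1 (card_eq_one.1 (by rw [hk, e, pow_zero]))
      obtain ⟨⟨w, hw⟩, ho⟩ := exists_prime_orderOf_dvd_card' (G := W) 2 (hk ▸ dvd_pow_self 2 hk0)
      intro e
      have h2 : w * w = 1 := by
        have := congrArg Subtype.val (pow_orderOf_eq_one (⟨w, hw⟩ : W))
        rwa [ho, pow_two] at this
      have hw1 : w = 1 := (eq_bot_iff_forall _).1 e w ⟨hw, h2⟩
      subst hw1
      simp at ho
    have := (hmin W0 hW0 fun w hw => hw.1).resolve_left hne
    intro w hw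
    exact (this.ge hw).2
  refine ⟨W, inferInstance, hWP, hexp, hcq, ?_⟩
  obtain ⟨h, h7, hhQ⟩ := σ.τ.exists_seven
  have hnorm : ∀ e ∈ W, (∀ g : Y, g * e = e * g) → e ≠ 1 → Nat.card W = 2 := by
    intro e he hec he1
    have hzn : (zpowers e).Normal := ⟨fun n hn g => by
      obtain ⟨i, rfl⟩ := mem_zpowers_iff.1 hn
      rw [conj_eq_iff.2 ((show Commute g e from hec g).zpow_right i).eq]
      exact zpow_mem (mem_zpowers e) i⟩
    rw [← (hmin _ hzn (zpowers_le.2 he)).resolve_left (zpowers_ne_bot.2 he1), Nat.card_zpowers,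
      orderOf_eq_prime_iff]
    exact ⟨by rw [pow_two]; exact hexp e he, he1⟩
  by_cases htriv : ∀ w ∈ W, h * w = w * h
  · have hK : centralizer (W : Set Y) = ⊤ := σ.τ.eq_top
      (fun q hq => mem_centralizer_iff.2 fun w hw => (hcq q hq w hw).symm)
      (mem_centralizer_iff.2 fun w hw => (htriv w hw).symm) hhQ
    have hWZ : ∀ g : Y, ∀ w ∈ W, g * w = w * g := fun g w hw =>
      (mem_centralizer_iff.1 (hK.ge (mem_top g)) w hw).symm
    obtain ⟨w, hw, hw1⟩ := W.bot_or_exists_ne_one.resolve_left hW1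
    exact Or.inl ⟨hnorm w hw (fun g => hWZ g w hw) hw1, hWZ⟩
  push Not at htriv
  obtain ⟨c, hc, hcm⟩ := htriv
  refine Or.inr ⟨?_, h, c, hc, hcm⟩
  have hle : Nat.card W ≤ 2 ^ 4 := Invol.prank_of_sectional σ.rank W hexp.isMulCommutative
    (fun a ha => by rw [pow_two]; exact hexp a ha)
  obtain ⟨n, hn⟩ := (σ.τ.two.to_le hWQ).exists_card_eq
  have hn4 : n ≤ 4 := (Nat.pow_le_pow_iff_right (a := 2) (by norm_num)).1 (hn ▸ hle)
  have hn3 : 3 ≤ n := by
    by_contra hlt
    exact hcm (small_fixed h7 (fun x hx => Normal.conj_mem inferInstance x hx h) hn (by omega) hc)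
  rcases (show n = 3 ∨ n = 4 by omega) with rfl | rfl
  · rw [hn]; norm_num
  exfalso
  have h16 : Nat.card W = 16 := by rw [hn]; norm_num
  have hF2 := sixteen_fixed h7 (fun x hx => Normal.conj_mem inferInstance x hx h) h16 hc hcm
  obtain ⟨e, he, he1⟩ := (W ⊓ centralizer ({h} : Set Y)).bot_or_exists_ne_one.resolve_left
    (fun e => by rw [e, card_bot] at hF2; norm_num at hF2)
  rcases fixed_or_hyperplane σ.τ h7 hexp h16 hcq he.1 he1 (mem_centralizer_singleton_iff.1 he.2).symm hc hcm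
    with hfix | ⟨U, hUn, hUW, hU8, -, -⟩
  · have := hnorm e he.1 hfix he1
    omega
  · rcases hmin U hUn hUW with e1 | e1
    · rw [e1, card_bot] at hU8; norm_num at hU8
    · rw [e1] at hU8; omega

end Setting

/-- `P` of order `2` with `Q / P` of order `16`: `Q` is abelian. -/
theorem comm_of_two {Q W : Subgroup Y} [Q.Normal] [W.Normal] {h : Y} (h7 : h ^ 7 = 1) (hWQ : W ≤ Q)
    (W2 : Nat.card W = 2) (Wc : ∀ g : Y, ∀ w ∈ W, g * w = w * g) (h32 : Nat.card Q = 32)
    (hsq : ∀ q ∈ Q, q * q ∈ W) (hmove : ∃ q ∈ Q, h * q * h⁻¹ * q⁻¹ ∉ W) :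
    ∀ a ∈ Q, ∀ b ∈ Q, a * b = b * a := by
  classical
  haveI : Fact (Nat.Prime 2) := ⟨Nat.prime_two⟩
  set p := QuotientGroup.mk' W with hp
  set V := Q.map p with hV
  haveI : V.Normal := Normal.map inferInstance _ (QuotientGroup.mk'_surjective W)
  have hVexp : Exp2 V := by
    rintro _ ⟨q, hq, rfl⟩
    rw [← map_mul]
    exact (QuotientGroup.eq_one_iff _).2 (hsq q hq)
  have hV16 : Nat.card V = 16 := by
    have := card_map_mk hWQ
    rw [h32, W2] at this
    change 32 = 2 * Nat.card V at this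
    omega
  have hb7 : p h ^ 7 = 1 := by rw [← map_pow, h7, map_one]
  have hcomW : ∀ a ∈ Q, ∀ b ∈ Q, a * b * a⁻¹ * b⁻¹ ∈ W := by
    intro a ha b hb
    refine (QuotientGroup.eq_one_iff _).1 ?_
    show p a * p b * (p a)⁻¹ * (p b)⁻¹ = 1
    rw [hVexp.comm (mem_map_of_mem p ha) (mem_map_of_mem p hb), mul_inv_cancel_right, mul_inv_cancel]
  obtain ⟨c, hcQ, hcm⟩ := hmove
  have hcm' : p h * p c ≠ p c * p h := fun hh => hcm ((QuotientGroup.eq_one_iff _).1 (by
    show p h * p c * (p h)⁻¹ * (p c)⁻¹ = 1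
    rw [hh, mul_inv_cancel_right, mul_inv_cancel]))
  have hF2 := sixteen_fixed hb7 (fun x hx => Normal.conj_mem (inferInstance : V.Normal) x hx (p h)) hV16
    (mem_map_of_mem p hcQ) hcm'
  obtain ⟨ev, hev, hev1⟩ := (V ⊓ centralizer ({p h} : Set (Y ⧸ W))).bot_or_exists_ne_one.resolve_left
    (fun e => by rw [e, card_bot] at hF2; norm_num at hF2)
  have hhe : p h * ev = ev * p h := (mem_centralizer_singleton_iff.1 hev.2).symm
  have hFe : ∀ x ∈ V, p h * x = x * p h → x = 1 ∨ x = ev := fun x hx hc =>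
    two_cases hF2.le hev hev1 ⟨hx, mem_centralizer_singleton_iff.2 hc.symm⟩
  obtain ⟨j, hjQ, hjv⟩ := hev.1
  -- an invariant subgroup of index at most `2` containing `j` is everything or small
  have key : ∀ B : Subgroup Y, W ≤ B → B ≤ Q → j ∈ B → (∀ x ∈ B, h * x * h⁻¹ ∈ B) → B = Q ∨ Nat.card B ≤ 4 := by
    intro B hWB hBQ hjB hBinv
    set Bb := B.map p with hBb
    have hd : Nat.card Bb ∣ 2 ^ 4 := by
      have := card_dvd_of_le (map_mono (f := p) hBQ)
      rwa [hV16] at this
    obtain ⟨i, hi, hic⟩ := (Nat.dvd_prime_pow Nat.prime_two).1 hd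
    have hcard : Nat.card B = 2 * Nat.card Bb := W2 ▸ card_map_mk hWB
    have hinv : ∀ x ∈ Bb, p h * x * (p h)⁻¹ ∈ Bb := by
      rintro _ ⟨x, hx, rfl⟩
      rw [← map_inv, ← map_mul, ← map_mul]
      exact mem_map_of_mem p (hBinv x hx)
    have hevB : ev ∈ Bb := ⟨j, hjB, hjv⟩
    rcases Nat.lt_or_ge i 4 with hlt | hge
    · refine Or.inr ?_
      by_contra hbig
      rw [hcard, hic] at hbig
      have hi2 : 2 ≤ i := by
        by_contra h2
        have : 2 ^ i ≤ 2 := by interval_cases i <;> norm_num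
        omega
      have hall : ∀ x ∈ Bb, p h * x = x * p h := by
        intro x hx
        rcases (show i = 2 ∨ i = 3 by omega) with rfl | rfl
        · exact small_fixed hb7 hinv hic le_rfl hx
        · by_contra hxm
          exact hev1 (eight_fixed hb7 hinv (hic.trans (by norm_num)) hx hxm hevB hhe)
      have h4 : 4 ≤ Nat.card Bb := by
        rw [hic]; calc 4 = 2 ^ 2 := by norm_num
          _ ≤ 2 ^ i := Nat.pow_le_pow_right (by norm_num) hi2
      have := card_le_of_le (show Bb ≤ V ⊓ centralizer ({p h} : Set (Y ⧸ W)) from fun x hx =>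
        ⟨map_mono hBQ hx, mem_centralizer_singleton_iff.2 (hall x hx).symm⟩)
      omega
    · refine Or.inl (eq_of_le_of_card_ge hBQ (le_of_eq ?_))
      rw [hcard, hic, h32, show i = 4 by omega]
      norm_num
  have hjh : ∀ x, j * x = x * j → j * (h * x * h⁻¹) = h * x * h⁻¹ * j := by
    intro x hx
    set w := (h⁻¹ * j * h) * j⁻¹ with hw
    have hwW : w ∈ W := by
      refine (QuotientGroup.eq_one_iff _).1 ?_
      show (p h)⁻¹ * p j * p h * (p j)⁻¹ = 1
      rw [hjv, mul_assoc (p h)⁻¹, ← hhe, inv_mul_cancel_left, mul_inv_cancel]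
    calc j * (h * x * h⁻¹) = h * ((h⁻¹ * j * h) * x) * h⁻¹ := by group
      _ = h * (w * (j * x)) * h⁻¹ := by rw [hw]; group
      _ = h * (w * (x * j)) * h⁻¹ := by rw [hx]
      _ = h * (w * x) * j * h⁻¹ := by group
      _ = h * (x * w) * j * h⁻¹ := by rw [Wc x w hwW]
      _ = _ := by rw [hw]; group
  have hjcen : ∀ q ∈ Q, q * j = j * q := by
    let β : Q →* W :=
      { toFun := fun v => ⟨j * (v : Y) * j⁻¹ * (v : Y)⁻¹, hcomW j hjQ v v.2⟩
        map_one' := Subtype.ext (by simp)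
        map_mul' := fun x v => Subtype.ext (by
          show j * ((x : Y) * v) * j⁻¹ * ((x : Y) * v)⁻¹ =
            j * (x : Y) * j⁻¹ * (x : Y)⁻¹ * (j * (v : Y) * j⁻¹ * (v : Y)⁻¹)
          calc j * ((x : Y) * v) * j⁻¹ * ((x : Y) * v)⁻¹ =
              j * (x : Y) * j⁻¹ * ((j * (v : Y) * j⁻¹ * (v : Y)⁻¹) * (x : Y)⁻¹) := by group
            _ = j * (x : Y) * j⁻¹ * ((x : Y)⁻¹ * (j * (v : Y) * j⁻¹ * (v : Y)⁻¹)) := by
              rw [← Wc (x : Y)⁻¹ _ (hcomW j hjQ v v.2)]
            _ = _ := by group) }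
    set C := β.ker.map Q.subtype with hC
    have hCmem : ∀ v, v ∈ C ↔ v ∈ Q ∧ j * v = v * j := by
      intro v
      constructor
      · rintro ⟨x, hx, rfl⟩
        exact ⟨x.2, conj_eq_iff.1 (mul_inv_eq_one.1 (congrArg Subtype.val (MonoidHom.mem_ker.1 hx)))⟩
      · rintro ⟨hv, hev'⟩
        refine ⟨⟨v, hv⟩, MonoidHom.mem_ker.2 (Subtype.ext ?_), rfl⟩
        show j * v * j⁻¹ * v⁻¹ = 1
        rw [hev', mul_inv_cancel_right, mul_inv_cancel]
    have h16 : 16 ≤ Nat.card C := by
      have h1 := β.ker.card_mul_index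
      rw [index_ker, h32, ← card_map_of_injective Q.subtype_injective, ← hC] at h1
      have h2 : Nat.card β.range ≤ 2 := W2 ▸ β.range.card_le_card_group
      nlinarith
    rcases key C (fun w hw => (hCmem w).2 ⟨hWQ hw, Wc j w hw⟩) (map_subtype_le _)
      ((hCmem j).2 ⟨hjQ, rfl⟩) (fun x hx => (hCmem _).2 ⟨Normal.conj_mem inferInstance x ((hCmem x).1 hx).1 h,
        hjh x ((hCmem x).1 hx).2⟩) with e | e
    · exact fun q hq => ((hCmem q).1 (e.ge hq)).2.symm
    · omega
  set Zc := Q ⊓ centralizer (Q : Set Y) with hZ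
  have hjZ : j ∈ Zc := ⟨hjQ, mem_centralizer_iff.2 hjcen⟩
  have hWZ : W ≤ Zc := fun w hw => ⟨hWQ hw, mem_centralizer_iff.2 fun q _ => Wc q w hw⟩
  rcases key Zc hWZ inf_le_left hjZ (fun x hx => Normal.conj_mem (inferInstance : Zc.Normal) x hx h) with e | e
  · exact fun a ha b hb => mem_centralizer_iff.1 (e.ge hb).2 a ha
  have hjW : j ∉ W := fun hm => hev1 (hjv ▸ (QuotientGroup.eq_one_iff j).2 hm)
  have h4 : Nat.card Zc = 4 := by
    have hd : Nat.card W ∣ Nat.card Zc := card_dvd_of_le hWZ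
    have hlt : W < Zc := lt_of_le_not_ge hWZ fun hh => hjW (hh hjZ)
    have := two_mul_card_le hlt
    omega
  refine comm_of_free h7 (P := Zc) inf_le_left (by rw [h32, h4]) ?_ W2 (fun q _ => Wc q)
    (fun q hq z hz => mem_centralizer_iff.1 hz.2 q hq) hcomW
  intro q hq hfix
  have hb : ∀ x ∈ Zc, p x = 1 ∨ p x = ev := by
    intro x hx
    refine two_cases ?_ (show ev ∈ Zc.map p from ⟨j, hjZ, hjv⟩) hev1 (mem_map_of_mem p hx)
    have := card_map_mk hWZ
    rw [h4, W2] at this
    change 4 = 2 * Nat.card (Zc.map p) at this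
    omega
  have hq' : p h * p q = p q * p h := by
    rcases hb _ hfix with e1 | e1
    · simp only [map_mul, map_inv] at e1
      exact conj_eq_iff.1 (mul_inv_eq_one.1 e1)
    · simp only [map_mul, map_inv] at e1
      have h1 : p h * p q * (p h)⁻¹ = p q * ev := by
        rw [hVexp.comm (mem_map_of_mem p hq) hev.1]; exact mul_inv_eq_iff_eq_mul.1 e1
      have h2 : Commute (p h * p h) (p q) := sq_fix h1 hhe (hVexp ev hev.1)
      have h3 := (h2.pow_left 4).eq
      rwa [show (p h * p h) ^ 4 = p h by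
        rw [← pow_two, ← pow_mul, show 2 * 4 = 7 + 1 from rfl, pow_succ, hb7, one_mul]] at h3
  rcases hFe (p q) (mem_map_of_mem p hq) hq' with e1 | e1
  · exact hWZ ((QuotientGroup.eq_one_iff q).1 e1)
  · have hm : j⁻¹ * q ∈ W := QuotientGroup.eq.1 (hjv.trans e1.symm)
    simpa using mul_mem hjZ (hWZ hm)

/-- The classification. -/
theorem classify : ∀ (n : ℕ) {Y : Type u} [Group Y] [Finite Y] (Q P : Subgroup Y) [Q.Normal] [P.Normal],
    Nat.card Y = n → Setting Q P → Shape Q P := by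
  intro n
  induction n using Nat.strong_induction_on with
  | _ n ih =>
  intro Y _ _ Q P _ _ hn σ
  classical
  haveI : Fact (Nat.Prime 2) := ⟨Nat.prime_two⟩
  by_cases hP : P = ⊥
  · refine Or.inl ⟨hP, ?_⟩
    have := card_map_mk σ.le
    rw [show Nat.card P = 1 by rw [hP, card_bot], one_mul] at this
    rw [this]
    exact σ.card_bar
  obtain ⟨W, hWn, hWP, Wexp, Wcen, hW⟩ := σ.exists_minimal hP
  haveI := hWn
  have hWQ := hWP.trans σ.le
  obtain ⟨h, h7, hhQ⟩ := σ.τ.exists_seven
  obtain ⟨c, hcQ, hcm⟩ : ∃ q ∈ Q, h * q * h⁻¹ * q⁻¹ ∉ P := by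
    by_contra! hall
    exact hhQ (σ.self h hall)
  set p := QuotientGroup.mk' W with hp
  haveI : (Q.map p).Normal := Normal.map inferInstance _ (QuotientGroup.mk'_surjective W)
  haveI : (P.map p).Normal := Normal.map inferInstance _ (QuotientGroup.mk'_surjective W)
  have hlt : Nat.card (Y ⧸ W) < n := by
    rw [← hn, card_eq_card_quotient_mul_card_subgroup W]
    have hW2 : 2 ≤ Nat.card W := by rcases hW with ⟨e, -⟩ | ⟨e, -⟩ <;> omega
    have := Nat.card_pos (α := Y ⧸ W)
    nlinarith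
  have σb : Setting (Q.map p) (P.map p) := by
    refine ⟨σ.τ.quot hWQ, Invol.sectional_quotient W σ.rank, ?_, ?_⟩
    · conv_lhs => rw [σ.sqgen]
      rw [squares, squares, MonoidHom.map_closure, coe_map, Set.image_image, Set.image_image]
      simp only [map_mul]
    · intro y hy
      obtain ⟨y, rfl⟩ := QuotientGroup.mk'_surjective W y
      refine mem_map_of_mem _ (σ.self y fun q hq => ?_)
      have h := hy _ (mem_map_of_mem _ hq)
      rw [← map_inv, ← map_inv, ← map_mul, ← map_mul, ← map_mul] at h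
      obtain ⟨z, hz, hze⟩ := h
      have hm : z⁻¹ * (y * q * y⁻¹ * q⁻¹) ∈ W := QuotientGroup.eq.1 hze
      simpa using mul_mem hz (hWP hm)
  have hcQ' := card_map_mk hWQ
  have hcP' := card_map_mk hWP
  rcases ih _ hlt (Q.map p) (P.map p) rfl σb with ⟨hPb, hQb⟩ | ⟨hPb, hQb, hcomb⟩
  · -- `P = W`
    have hPW : P = W := le_antisymm (fun x hx => (QuotientGroup.eq_one_iff x).1
      ((eq_bot_iff_forall _).1 hPb _ (mem_map_of_mem p hx))) hWP
    subst hPW
    have hsq : ∀ q ∈ Q, q * q ∈ P := fun q hq => σ.sq_mem hq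
    rcases hW with ⟨W2, Wc⟩ | ⟨W8, Wmove⟩
    · rcases hQb with h8 | h16
      · exfalso
        have h16' : Nat.card Q = 8 * Nat.card P := by rw [hcQ', W2, h8]
        have hfree : ∀ q ∈ Q, h * q * h⁻¹ * q⁻¹ ∈ P → q ∈ P := by
          intro q hq hfix
          refine (QuotientGroup.eq_one_iff q).1 (eight_fixed (h := p h) (by rw [← map_pow, h7, map_one])
            (fun x hx => Normal.conj_mem (inferInstance : (Q.map p).Normal) x hx (p h)) h8
            (mem_map_of_mem p hcQ) (fun hh => hcm ((QuotientGroup.eq_one_iff _).1 (by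
              show p h * p c * (p h)⁻¹ * (p c)⁻¹ = 1
              rw [hh, mul_inv_cancel_right, mul_inv_cancel]))) (mem_map_of_mem p hq) ?_)
          refine conj_eq_iff.1 (mul_inv_eq_one.1 ?_)
          simp only [← map_inv, ← map_mul]
          exact (QuotientGroup.eq_one_iff _).2 hfix
        have hQc := comm_of_free h7 hWQ h16' hfree W2 (fun q _ => Wc q) (fun q _ => Wc q) (by
          intro a ha b hb
          have hexp : Exp2 (Q.map p) := by
            rintro _ ⟨q, hq, rfl⟩
            rw [← map_mul]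
            exact (QuotientGroup.eq_one_iff _).2 (hsq q hq)
          refine (QuotientGroup.eq_one_iff _).1 ?_
          show p a * p b * (p a)⁻¹ * (p b)⁻¹ = 1
          rw [hexp.comm (mem_map_of_mem p ha) (mem_map_of_mem p hb), mul_inv_cancel_right, mul_inv_cancel])
        let f : Q →* P :=
          { toFun := fun q => ⟨(q : Y) * q, hsq q q.2⟩
            map_one' := Subtype.ext (by simp)
            map_mul' := fun x v => Subtype.ext (by
              show (x : Y) * v * ((x : Y) * v) = (x : Y) * x * ((v : Y) * v)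
              calc (x : Y) * v * ((x : Y) * v) = x * ((v : Y) * x) * v := by group
                _ = x * ((x : Y) * v) * v := by rw [hQc v v.2 x x.2]
                _ = _ := by group) }
        set K := f.ker.map Q.subtype with hK
        have hKmem : ∀ q, q ∈ K ↔ q ∈ Q ∧ q * q = 1 := by
          intro q
          constructor
          · rintro ⟨v, hv, rfl⟩
            exact ⟨v.2, congrArg Subtype.val (MonoidHom.mem_ker.1 hv)⟩
          · rintro ⟨hq, h1⟩
            exact ⟨⟨q, hq⟩, MonoidHom.mem_ker.2 (Subtype.ext h1), rfl⟩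
        rcases free_step h7 (fun w hw => (hKmem w).2 ⟨hWQ hw, Wexp w hw⟩) (map_subtype_le _ : K ≤ Q) h16'
          (fun x hx => (hKmem _).2 ⟨Normal.conj_mem inferInstance x ((hKmem x).1 hx).1 h, by
            rw [show h * x * h⁻¹ * (h * x * h⁻¹) = h * (x * x) * h⁻¹ by group, ((hKmem x).1 hx).2, mul_one,
              mul_inv_cancel]⟩) hfree with e | e
        · have h1 := f.ker.card_mul_index
          rw [index_ker, h16', ← card_map_of_injective Q.subtype_injective, ← hK, e, W2] at h1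
          have h2 : Nat.card f.range ≤ 2 := W2 ▸ f.range.card_le_card_group
          omega
        · exact hP (eq_bot_iff.2 (σ.le_of_sq fun q hq => ((hKmem q).1 (e.ge hq)).2 ▸ one_mem _))
      · have h32 : Nat.card Q = 32 := by rw [hcQ', W2, h16]
        exact Or.inr ⟨W2, h32, comm_of_two h7 hWQ W2 Wc h32 hsq ⟨c, hcQ, hcm⟩⟩
    · exfalso
      rcases hQb with h8 | h16
      · refine false_homocyclic (Q := Q) (W := P) ⟨σ.τ, σ.rank, le_rfl, hWQ, Wexp, Wcen, W8, ?_, hsq, ?_,
          Wmove, h, c, hcQ, hcm⟩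
        · rw [hcQ', W8, h8]
        · by_contra! hall
          exact hP (eq_bot_iff.2 (σ.le_of_sq fun q hq => (hall q hq) ▸ one_mem _))
      · exact false_big (Q := Q) (W := P) ⟨σ.τ, σ.rank, hWQ, Wexp, Wcen, W8, by rw [hcQ', W8, h16], hsq,
          Wmove, h, c, hcQ, hcm⟩
  · -- `Q / W` is `C₄ × E₈`
    exfalso
    have hb : Pre Q P W := by
      refine ⟨σ.τ, σ.rank, hWP, σ.le, by rw [hcP', hPb, mul_comm], ?_, fun q hq => σ.sq_mem hq, ?_, ?_, σ.self⟩
      · rw [hcQ', hcP', hQb, hPb]; ring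
      · by_contra! hall
        have hb' : P.map p = ⊥ := (eq_bot_iff_forall _).2 (by
          rintro _ ⟨x, hx, rfl⟩
          exact (QuotientGroup.eq_one_iff x).2 (σ.le_of_sq hall hx))
        rw [hb', card_bot] at hPb
        norm_num at hPb
      · intro a ha b hb
        refine (QuotientGroup.eq_one_iff _).1 ?_
        show p a * p b * (p a)⁻¹ * (p b)⁻¹ = 1
        rw [hcomb _ (mem_map_of_mem p ha) _ (mem_map_of_mem p hb), mul_inv_cancel_right, mul_inv_cancel]
    rcases hW with ⟨W2, Wc⟩ | ⟨W8, Wmove⟩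
    · exact false_ext_two hb W2 Wc
    · exact false_ext_eight hb W8 Wexp Wcen Wmove

/-- The abelian shape. -/
theorem iso_of_shape {Q P : Subgroup Y} (hsq : ∀ q ∈ Q, q * q ∈ P) (hP : P = squares Q)
    (hP2 : Nat.card P = 2) (h32 : Nat.card Q = 32) (hcomm : ∀ a ∈ Q, ∀ b ∈ Q, a * b = b * a) :
    Nonempty (Q ≃* Multiplicative (ZMod 4) × (Fin 3 → Multiplicative (ZMod 2))) := by
  classical
  haveI : Fact (Nat.Prime 2) := ⟨Nat.prime_two⟩
  obtain ⟨e, heQ, hee⟩ : ∃ e ∈ Q, e * e ≠ 1 := by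
    by_contra! hall
    have : P = ⊥ := by
      rw [hP, squares, Subgroup.closure_eq_bot_iff]
      rintro _ ⟨q, hq, rfl⟩
      exact hall q hq
    rw [this, card_bot] at hP2
    norm_num at hP2
  set z := e * e with hz
  have hzP : z ∈ P := hsq e heQ
  have hzz : z * z = 1 := by
    rcases two_cases hP2.le hzP hee (mul_mem hzP hzP) with h1 | h1
    · exact h1
    · exact absurd (mul_eq_left.1 h1) hee
  have he4 : e ^ 4 = 1 := by
    rw [show e ^ 4 = e * e * (e * e) by simp only [pow_succ, pow_zero, one_mul, mul_assoc]]; exact hzz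
  let σ : Q →* P :=
    { toFun := fun q => ⟨(q : Y) * q, hsq q q.2⟩
      map_one' := Subtype.ext (by simp)
      map_mul' := fun x v => Subtype.ext (by
        show (x : Y) * v * ((x : Y) * v) = (x : Y) * x * ((v : Y) * v)
        calc (x : Y) * v * ((x : Y) * v) = x * ((v : Y) * x) * v := by group
          _ = x * ((x : Y) * v) * v := by rw [hcomm v v.2 x x.2]
          _ = _ := by group) }
  set K := σ.ker.map Q.subtype with hK
  have hKexp : Exp2 K := by
    rintro _ ⟨v, hv, rfl⟩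
    exact congrArg Subtype.val (MonoidHom.mem_ker.1 hv)
  have hK16 : Nat.card K = 2 ^ 4 := by
    have h1 := σ.ker.card_mul_index
    rw [index_ker, h32, ← card_map_of_injective Q.subtype_injective, ← hK] at h1
    have h2 : Nat.card σ.range = 2 := by
      refine le_antisymm (hP2 ▸ σ.range.card_le_card_group) ?_
      by_contra hlt
      have := Nat.card_pos (α := σ.range)
      exact hee (congrArg Subtype.val ((eq_bot_iff_forall _).1 (card_eq_one.1 (show Nat.card σ.range = 1 by omega))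
        _ ⟨⟨e, heQ⟩, rfl⟩))
    rw [h2] at h1
    norm_num
    omega
  obtain ⟨φ, hφK, hφs, hφi, hφadd⟩ := exists_coords hKexp hK16
  have hφ0 : φ 0 = 1 := mul_eq_left.1 ((hφadd 0 0).symm.trans (by rw [add_zero]))
  obtain ⟨v, hv⟩ := hφs z ⟨⟨z, mul_mem heQ heQ⟩, MonoidHom.mem_ker.2 (Subtype.ext hzz), rfl⟩
  obtain ⟨i, hi⟩ : ∃ i, v i ≠ 0 := by
    by_contra! hall
    rw [show v = 0 from funext hall, hφ0] at hv
    exact hee hv.symm
  have hKQ : K ≤ Q := map_subtype_le _
  let Ψ : Multiplicative (ZMod 4) × (Fin 3 → Multiplicative (ZMod 2)) →* Q :=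
    { toFun := fun x => ⟨e ^ (Multiplicative.toAdd x.1).val * φ (i.insertNth 0 fun k => Multiplicative.toAdd (x.2 k)),
        mul_mem (pow_mem heQ _) (hKQ (hφK _))⟩
      map_one' := Subtype.ext (by
        show e ^ (0 : ZMod 4).val * φ (i.insertNth 0 fun _ => (0 : ZMod 2)) = 1
        rw [show (i.insertNth 0 fun _ => (0 : ZMod 2)) = (0 : Fin 4 → ZMod 2) from funext fun k => by
          refine Fin.succAboveCases i ?_ ?_ k <;> simp, hφ0]
        simp)
      map_mul' := fun x y => Subtype.ext (by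
        show e ^ (Multiplicative.toAdd x.1 + Multiplicative.toAdd y.1).val *
            φ (i.insertNth 0 fun k => Multiplicative.toAdd (x.2 k) + Multiplicative.toAdd (y.2 k)) =
          e ^ (Multiplicative.toAdd x.1).val * φ (i.insertNth 0 fun k => Multiplicative.toAdd (x.2 k)) *
            (e ^ (Multiplicative.toAdd y.1).val * φ (i.insertNth 0 fun k => Multiplicative.toAdd (y.2 k)))
        rw [show (i.insertNth 0 fun k => Multiplicative.toAdd (x.2 k) + Multiplicative.toAdd (y.2 k) : Fin 4 → ZMod 2) =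
            (i.insertNth 0 fun k => Multiplicative.toAdd (x.2 k)) + i.insertNth 0 (fun k => Multiplicative.toAdd (y.2 k))
          from funext fun k => by refine Fin.succAboveCases i ?_ ?_ k <;> simp, hφadd,
          ZMod.val_add, ← pow_eq_pow_mod _ he4, pow_add]
        set A := e ^ (Multiplicative.toAdd x.1).val
        set B := e ^ (Multiplicative.toAdd y.1).val with hB
        set C := φ (i.insertNth 0 fun k => Multiplicative.toAdd (x.2 k))
        set D := φ (i.insertNth 0 fun k => Multiplicative.toAdd (y.2 k))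
        calc A * B * (C * D) = A * (B * C) * D := by group
          _ = A * (C * B) * D := by rw [hcomm B (pow_mem heQ _) C (hKQ (hφK _))]
          _ = _ := by group) }
  have hinj : Function.Injective Ψ := by
    rw [← MonoidHom.ker_eq_bot_iff, eq_bot_iff_forall]
    rintro ⟨a, x⟩ hx
    have h1 : e ^ (Multiplicative.toAdd a).val * φ (i.insertNth 0 fun k => Multiplicative.toAdd (x k)) = 1 :=
      congrArg Subtype.val (MonoidHom.mem_ker.1 hx)
    set w : Fin 4 → ZMod 2 := i.insertNth 0 fun k => Multiplicative.toAdd (x k) with hw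
    have hw1 : φ w * φ w = 1 := hKexp _ (hφK w)
    have ha : e ^ (Multiplicative.toAdd a).val * e ^ (Multiplicative.toAdd a).val = 1 := by
      rw [eq_inv_of_mul_eq_one_left h1, ← _root_.mul_inv_rev, hw1, inv_one]
    have hgen : ∀ m : ℕ, m < 4 → e ^ m * e ^ m = 1 → m = 0 ∨ m = 2 := by
      intro m hm h2
      interval_cases m
      · exact Or.inl rfl
      · exact absurd (by simpa using h2) hee
      · exact Or.inr rfl
      · exfalso
        refine hee ?_
        calc e * e = e ^ 4 * (e * e) := by rw [he4, one_mul]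
          _ = e ^ 3 * e ^ 3 := by simp only [pow_succ, pow_zero, one_mul]; group
          _ = 1 := h2
    have hwi : w i = 0 := by rw [hw, Fin.insertNth_apply_same]
    have ha0 : (Multiplicative.toAdd a).val = 0 := by
      rcases hgen _ (ZMod.val_lt _) ha with h0 | h2
      · exact h0
      · exfalso
        rw [h2] at h1
        have : φ w = φ v := by
          rw [hv, eq_inv_of_mul_eq_one_right h1, inv_eq_iff_mul_eq_one, hz, pow_two]
          exact hzz
        exact hi (by rw [← hφi this, hwi])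
    rw [ha0, pow_zero, one_mul] at h1
    have hw0 : w = 0 := hφi (h1.trans hφ0.symm)
    refine Prod.ext ?_ (funext fun k => ?_)
    · exact Multiplicative.toAdd.injective ((ZMod.val_eq_zero _).1 ha0)
    · refine Multiplicative.toAdd.injective ?_
      have h2 := congrFun hw0 (i.succAbove k)
      rwa [hw, Fin.insertNth_apply_succAbove] at h2
  refine ⟨(MulEquiv.ofBijective Ψ ((Nat.bijective_iff_injective_and_card _).2 ⟨hinj, ?_⟩)).symm⟩
  rw [h32, Nat.card_prod]
  simp

end CfsgLib.SRank.Seven
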