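import Cfsg.Agent.Lib.SRank.Seven.Basic

/-!
Squaring onto a natural module: linearity, and the exclusion of `C₄³ · L₃(2)`.
-/

set_option autoImplicit false
set_option linter.style.haveILetI false

namespace CfsgLib.SRank.Seven

open Subgroup Matrix
open CfsgLib.SRank.Five (card_map_mk exists_lift)

universe u

/-- An element of order `7`. -/
def gK : L := ⟨!![0, 0, 1; 1, 0, 1; 0, 1, 0], !![1, 1, 0; 0, 0, 1; 1, 0, 0], by decide, by decide⟩

theorem gK_pow : gK ^ 7 = 1 := by decide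

theorem gK_trans : ∀ a b : Fin 3 → ZMod 2, a ≠ 0 → b ≠ 0 →
    ∃ i : Fin 7, ((gK ^ (i : ℕ) : L) : Matrix (Fin 3) (Fin 3) (ZMod 2)) *ᵥ a = b := by decide

theorem gK_free : ∀ i : Fin 7, ∀ a : Fin 3 → ZMod 2,
    ((gK ^ (i : ℕ) : L) : Matrix (Fin 3) (Fin 3) (ZMod 2)) *ᵥ a = a → a ≠ 0 → i = 0 := by decide

/-- A transvection fixing two vectors. -/
def axis (a b : Fin 3 → ZMod 2) : Matrix (Fin 3) (Fin 3) (ZMod 2) :=
  1 + vecMulVec a ![a 1 * b 2 + a 2 * b 1, a 2 * b 0 + a 0 * b 2, a 0 * b 1 + a 1 * b 0]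

theorem axis_facts : ∀ a b : Fin 3 → ZMod 2, a ≠ 0 → b ≠ 0 → a ≠ b →
    axis a b * axis a b = 1 ∧ axis a b ≠ 1 ∧ axis a b *ᵥ a = a ∧ axis a b *ᵥ b = b := by decide

theorem fixed_vectors : ∀ v : Fin 3 → ZMod 2, (gY : Matrix (Fin 3) (Fin 3) (ZMod 2)) *ᵥ v = v →
    (gT : Matrix (Fin 3) (Fin 3) (ZMod 2)) *ᵥ v = v → v = 0 ∨ v = e3 := by decide

theorem f_step : ![1, 0, 0] + (gS : Matrix (Fin 3) (Fin 3) (ZMod 2)) *ᵥ ![1, 0, 0] = ![0, 1, 0] ∧
    ![0, 1, 0] + (gS : Matrix (Fin 3) (Fin 3) (ZMod 2)) *ᵥ ![0, 1, 0] = e3 := by decide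

theorem val_cast : ∀ a : ZMod 4,
    ((a.val : ℕ) : ZMod 2) = ZMod.castHom (show 2 ∣ 4 by norm_num) (ZMod 2) a := by decide

theorem fixed_quot : ∀ v : Fin 3 → ZMod 2, (gY : Matrix (Fin 3) (Fin 3) (ZMod 2)) *ᵥ v =
    (gT : Matrix (Fin 3) (Fin 3) (ZMod 2)) *ᵥ v → v = 0 ∨ v = e3 := by decide

theorem fix_S : ∀ v : Fin 3 → ZMod 2, (gS : Matrix (Fin 3) (Fin 3) (ZMod 2)) *ᵥ v = v →
    v = 0 ∨ v = e3 := by decide

theorem e3_fixed : (gS : Matrix (Fin 3) (Fin 3) (ZMod 2)) *ᵥ e3 = e3 ∧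
    (gT : Matrix (Fin 3) (Fin 3) (ZMod 2)) *ᵥ e3 = e3 ∧
    (gY : Matrix (Fin 3) (Fin 3) (ZMod 2)) *ᵥ e3 = e3 ∧ e3 ≠ 0 := by decide

variable {Y : Type u} [Group Y] [Finite Y]

/-- A group `Q` whose squares fill a natural module `W`, over `J`. -/
structure Layer (Q J W : Subgroup Y) [Q.Normal] [J.Normal] [W.Normal] : Prop where
  τ : Top Q
  rank : Cfsg.SectionalPRankLE 2 4 Y
  WJ : W ≤ J
  JQ : J ≤ Q
  Jexp : Exp2 J
  Jcen : ∀ q ∈ Q, ∀ j ∈ J, q * j = j * q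
  W8 : Nat.card W = 8
  idx : Nat.card Q = 8 * Nat.card J
  sq : ∀ q ∈ Q, q * q ∈ W
  ne : ∃ q ∈ Q, q * q ≠ 1
  Wmove : ∃ g, ∃ w ∈ W, g * w ≠ w * g
  Qmove : ∃ g, ∃ q ∈ Q, g * q * g⁻¹ * q⁻¹ ∉ J

/-- A layer `Q / J` of order `8` on which `K` acts trivially. -/
structure LayerIn (K Q J W : Subgroup Y) [K.Normal] [Q.Normal] [J.Normal] [W.Normal] : Prop where
  τ : Top K
  QK : Q ≤ K
  KQ : ∀ k ∈ K, ∀ q ∈ Q, k * q * k⁻¹ * q⁻¹ ∈ J
  KW : ∀ k ∈ K, ∀ w ∈ W, k * w = w * k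
  WJ : W ≤ J
  JQ : J ≤ Q
  Jexp : Exp2 J
  Jcen : ∀ q ∈ Q, ∀ j ∈ J, q * j = j * q
  W8 : Nat.card W = 8
  idx : Nat.card Q = 8 * Nat.card J
  sq : ∀ q ∈ Q, q * q ∈ W
  ne : ∃ q ∈ Q, q * q ≠ 1
  Wmove : ∃ g, ∃ w ∈ W, g * w ≠ w * g
  Qmove : ∃ g, ∃ q ∈ Q, g * q * g⁻¹ * q⁻¹ ∉ J

/-- The coordinates of a layer. -/
structure Data (K Q J W : Subgroup Y) where
  /-- The action. -/
  π : Y →* L
  /-- The coordinates on `Q` modulo `J`. -/
  ψ : Y → (Fin 3 → ZMod 2)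
  /-- The squaring map. -/
  ω : (Fin 3 → ZMod 2) → Y
  πsurj : Function.Surjective π
  ker : ∀ g, π g = 1 ↔ g ∈ K
  ψsurj : ∀ v, ∃ q ∈ Q, ψ q = v
  ψker : ∀ q ∈ Q, ψ q = 0 ↔ q ∈ J
  ψmul : ∀ a ∈ Q, ∀ b ∈ Q, ψ (a * b) = ψ a + ψ b
  ψconj : ∀ g, ∀ q ∈ Q, ψ (g * q * g⁻¹) = (π g : Matrix (Fin 3) (Fin 3) (ZMod 2)) *ᵥ ψ q
  ωmem : ∀ v, ω v ∈ W
  ωsurj : ∀ w ∈ W, ∃ v, ω v = w
  ωinj : Function.Injective ω
  ωadd : ∀ a b, ω (a + b) = ω a * ω b
  ωconj : ∀ g v, ω ((π g : Matrix (Fin 3) (Fin 3) (ZMod 2)) *ᵥ v) = g * ω v * g⁻¹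
  sq : ∀ q ∈ Q, q * q = ω (ψ q)
  comm : ∀ a ∈ Q, ∀ b ∈ Q, a * b = b * a

theorem LayerIn.exists_data {K Q J W : Subgroup Y} [K.Normal] [Q.Normal] [J.Normal] [W.Normal]
    (l : LayerIn K Q J W) : Nonempty (Data K Q J W) := by
  classical
  haveI : Fact (Nat.Prime 2) := ⟨Nat.prime_two⟩
  set p := QuotientGroup.mk' J with hp
  set Qb := Q.map p with hQb
  haveI : Qb.Normal := Normal.map inferInstance _ (QuotientGroup.mk'_surjective J)
  set Kb := K.map p with hKb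
  haveI : Kb.Normal := Normal.map inferInstance _ (QuotientGroup.mk'_surjective J)
  let e := QuotientGroup.quotientQuotientEquivQuotient J K (l.JQ.trans l.QK)
  have τb : Top Kb := by
    refine ⟨l.τ.two.map p, ?_, (Nat.card_congr e.toEquiv).trans l.τ.card⟩
    haveI := l.τ.simple
    exact e.isSimpleGroup
  have hexp : Exp2 Qb := by
    rintro _ ⟨q, hq, rfl⟩
    rw [← map_mul]
    exact (QuotientGroup.eq_one_iff _).2 (l.WJ (l.sq q hq))
  have h8 : Nat.card Qb = 8 := by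
    have := card_map_mk l.JQ
    rw [l.idx, mul_comm 8] at this
    exact (Nat.eq_of_mul_eq_mul_left Nat.card_pos this).symm
  obtain ⟨g0, q0, hq0, hmove⟩ := l.Qmove
  obtain ⟨F⟩ := τb.exists_frame hexp h8 (by
      rintro _ ⟨k, hk, rfl⟩ _ ⟨q, hq, rfl⟩
      refine conj_eq_iff.1 (mul_inv_eq_one.1 ?_)
      rw [← map_mul, ← map_inv, ← map_mul, ← map_inv, ← map_mul]
      exact (QuotientGroup.eq_one_iff _).2 (l.KQ k hk q hq)) (g := p g0)
    (mem_map_of_mem p hq0) (fun hc => hmove ((QuotientGroup.eq_one_iff _).1 (by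
      show p g0 * p q0 * (p g0)⁻¹ * (p q0)⁻¹ = 1
      rw [hc, mul_inv_cancel_right, mul_inv_cancel])))
  let π : Y →* L := F.π.comp p
  have hker : ∀ g, π g = 1 ↔ g ∈ K := by
    intro g
    refine (F.ker (p g)).trans ⟨fun hm => ?_, fun hm => mem_map_of_mem p hm⟩
    obtain ⟨q, hq, hqe⟩ := hm
    simpa using mul_mem hq (l.JQ.trans l.QK (QuotientGroup.eq.1 hqe))
  let ψ : Y → (Fin 3 → ZMod 2) := fun q => Function.invFun F.φ (p q)
  have hψ : ∀ q ∈ Q, F.φ (ψ q) = p q := fun q hq =>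
    Function.invFun_eq (F.surj _ (mem_map_of_mem p hq))
  have hψmul : ∀ a ∈ Q, ∀ b ∈ Q, ψ (a * b) = ψ a + ψ b := fun a ha b hb => F.inj (by
    rw [hψ _ (mul_mem ha hb), F.add, hψ a ha, hψ b hb, map_mul])
  have hψker : ∀ q ∈ Q, ψ q = 0 ↔ q ∈ J := fun q hq => by
    rw [← F.inj.eq_iff, hψ q hq, F.zero]; exact QuotientGroup.eq_one_iff q
  have hψconj : ∀ g, ∀ q ∈ Q, ψ (g * q * g⁻¹) = (π g : Matrix (Fin 3) (Fin 3) (ZMod 2)) *ᵥ ψ q :=
    fun g q hq => F.inj (by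
      rw [hψ _ (Normal.conj_mem inferInstance q hq g), show F.φ ((π g : Matrix (Fin 3) (Fin 3) (ZMod 2)) *ᵥ ψ q) =
        p g * F.φ (ψ q) * (p g)⁻¹ from F.equiv (p g) (ψ q), hψ q hq]
      simp only [map_mul, map_inv])
  have hψsurj : ∀ v, ∃ q ∈ Q, ψ q = v := fun v => by
    obtain ⟨q, hq, hqe⟩ := F.mem v
    exact ⟨q, hq, F.inj (by rw [hψ q hq, hqe])⟩
  choose r hrQ hrψ using hψsurj
  let ω : (Fin 3 → ZMod 2) → Y := fun v => r v * r v
  have hωmem : ∀ v, ω v ∈ W := fun v => l.sq _ (hrQ v)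
  have hsq : ∀ q ∈ Q, q * q = ω (ψ q) := by
    intro q hq
    set x := r (ψ q)
    have hx : x ∈ Q := hrQ _
    have hj : x⁻¹ * q ∈ J := by
      rw [← hψker _ (mul_mem (inv_mem hx) hq)]
      have h1 := hψmul x hx _ (mul_mem (inv_mem hx) hq)
      rw [mul_inv_cancel_left, show ψ x = ψ q from hrψ _] at h1
      exact left_eq_add.1 h1
    calc q * q = x * ((x⁻¹ * q) * x) * (x⁻¹ * q) := by group
      _ = x * (x * (x⁻¹ * q)) * (x⁻¹ * q) := by rw [l.Jcen x hx _ hj]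
      _ = x * x * ((x⁻¹ * q) * (x⁻¹ * q)) := by group
      _ = _ := by rw [l.Jexp _ hj, mul_one]
  have hωconj : ∀ g v, ω ((π g : Matrix (Fin 3) (Fin 3) (ZMod 2)) *ᵥ v) = g * ω v * g⁻¹ := by
    intro g v
    have := hsq _ (Normal.conj_mem inferInstance _ (hrQ v) g)
    rw [hψconj g _ (hrQ v), hrψ] at this
    rw [← this]
    show _ = g * (r v * r v) * g⁻¹
    group
  have hω0 : ω 0 = 1 := l.Jexp _ ((hψker _ (hrQ 0)).1 (hrψ 0))
  obtain ⟨q1, hq1, hq11⟩ := l.ne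
  have hv1 : ψ q1 ≠ 0 := fun h0 => hq11 (by rw [hsq q1 hq1, h0, hω0])
  obtain ⟨k, hk⟩ := F.πsurj gK
  obtain ⟨k, rfl⟩ := QuotientGroup.mk'_surjective J k
  have hk' : π k = gK := hk
  have hωne : ∀ v, v ≠ 0 → ω v ≠ 1 := by
    intro v hv h1
    obtain ⟨i, hi⟩ := gK_trans v (ψ q1) hv hv1
    refine hq11 ?_
    rw [hsq q1 hq1, ← hi, ← hk', ← map_pow, hωconj, h1, mul_one, mul_inv_cancel]
  obtain ⟨gw, w0, hw0, hwmove⟩ := l.Wmove
  have hnotcen : ∀ g, g ∉ K → ¬ ∀ w ∈ W, g * w = w * g := by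
    intro g hg hall
    have hK : centralizer (W : Set Y) = ⊤ := l.τ.eq_top
      (fun q hq => mem_centralizer_iff.2 fun w hw => (l.KW q hq w hw).symm)
      (mem_centralizer_iff.2 fun w hw => (hall w hw).symm) hg
    exact hwmove (mem_centralizer_iff.1 (hK.ge (mem_top gw)) w0 hw0).symm
  have hωinj : Function.Injective ω := by
    intro a b hab
    by_cases ha : a = 0
    · subst ha
      by_contra hb
      exact hωne b (Ne.symm hb) (hab ▸ hω0)
    by_cases hb : b = 0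
    · exact absurd (hab.trans (by rw [hb, hω0])) (hωne a ha)
    obtain ⟨i, hi⟩ := gK_trans b a hb ha
    by_contra hne
    set x := k ^ (i : ℕ) with hx
    have hπx : π x = gK ^ (i : ℕ) := by rw [hx, map_pow, hk']
    have hfix : x * ω b = ω b * x := by
      refine conj_eq_iff.1 ?_
      rw [← hωconj, hπx, hi, hab]
    -- replace `x` by an element of order `7`
    have hx7 : (x : Y ⧸ K) ^ 7 = 1 := by
      rw [← QuotientGroup.mk_pow, QuotientGroup.eq_one_iff, ← hker, map_pow, hπx, ← pow_mul, mul_comm,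
        pow_mul, gK_pow, one_pow]
    obtain ⟨x', hx', hx'7⟩ := exists_lift l.τ.two (by norm_num : Nat.Prime 7) (by norm_num) hx7
    have hπx' : π x' = π x := by
      have hm : x'⁻¹ * x ∈ K := QuotientGroup.eq.1 hx'
      rw [show π x = π (x' * (x'⁻¹ * x)) by rw [mul_inv_cancel_left], map_mul π x', (hker _).2 hm, mul_one]
    have hx'Q : x' ∉ K := by
      intro hm
      rw [← hker, hπx', hπx] at hm
      rw [hm, Units.val_one, one_mulVec] at hi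
      exact hne hi.symm
    have hfix' : x' * ω b = ω b * x' := by
      refine conj_eq_iff.1 ?_
      rw [← hωconj, hπx', hωconj, hfix, mul_inv_cancel_right]
    obtain ⟨c, hc, hcm⟩ : ∃ c ∈ W, x' * c ≠ c * x' := by
      by_contra! hall
      exact hnotcen x' hx'Q hall
    exact hωne b hb (eight_fixed hx'7 (fun w hw => Normal.conj_mem inferInstance w hw x') l.W8 hc hcm
      (hωmem b) hfix')
  have hWexp : Exp2 W := l.Jexp.mono l.WJ
  have hωsurj : ∀ w ∈ W, ∃ v, ω v = w := by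
    intro w hw
    have hb : Function.Bijective fun v => (⟨ω v, hωmem v⟩ : W) := by
      refine (Nat.bijective_iff_injective_and_card _).2 ⟨fun a b h => hωinj (congrArg Subtype.val h), ?_⟩
      rw [l.W8]; simp
    obtain ⟨v, hv⟩ := hb.2 ⟨w, hw⟩
    exact ⟨v, congrArg Subtype.val hv⟩
  have hωadd : ∀ a b, ω (a + b) = ω a * ω b := by
    intro a b
    by_cases ha : a = 0
    · rw [ha, zero_add, hω0, one_mul]
    by_cases hb : b = 0
    · rw [hb, add_zero, hω0, mul_one]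
    by_cases hab : a = b
    · subst hab
      rw [show a + a = 0 from funext fun i => CharTwo.add_self_eq_zero (a i), hω0, hWexp _ (hωmem a)]
    obtain ⟨hMM, hM1, hMa, hMb⟩ := axis_facts a b ha hb hab
    obtain ⟨g, hg⟩ : ∃ g, π g = (⟨axis a b, axis a b, hMM, hMM⟩ : L) := by
      obtain ⟨g, hg⟩ := F.πsurj ⟨axis a b, axis a b, hMM, hMM⟩
      obtain ⟨g, rfl⟩ := QuotientGroup.mk'_surjective J g
      exact ⟨g, hg⟩
    set D := W ⊓ centralizer ({g} : Set Y) with hD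
    have hDmem : ∀ v, axis a b *ᵥ v = v → ω v ∈ D := by
      intro v hv
      refine ⟨hωmem v, mem_centralizer_singleton_iff.2 (conj_eq_iff.1 ?_).symm⟩
      rw [← hωconj, hg]
      exact congrArg ω hv
    have hD4 : Nat.card D ≤ 4 := by
      have hd := card_dvd_of_le (inf_le_left : D ≤ W)
      rw [l.W8, show 8 = 2 ^ 3 from rfl] at hd
      obtain ⟨i, hi, hiD⟩ := (Nat.dvd_prime_pow Nat.prime_two).1 hd
      by_contra hbig
      rw [hiD] at hbig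
      have h3 : i = 3 := by interval_cases i <;> omega
      have heq := eq_of_le_of_card_ge (inf_le_left : D ≤ W) (by rw [hiD, h3, l.W8]; norm_num)
      refine hM1 (Matrix.ext_of_mulVec_single fun i => ?_)
      have hc := mem_centralizer_singleton_iff.1 (heq.ge (hωmem (Pi.single i 1))).2
      rw [one_mulVec]
      refine hωinj ?_
      show ω (((⟨axis a b, axis a b, hMM, hMM⟩ : L) : Matrix (Fin 3) (Fin 3) (ZMod 2)) *ᵥ _) = _
      rw [← hg, hωconj, ← hc, mul_inv_cancel_right]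
    rcases four_cases (hWexp.mono inf_le_left) hD4 (hDmem a hMa) (hDmem b hMb) (hωne a ha) (hωne b hb)
      (fun h => hab (hωinj h).symm) (hDmem (a + b) (by rw [mulVec_add, hMa, hMb])) with h | h | h | h
    · exact absurd (hωinj (h.trans hω0.symm)) (fun h0 => hab (by
        have := congrArg (· + b) h0
        simpa [add_assoc, show b + b = 0 from funext fun i => CharTwo.add_self_eq_zero (b i)] using this))
    · exact absurd (hωinj h) (fun h0 => hb (add_eq_left.1 h0))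
    · exact absurd (hωinj h) (fun h0 => ha (add_eq_right.1 h0))
    · exact h
  refine ⟨⟨π, ψ, ω, ?_, hker, fun v => ⟨r v, hrQ v, hrψ v⟩, hψker, hψmul, hψconj, hωmem, hωsurj, hωinj,
    hωadd, hωconj, hsq, ?_⟩⟩
  · exact F.πsurj.comp (QuotientGroup.mk'_surjective J)
  · intro a ha b hb
    have h1 := hsq _ (mul_mem ha hb)
    rw [hψmul a ha b hb, hωadd, ← hsq a ha, ← hsq b hb] at h1
    refine (mul_left_cancel (a := a) (mul_right_cancel (b := b) ?_)).symm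
    calc a * (b * a) * b = a * b * (a * b) := by group
      _ = a * a * (b * b) := h1
      _ = a * (a * b) * b := by group

theorem Layer.exists_data {Q J W : Subgroup Y} [Q.Normal] [J.Normal] [W.Normal] (l : Layer Q J W) :
    Nonempty (Data Q Q J W) := by
  refine LayerIn.exists_data ⟨l.τ, le_rfl, fun k hk q hq => ?_, fun k hk w hw => l.Jcen k hk w (l.WJ hw),
    l.WJ, l.JQ, l.Jexp, l.Jcen, l.W8, l.idx, l.sq, l.ne, l.Wmove, l.Qmove⟩
  have hexp : Exp2 (Q.map (QuotientGroup.mk' J)) := by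
    rintro _ ⟨q, hq, rfl⟩
    rw [← map_mul]
    exact (QuotientGroup.eq_one_iff _).2 (l.WJ (l.sq q hq))
  have h := hexp.comm (mem_map_of_mem (QuotientGroup.mk' J) hk) (mem_map_of_mem _ hq)
  refine (QuotientGroup.eq_one_iff _).1 ?_
  show QuotientGroup.mk' J k * QuotientGroup.mk' J q * (QuotientGroup.mk' J k)⁻¹ * (QuotientGroup.mk' J q)⁻¹ = 1
  rw [h, mul_inv_cancel_right, mul_inv_cancel]

namespace Data

variable {K Q J W : Subgroup Y} (D : Data K Q J W)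

omit [Finite Y] in
theorem ω_zero : D.ω 0 = 1 := mul_eq_left.1 ((D.ωadd 0 0).symm.trans (by rw [add_zero]))

omit [Finite Y] in
theorem ψ_one : D.ψ 1 = 0 := by
  have := D.ψmul 1 (one_mem Q) 1 (one_mem Q)
  rw [one_mul] at this
  exact left_eq_add.1 this

omit [Finite Y] in
theorem conj_ω {g : Y} {v : Fin 3 → ZMod 2} (h : (D.π g : Matrix (Fin 3) (Fin 3) (ZMod 2)) *ᵥ v = v) :
    g * D.ω v = D.ω v * g := by
  refine conj_eq_iff.1 ?_
  rw [← D.ωconj, h]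

theorem exists_elts [K.Normal] (hQ : IsPGroup 2 K) :
    ∃ s y : Y, D.π s = gS ∧ D.π y = gY ∧ y ^ 3 = 1 := by
  obtain ⟨s, hs⟩ := D.πsurj gS
  obtain ⟨y0, hy0⟩ := D.πsurj gY
  have h3 : (y0 : Y ⧸ K) ^ 3 = 1 := by
    rw [← QuotientGroup.mk_pow, QuotientGroup.eq_one_iff, ← D.ker, map_pow, hy0, gY_pow]
  obtain ⟨y, hy, hy3⟩ := exists_lift hQ Nat.prime_three (by norm_num) h3
  refine ⟨s, y, hs, ?_, hy3⟩
  have hm : y⁻¹ * y0 ∈ K := QuotientGroup.eq.1 hy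
  rw [← hy0, show D.π y0 = D.π (y * (y⁻¹ * y0)) by rw [mul_inv_cancel_left], map_mul D.π y,
    (D.ker _).2 hm, mul_one]

end Data

/-! ### `C₄³` -/

/-- The reduction modulo `2`. -/
def red (v : Fin 3 → ZMod 4) : Fin 3 → ZMod 2 := fun i => ZMod.castHom (show 2 ∣ 4 by norm_num) (ZMod 2) (v i)

/-- The only matrix above `gS` of order `4` and determinant `1` in adapted coordinates. -/
def mS : Matrix (Fin 3) (Fin 3) (ZMod 4) := !![1, 0, 0; 1, 1, 2; 0, 1, 3]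

theorem mS_unique : ∀ c : Fin 3 → ZMod 4, red c = e3 →
    !![1, 0, c 0; 1, 1, c 1; 0, 1, c 2] ^ 4 = 1 → Matrix.det !![1, 0, c 0; 1, 1, c 1; 0, 1, c 2] = 1 →
    !![1, 0, c 0; 1, 1, c 1; 0, 1, c 2] = mS := by decide

theorem mS_fixed : ∀ v : Fin 3 → ZMod 4, mS *ᵥ v = v →
    ∃ k : ZMod 4, v + (mS * mS) *ᵥ ![k, 0, 0] + ![k, 0, 0] = 0 := by decide

theorem mS_move : ∀ v : Fin 3 → ZMod 4, (red v = 0 ∨ red v = e3) →
    (mS * mS) *ᵥ v - v = 0 ∨ (mS * mS) *ᵥ v - v = ![0, 0, 2] := by decide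

/-- No `C₄³ · L₃(2)` in sectional rank `4`. -/
theorem false_homocyclic {Q W : Subgroup Y} [Q.Normal] [W.Normal] (l : Layer Q W W) : False := by
  classical
  haveI : Fact (Nat.Prime 2) := ⟨Nat.prime_two⟩
  obtain ⟨D⟩ := l.exists_data
  have hQ64 : Nat.card Q = 64 := by rw [l.idx, l.W8]
  obtain ⟨s, y, hs, hy, hy3⟩ := D.exists_elts l.τ.two
  obtain ⟨f1, hf1, hf1ψ⟩ := D.ψsurj ![1, 0, 0]
  set f2 := f1⁻¹ * (s * f1 * s⁻¹) with hf2
  have hf2Q : f2 ∈ Q := mul_mem (inv_mem hf1) (Normal.conj_mem inferInstance f1 hf1 s)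
  set f3 := f2⁻¹ * (s * f2 * s⁻¹) with hf3
  have hf3Q : f3 ∈ Q := mul_mem (inv_mem hf2Q) (Normal.conj_mem inferInstance f2 hf2Q s)
  have hψinv : ∀ a ∈ Q, ∀ b ∈ Q, D.ψ (a⁻¹ * b) = D.ψ a + D.ψ b := by
    intro a ha b hb
    have h1 := D.ψmul a ha _ (mul_mem (inv_mem ha) hb)
    rw [mul_inv_cancel_left] at h1
    rw [h1, ← add_assoc, show D.ψ a + D.ψ a = 0 from funext fun i => CharTwo.add_self_eq_zero _, zero_add]
  have hψ2 : D.ψ f2 = ![0, 1, 0] := by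
    rw [hf2, hψinv _ hf1 _ (Normal.conj_mem inferInstance f1 hf1 s), D.ψconj s f1 hf1, hs, hf1ψ]
    exact f_step.1
  have hψ3 : D.ψ f3 = e3 := by
    rw [hf3, hψinv _ hf2Q _ (Normal.conj_mem inferInstance f2 hf2Q s), D.ψconj s f2 hf2Q, hs, hψ2]
    exact f_step.2
  -- coordinates modulo `4`
  have h4 : ∀ x ∈ Q, x ^ 4 = 1 := fun x hx => by
    rw [show x ^ 4 = x * x * (x * x) by simp only [pow_succ, pow_zero, one_mul, mul_assoc]]
    exact l.Jexp _ (l.sq x hx)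
  let φ : (Fin 3 → ZMod 4) → Y := fun v => f1 ^ (v 0).val * f2 ^ (v 1).val * f3 ^ (v 2).val
  have hφmem : ∀ v, φ v ∈ Q := fun v => mul_mem (mul_mem (pow_mem hf1 _) (pow_mem hf2Q _)) (pow_mem hf3Q _)
  have hφadd : ∀ v w, φ (v + w) = φ v * φ w := by
    intro v w
    have hp : ∀ x ∈ Q, ∀ a b : ZMod 4, x ^ (a + b).val = x ^ a.val * x ^ b.val := fun x hx a b => by
      rw [← pow_add, ZMod.val_add, ← pow_eq_pow_mod _ (h4 x hx)]
    have c1 : f2 ^ (v 1).val * f1 ^ (w 0).val = f1 ^ (w 0).val * f2 ^ (v 1).val :=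
      D.comm _ (pow_mem hf2Q _) _ (pow_mem hf1 _)
    have c2 : f3 ^ (v 2).val * (f1 ^ (w 0).val * f2 ^ (w 1).val) =
        f1 ^ (w 0).val * f2 ^ (w 1).val * f3 ^ (v 2).val :=
      D.comm _ (pow_mem hf3Q _) _ (mul_mem (pow_mem hf1 _) (pow_mem hf2Q _))
    show f1 ^ (v 0 + w 0).val * f2 ^ (v 1 + w 1).val * f3 ^ (v 2 + w 2).val = _
    rw [hp f1 hf1, hp f2 hf2Q, hp f3 hf3Q]
    calc f1 ^ (v 0).val * f1 ^ (w 0).val * (f2 ^ (v 1).val * f2 ^ (w 1).val) *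
          (f3 ^ (v 2).val * f3 ^ (w 2).val)
        = f1 ^ (v 0).val * (f1 ^ (w 0).val * f2 ^ (v 1).val) * f2 ^ (w 1).val *
          f3 ^ (v 2).val * f3 ^ (w 2).val := by group
      _ = f1 ^ (v 0).val * (f2 ^ (v 1).val * f1 ^ (w 0).val) * f2 ^ (w 1).val *
          f3 ^ (v 2).val * f3 ^ (w 2).val := by rw [c1]
      _ = f1 ^ (v 0).val * f2 ^ (v 1).val * (f1 ^ (w 0).val * f2 ^ (w 1).val * f3 ^ (v 2).val) *
          f3 ^ (w 2).val := by group
      _ = f1 ^ (v 0).val * f2 ^ (v 1).val * (f3 ^ (v 2).val * (f1 ^ (w 0).val * f2 ^ (w 1).val)) *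
          f3 ^ (w 2).val := by rw [c2]
      _ = _ := by simp only [φ]; group
  have hψpow : ∀ x ∈ Q, ∀ n : ℕ, D.ψ (x ^ n) = n • D.ψ x := by
    intro x hx n
    induction n with
    | zero => rw [pow_zero, zero_smul, D.ψ_one]
    | succ n ih => rw [pow_succ, D.ψmul _ (pow_mem hx n) _ hx, ih, succ_nsmul]
  have hψφ : ∀ v, D.ψ (φ v) = red v := by
    intro v
    show D.ψ (f1 ^ (v 0).val * f2 ^ (v 1).val * f3 ^ (v 2).val) = _
    rw [D.ψmul _ (mul_mem (pow_mem hf1 _) (pow_mem hf2Q _)) _ (pow_mem hf3Q _),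
      D.ψmul _ (pow_mem hf1 _) _ (pow_mem hf2Q _), hψpow f1 hf1, hψpow f2 hf2Q, hψpow f3 hf3Q,
      hf1ψ, hψ2, hψ3]
    have hcast := val_cast
    funext i
    fin_cases i <;> simp [red, e3, ← hcast]
  have hφsurj : ∀ x ∈ Q, ∃ v, φ v = x := by
    intro x hx
    have hlift : ∀ u : Fin 3 → ZMod 2, ∃ v, red v = u := fun u =>
      ⟨fun i => ((u i).val : ZMod 4), funext fun i => by
        simp only [red]; generalize u i = a; revert a; decide⟩
    obtain ⟨v, hv⟩ := hlift (D.ψ x)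
    have hw : (φ v)⁻¹ * x ∈ W := by
      rw [← D.ψker _ (mul_mem (inv_mem (hφmem v)) hx), hψinv _ (hφmem v) _ hx, hψφ, hv]
      exact funext fun i => CharTwo.add_self_eq_zero _
    obtain ⟨u, hu⟩ := D.ωsurj _ hw
    obtain ⟨v', hv'⟩ := hlift u
    refine ⟨v + (v' + v'), ?_⟩
    rw [hφadd, hφadd, D.sq _ (hφmem v'), hψφ, hv', hu, mul_inv_cancel_left]
  have hφinj : Function.Injective φ := by
    have hb : Function.Bijective fun v => (⟨φ v, hφmem v⟩ : Q) := by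
      refine (Nat.bijective_iff_surjective_and_card _).2 ⟨fun x => ?_, ?_⟩
      · obtain ⟨v, hv⟩ := hφsurj x x.2; exact ⟨v, Subtype.ext hv⟩
      · rw [hQ64]; simp
    exact fun a b hab => hb.1 (Subtype.ext hab)
  obtain ⟨ρ, hρ⟩ := exists_rep φ hφadd hφinj fun g v =>
    hφsurj _ (Normal.conj_mem inferInstance _ (hφmem v) g)
  have hρQ : ∀ q ∈ Q, ρ q = 1 := fun q hq => Units.ext (Matrix.ext_of_mulVec_single fun i => hφinj (by
    rw [hρ, Units.val_one, one_mulVec, D.comm q hq _ (hφmem _), mul_inv_cancel_right]))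
  -- determinant `1`
  have hdet : ∀ g, (Matrix.det (ρ g : Matrix (Fin 3) (Fin 3) (ZMod 4))) = 1 := by
    set χ : Y →* (ZMod 4)ˣ := Matrix.GeneralLinearGroup.det.comp ρ with hχ
    have hQk : Q ≤ χ.ker := fun q hq => MonoidHom.mem_ker.2 (by
      show Matrix.GeneralLinearGroup.det (ρ q) = 1
      rw [hρQ q hq, map_one])
    have hidx : χ.ker.index ≤ 2 := by
      rw [index_ker]
      refine le_trans (card_le_card_group _) (le_of_eq ?_)
      rw [Nat.card_eq_fintype_card]; rfl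
    intro g
    obtain ⟨x, hxk, hxQ⟩ : ∃ x ∈ χ.ker, x ∉ Q := by
      by_contra! hsub
      have heq : χ.ker = Q := le_antisymm hsub hQk
      rw [heq, index_eq_card, l.τ.card] at hidx
      omega
    have h1 : χ g = 1 := MonoidHom.mem_ker.1 ((l.τ.eq_top hQk hxk hxQ).ge (mem_top g))
    exact congrArg Units.val h1
  -- the matrix of `s`
  have hcol : ∀ i : Fin 3, ∀ v, φ v = s * φ (Pi.single i 1) * s⁻¹ →
      ∀ j, (ρ s : Matrix (Fin 3) (Fin 3) (ZMod 4)) j i = v j := by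
    intro i v hv j
    have := hφinj (hv.trans (hρ s (Pi.single i 1)).symm)
    rw [this, mulVec_single_one]
    rfl
  have c0 := hcol 0 ![1, 1, 0] (by
    show f1 ^ (1 : ℕ) * f2 ^ (1 : ℕ) * f3 ^ (0 : ℕ) = s * (f1 ^ (1 : ℕ) * f2 ^ (0 : ℕ) * f3 ^ (0 : ℕ)) * s⁻¹
    simp [hf2])
  have c1 := hcol 1 ![0, 1, 1] (by
    show f1 ^ (0 : ℕ) * f2 ^ (1 : ℕ) * f3 ^ (1 : ℕ) = s * (f1 ^ (0 : ℕ) * f2 ^ (1 : ℕ) * f3 ^ (0 : ℕ)) * s⁻¹
    simp [hf3])
  obtain ⟨c, hc⟩ : ∃ c, φ c = s * φ (Pi.single 2 1) * s⁻¹ :=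
    hφsurj _ (Normal.conj_mem inferInstance _ (hφmem _) s)
  have c2 := hcol 2 c hc
  have hρs : (ρ s : Matrix (Fin 3) (Fin 3) (ZMod 4)) = mS := by
    have hM : (ρ s : Matrix (Fin 3) (Fin 3) (ZMod 4)) = !![1, 0, c 0; 1, 1, c 1; 0, 1, c 2] := by
      ext i j
      fin_cases i <;> fin_cases j <;> simp [c0, c1, c2]
    rw [hM]
    refine mS_unique c ?_ ?_ ?_
    · rw [← hψφ c, hc, D.ψconj s _ (hφmem _), hψφ, hs]; decide
    · rw [← hM, ← Units.val_pow_eq_pow_val, ← map_pow, hρQ _ ((D.ker _).1 (by rw [map_pow, hs, gS_pow]))]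
      rfl
    · rw [← hM]; exact hdet s
  -- the involution
  set t0 := s * s with ht0
  have hm : t0 * t0 ∈ Q := (D.ker _).1 (by rw [map_mul, map_mul, hs, gS_sq, gT_sq])
  obtain ⟨mv, hmv⟩ := hφsurj _ hm
  obtain ⟨k, hk⟩ := mS_fixed mv (by
    refine hφinj ?_
    rw [← hρs, hρ, hmv, ht0]; group)
  have hρt0 : (ρ t0 : Matrix (Fin 3) (Fin 3) (ZMod 4)) = mS * mS := by
    rw [map_mul, Units.val_mul, hρs]
  set a := φ ![k, 0, 0] with ha
  set t := t0 * a with ht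
  have htt : t * t = 1 := by
    have h1 : t0 * a * t0⁻¹ * (t0 * t0) = t0 * t0 * (t0 * a * t0⁻¹) :=
      D.comm _ (Normal.conj_mem inferInstance a (hφmem _) t0) _ hm
    calc t * t = t0 * a * t0⁻¹ * (t0 * t0) * a := by rw [ht]; group
      _ = t0 * t0 * (t0 * a * t0⁻¹) * a := by rw [h1]
      _ = φ (mv + (mS * mS) *ᵥ ![k, 0, 0] + ![k, 0, 0]) := by
        rw [hφadd, hφadd, hmv, ← hρt0, hρ]
      _ = 1 := by
        rw [hk]
        simp [φ]
  have hπt : D.π t = gT := by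
    rw [ht, map_mul, ht0, map_mul, hs, gS_sq, (D.ker a).2 (hφmem _), mul_one]
  have hρt : (ρ t : Matrix (Fin 3) (Fin 3) (ZMod 4)) = mS * mS := by
    rw [ht, map_mul, hρQ a (hφmem _), mul_one, hρt0]
  set u := y * t * y⁻¹ with hu
  set w := y * u * y⁻¹ with hw
  have hπu : D.π u = gY * gT * gY⁻¹ := by rw [hu, map_mul, map_mul, map_inv, hy, hπt]
  have huu : u * u = 1 := by rw [hu, show y * t * y⁻¹ * (y * t * y⁻¹) = y * (t * t) * y⁻¹ by group, htt]; group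
  have hww : w * w = 1 := by rw [hw, show y * u * y⁻¹ * (y * u * y⁻¹) = y * (u * u) * y⁻¹ by group, huu]; group
  set c' := t * u * w with hc'
  have hc'Q : c' ∈ Q := (D.ker _).1 (by
    rw [hc', hw]
    simp only [map_mul, map_inv, hπt, hπu, hy]
    exact four_group)
  -- `c` lies in the preimage of the third axis
  have hc'B : D.ψ c' = 0 ∨ D.ψ c' = e3 := by
    refine fixed_quot _ ?_
    rw [← hy, ← D.ψconj y c' hc'Q, ← hπt, ← D.ψconj t c' hc'Q]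
    congr 1
    have hy3' : y * y * y = 1 := by rw [← hy3]; simp only [pow_succ, pow_zero, one_mul]
    calc y * c' * y⁻¹ = u * w * (y * y * y) * t * (y * y * y)⁻¹ := by rw [hc', hw, hu]; group
      _ = u * w * t := by rw [hy3', mul_one, inv_one, mul_one]
      _ = t⁻¹ * c' * t := by rw [hc']; group
      _ = t * c' * t⁻¹ := by rw [inv_eq_of_mul_eq_one_right htt]
  -- `R` and the generators
  set r0 := D.ω e3 with hr0
  have hr1 : r0 ≠ 1 := fun h => e3_fixed.2.2.2 (D.ωinj (h.trans D.ω_zero.symm))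
  set R := zpowers r0 with hR
  have hR2 : Nat.card R = 2 := by
    rw [hR, Nat.card_zpowers, orderOf_eq_prime_iff]
    exact ⟨by rw [pow_two]; exact l.Jexp _ (D.ωmem _), hr1⟩
  have hfixR : ∀ g, (D.π g : Matrix (Fin 3) (Fin 3) (ZMod 2)) *ᵥ e3 = e3 → ∀ r ∈ R, g * r * g⁻¹ = r := by
    intro g hg r hr
    obtain ⟨n, rfl⟩ := mem_zpowers_iff.1 hr
    exact conj_eq_iff.2 ((show Commute g r0 from D.conj_ω hg).zpow_right n).eq
  have hQfix : ∀ q ∈ Q, (D.π q : Matrix (Fin 3) (Fin 3) (ZMod 2)) *ᵥ e3 = e3 := fun q hq => by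
    rw [(D.ker q).2 hq, Units.val_one, one_mulVec]
  set Bs : Set Y := {x | x ∈ Q ∧ (D.ψ x = 0 ∨ D.ψ x = e3)} with hBs
  have hBsq : ∀ x ∈ Bs, x * x ∈ R := by
    rintro x ⟨hx, h | h⟩ <;> rw [D.sq x hx, h]
    · rw [D.ω_zero]; exact one_mem R
    · exact mem_zpowers _
  have hmove : ∀ x ∈ Bs, t * x * t⁻¹ * x⁻¹ ∈ R := by
    rintro x ⟨hx, hxv⟩
    obtain ⟨v, rfl⟩ := hφsurj x hx
    rw [hψφ] at hxv
    rw [← hρ, hρt, show (φ v)⁻¹ = φ (-v) from inv_eq_of_mul_eq_one_right (by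
      rw [← hφadd, add_neg_cancel]; simp [φ]), ← hφadd, ← sub_eq_add_neg]
    rcases mS_move v hxv with h | h <;> rw [h]
    · rw [show φ 0 = 1 by simp [φ]]; exact one_mem R
    · rw [show φ ![0, 0, 2] = f3 ^ 2 by simp [φ]; rfl, pow_two, D.sq f3 hf3Q, hψ3]
      exact mem_zpowers _
  have hyB : ∀ x ∈ Bs, y⁻¹ * x * y ∈ Bs := by
    rintro x ⟨hx, hxv⟩
    have hQx : y⁻¹ * x * y ∈ Q := by
      simpa using Normal.conj_mem (inferInstance : Q.Normal) x hx y⁻¹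
    refine ⟨hQx, ?_⟩
    have h1 := D.ψconj y⁻¹ x hx
    rw [inv_inv] at h1
    rw [h1]
    rcases hxv with h | h <;> rw [h]
    · exact Or.inl (mulVec_zero _)
    · refine Or.inr ?_
      rw [map_inv, hy]; decide
  have hmoveu : ∀ x ∈ Bs, u * x * u⁻¹ * x⁻¹ ∈ R := by
    intro x hx
    have h1 := hmove _ (hyB x hx)
    have hid : u * x * u⁻¹ * x⁻¹ =
        y * (t * (y⁻¹ * x * y) * t⁻¹ * (y⁻¹ * x * y)⁻¹) * y⁻¹ := by rw [hu]; group
    rw [hid, hfixR y (by rw [hy]; exact e3_fixed.2.2.1) _ h1]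
    exact h1
  have hc'Bs : c' ∈ Bs := ⟨hc'Q, hc'B⟩
  set t' := t * c' with ht'
  set u' := u * c' with hu'
  have hπt' : D.π t' = gT := by rw [ht', map_mul, (D.ker c').2 hc'Q, mul_one, hπt]
  have hπu' : D.π u' = gY * gT * gY⁻¹ := by rw [hu', map_mul, (D.ker c').2 hc'Q, mul_one, hπu]
  set G : Set Y := Bs ∪ {t', u'} with hG
  have hRcl : R ≤ Subgroup.closure G := by
    rw [hR, zpowers_le]
    refine Subgroup.subset_closure (Or.inl ⟨l.JQ (D.ωmem _), Or.inl ?_⟩)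
    exact (D.ψker _ (l.JQ (D.ωmem _))).2 (D.ωmem _)
  have hGfix : ∀ g ∈ G, (D.π g : Matrix (Fin 3) (Fin 3) (ZMod 2)) *ᵥ e3 = e3 := by
    rintro g (⟨hg, -⟩ | rfl | rfl)
    · exact hQfix g hg
    · rw [hπt']; decide
    · rw [hπu']; decide
  have hRn : ∀ g ∈ G, ∀ r ∈ R, g * r * g⁻¹ ∈ R := fun g hg r hr => by
    rw [hfixR g (hGfix g hg) r hr]; exact hr
  have hRq : ∀ r ∈ R, ∀ g, (D.π g : Matrix (Fin 3) (Fin 3) (ZMod 2)) *ᵥ e3 = e3 → r * g = g * r :=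
    fun r hr g hg => (conj_eq_iff.1 (hfixR g hg r hr)).symm
  have hsqx : ∀ x, x = t ∨ x = u → x * c' * (x * c') ∈ R := by
    rintro x hx
    have hxx : x * x = 1 := by rcases hx with rfl | rfl; exacts [htt, huu]
    have hxi : x⁻¹ = x := inv_eq_of_mul_eq_one_right hxx
    have hm' : x * c' * x⁻¹ * c'⁻¹ ∈ R := by rcases hx with rfl | rfl; exacts [hmove _ hc'Bs, hmoveu _ hc'Bs]
    rw [show x * c' * (x * c') = (x * c' * x⁻¹ * c'⁻¹) * (c' * c') by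
      rw [hxi]; group]
    exact mul_mem hm' (hBsq _ hc'Bs)
  have hsqG : ∀ g ∈ G, g * g ∈ R := by
    rintro g (hg | rfl | rfl)
    exacts [hBsq g hg, hsqx t (Or.inl rfl), hsqx u (Or.inr rfl)]
  have htu : t' * u' * (t' * u') ∈ R := by
    have h1 : t * u = c' * w := by
      rw [hc', mul_assoc (t * u) w w, hww, mul_one]
    set r := u⁻¹ * c' * u * c' with hr
    have hrR : r ∈ R := by
      rw [hr, show u⁻¹ * c' * u * c' = (u * c' * u⁻¹ * c'⁻¹) * (c' * c') by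
        rw [inv_eq_of_mul_eq_one_right huu]; group]
      exact mul_mem (hmoveu _ hc'Bs) (hBsq _ hc'Bs)
    have h2 : t' * u' = c' * w * r := by
      rw [← h1, ht', hu', hr]; group
    have hwfix : (D.π w : Matrix (Fin 3) (Fin 3) (ZMod 2)) *ᵥ e3 = e3 := by
      rw [hw, map_mul, map_mul, map_inv, hy, hπu]; decide
    have hcwfix : (D.π (c' * w) : Matrix (Fin 3) (Fin 3) (ZMod 2)) *ᵥ e3 = e3 := by
      rw [map_mul, (D.ker c').2 hc'Q, one_mul]; exact hwfix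
    have hwm : w * c' * w⁻¹ * c'⁻¹ ∈ R := by
      have hb : y⁻¹ * c' * y ∈ Bs := hyB c' hc'Bs
      have h3 := hmoveu _ hb
      have hid : w * c' * w⁻¹ * c'⁻¹ = y * (u * (y⁻¹ * c' * y) * u⁻¹ * (y⁻¹ * c' * y)⁻¹) * y⁻¹ := by
        rw [hw]; group
      rw [hid, hfixR y (by rw [hy]; exact e3_fixed.2.2.1) _ h3]
      exact h3
    have h4 : c' * w * (c' * w) ∈ R := by
      have e : c' * w * (c' * w) = c' * (w * c' * w⁻¹ * c'⁻¹) * c' * (w * w) := by group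
      rw [e, hww, mul_one, ← hRq _ hwm c' (hQfix c' hc'Q), mul_assoc]
      exact mul_mem hwm (hBsq _ hc'Bs)
    rw [h2, show c' * w * r * (c' * w * r) = c' * w * (r * (c' * w)) * r by group,
      hRq r hrR _ hcwfix, show c' * w * (c' * w * r) * r = c' * w * (c' * w) * (r * r) by group]
    exact mul_mem h4 (mul_mem hrR hrR)
  have hcm : ∀ a ∈ G, ∀ b ∈ G, a * b * a⁻¹ * b⁻¹ ∈ R := by
    have hsym : ∀ a b : Y, a * b * a⁻¹ * b⁻¹ ∈ R → b * a * b⁻¹ * a⁻¹ ∈ R := fun a b h => by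
      rw [show b * a * b⁻¹ * a⁻¹ = (a * b * a⁻¹ * b⁻¹)⁻¹ by group]; exact inv_mem h
    have hBB : ∀ a ∈ Bs, ∀ b ∈ Bs, a * b * a⁻¹ * b⁻¹ ∈ R := fun a ha b hb => by
      rw [D.comm a ha.1 b hb.1, mul_inv_cancel_right, mul_inv_cancel]; exact one_mem R
    have hxB : ∀ x, x = t ∨ x = u → ∀ b ∈ Bs, x * c' * b * (x * c')⁻¹ * b⁻¹ ∈ R := by
      intro x hx b hb
      rw [show x * c' * b * (x * c')⁻¹ * b⁻¹ = x * (c' * b * c'⁻¹) * x⁻¹ * b⁻¹ by group,
        D.comm c' hc'Q b hb.1, mul_inv_cancel_right]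
      rcases hx with rfl | rfl; exacts [hmove b hb, hmoveu b hb]
    have htu' : t' * u' * t'⁻¹ * u'⁻¹ ∈ R := by
      have hT := hsqG t' (Or.inr (Or.inl rfl))
      have hU := hsqG u' (Or.inr (Or.inr rfl))
      rw [show t' * u' * t'⁻¹ * u'⁻¹ = (t' * u' * (t' * u')) * (u'⁻¹ * (t' * t')⁻¹ * u') * (u' * u')⁻¹ by group,
        show u'⁻¹ * (t' * t')⁻¹ * u' = u'⁻¹ * ((t' * t')⁻¹ * u') by group,
        hRq _ (inv_mem hT) u' (hGfix u' (Or.inr (Or.inr rfl))), inv_mul_cancel_left]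
      exact mul_mem (mul_mem htu (inv_mem hT)) (inv_mem hU)
    rintro a (ha | rfl | rfl) b (hb | rfl | rfl)
    · exact hBB a ha b hb
    · exact hsym _ _ (hxB t (Or.inl rfl) a ha)
    · exact hsym _ _ (hxB u (Or.inr rfl) a ha)
    · exact hxB t (Or.inl rfl) b hb
    · rw [mul_inv_cancel_right, mul_inv_cancel]; exact one_mem R
    · exact htu'
    · exact hxB u (Or.inr rfl) b hb
    · exact hsym _ _ htu'
    · rw [mul_inv_cancel_right, mul_inv_cancel]; exact one_mem R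
  have hle := card_closure_le l.rank hRcl hRn hsqG hcm
  rw [hR2] at hle
  -- the order is at least `64`
  set C0 := Subgroup.closure Bs
  set C1 := Subgroup.closure (Bs ∪ {t'})
  have hC0W : W < C0 := by
    refine lt_of_le_not_ge (fun x hx => Subgroup.subset_closure ⟨l.JQ hx, Or.inl ((D.ψker x (l.JQ hx)).2 hx)⟩)
      fun h => e3_fixed.2.2.2 ?_
    rw [← hψ3, D.ψker f3 hf3Q]
    exact h (Subgroup.subset_closure ⟨hf3Q, Or.inr hψ3⟩)
  have hC0Q : C0 ≤ D.π.ker := (Subgroup.closure_le _).2 fun x hx => MonoidHom.mem_ker.2 ((D.ker x).2 hx.1)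
  have hC01 : C0 < C1 := by
    refine lt_of_le_not_ge (Subgroup.closure_mono Set.subset_union_left) fun h => gT_ne ?_
    rw [← hπt']
    exact MonoidHom.mem_ker.1 (hC0Q (h (Subgroup.subset_closure (Or.inr rfl))))
  have hC1T : C1.map D.π ≤ zpowers gT := by
    rw [MonoidHom.map_closure, Subgroup.closure_le]
    rintro _ ⟨x, hx | rfl, rfl⟩
    · rw [(D.ker x).2 hx.1]; exact one_mem _
    · rw [hπt']; exact mem_zpowers _
  have hC12 : C1 < Subgroup.closure G := by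
    refine lt_of_le_not_ge (Subgroup.closure_mono ?_) fun h => ?_
    · rintro x (hx | rfl)
      exacts [Or.inl hx, Or.inr (Or.inl rfl)]
    · have := hC1T (mem_map_of_mem D.π (h (Subgroup.subset_closure (Or.inr (Or.inr rfl)))))
      rw [hπu'] at this
      obtain ⟨n, hn⟩ := mem_powers_iff_mem_zpowers.2 this
      dsimp only at hn
      rw [pow_eq_pow_mod n (show gT ^ 2 = 1 by rw [pow_two, gT_sq])] at hn
      have h2 : ∀ i : Fin 2, gT ^ (i : ℕ) ≠ gY * gT * gY⁻¹ := by decide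
      exact h2 ⟨n % 2, Nat.mod_lt _ two_pos⟩ hn
  have a1 := two_mul_card_le hC0W
  have a2 := two_mul_card_le hC01
  have a3 := two_mul_card_le hC12
  rw [l.W8] at a1
  omega

end CfsgLib.SRank.Seven
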