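import Cfsg.Agent.Lib.SRank.Seven.Layers

/-!
`O₂` of order `64` with a central squares subgroup of order `4`: impossible.
-/

set_option autoImplicit false
set_option linter.style.haveILetI false

namespace CfsgLib.SRank.Seven

open Subgroup Matrix
open CfsgLib.SRank.Five (card_map_mk card_set_modEq exists_lift)

universe u

variable {Y : Type u} [Group Y] [Finite Y]

omit [Finite Y] in
/-- An element moving `x` by a fixed involution has square fixing `x`. -/
theorem sq_fix {g x w : Y} (h : g * x * g⁻¹ = x * w) (hw : g * w = w * g) (hww : w * w = 1) :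
    g * g * x = x * (g * g) := by
  refine conj_eq_iff.1 ?_
  calc g * g * x * (g * g)⁻¹ = g * (g * x * g⁻¹) * g⁻¹ := by group
    _ = g * (x * w) * g⁻¹ := by rw [h]
    _ = (g * x * g⁻¹) * (g * w * g⁻¹) := by group
    _ = x * (w * w) := by rw [h, hw, mul_inv_cancel_right, mul_assoc]
    _ = x := by rw [hww, mul_one]

omit [Finite Y] in
/-- The same, for an element of order `3`. -/
theorem cube_fix {g x w : Y} (g3 : g ^ 3 = 1) (h : g * x * g⁻¹ = x * w) (hw : g * w = w * g)
    (hww : w * w = 1) : g * x = x * g := by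
  have h2 : Commute (g * g) x := sq_fix h hw hww
  have := (h2.pow_left 2).eq
  rwa [show (g * g) ^ 2 = g by
    rw [← pow_two, ← pow_mul, show 2 * 2 = 3 + 1 from rfl, pow_succ, g3, one_mul]] at this

/-- `W` of order `2`: impossible. -/
theorem false_ext_two {Q P W : Subgroup Y} [Q.Normal] [P.Normal] [W.Normal] (b : Pre Q P W)
    (W2 : Nat.card W = 2) (Wc : ∀ g : Y, ∀ w ∈ W, g * w = w * g) : False := by
  classical
  haveI : Fact (Nat.Prime 2) := ⟨Nat.prime_two⟩
  haveI : Fact (Nat.Prime 7) := ⟨by norm_num⟩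
  obtain ⟨h, h7, hhQ⟩ := b.τ.exists_seven
  have hP4 : Nat.card P = 4 := by rw [b.two, W2]
  have hQ64 : Nat.card Q = 64 := by rw [b.card, hP4]
  obtain ⟨U, e, H⟩ := b.exists_halves h7 hhQ
  haveI := H.normal
  have hU32 : Nat.card U = 32 := by have := H.card; omega
  have hUP : Nat.card U = 8 * Nat.card P := by rw [hU32, hP4]
  have Wexp : Exp2 W := by
    intro w hw
    obtain ⟨w1, hw1, hw11⟩ := W.bot_or_exists_ne_one.resolve_left
      (fun e1 => by rw [e1, card_bot] at W2; norm_num at W2)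
    rcases two_cases W2.le hw1 hw11 hw with rfl | rfl
    · rw [one_mul]
    · rcases two_cases W2.le hw1 hw11 (mul_mem hw1 hw1) with e1 | e1
      · exact e1
      · exact absurd (mul_eq_left.1 e1) hw11
  set z := e * e with hz
  have hzP : z ∈ P := b.sq e H.eQ
  have hzW : z ∉ W := fun hm => H.eU ((H.mem e).2 ⟨H.eQ, hm⟩)
  have hidxW : (W.subgroupOf P).index = 2 := by
    have h1 := (W.subgroupOf P).card_mul_index
    rw [Nat.card_congr (subgroupOfEquivOfLe b.WP).toEquiv, W2, hP4] at h1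
    omega
  have hPcases : ∀ p ∈ P, p ∈ W ∨ ∃ w ∈ W, p = z * w := by
    intro p hp
    by_cases hpW : p ∈ W
    · exact Or.inl hpW
    refine Or.inr ⟨z⁻¹ * p, ?_, (mul_inv_cancel_left z p).symm⟩
    exact (mul_mem_iff_of_index_two hidxW (a := (⟨z, hzP⟩ : P)⁻¹) (b := ⟨p, hp⟩)).2
      (by simp only [inv_mem_iff, mem_subgroupOf]; exact ⟨fun hh => absurd hh hzW, fun hh => absurd hh hpW⟩)
  have hPQ' : ∀ q ∈ Q, ∀ p ∈ P, q * p = p * q := by
    have hzcen : ∀ q ∈ Q, q * z = z * q := by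
      intro q hq
      set c := e * q * e⁻¹ * q⁻¹ with hc
      have hcW : c ∈ W := b.comm e H.eQ q hq
      refine (conj_eq_iff.1 ?_ : z * q = q * z).symm
      calc z * q * z⁻¹ = e * (e * q * e⁻¹ * q⁻¹) * q * e⁻¹ := by rw [hz]; group
        _ = e * c * q * e⁻¹ := by rw [hc]
        _ = c * e * q * e⁻¹ := by rw [Wc e c hcW]
        _ = c * (e * q * e⁻¹ * q⁻¹) * q := by group
        _ = q := by rw [← hc, Wexp c hcW, one_mul]
    intro q hq p hp
    rcases hPcases p hp with hw | ⟨w, hw, rfl⟩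
    · exact Wc q p hw
    · exact ((show Commute q z from hzcen q hq).mul_right (Wc q w hw)).eq
  have hPc : ∀ g : Y, ∀ p ∈ P, g * p = p * g := by
    intro g p hp
    have hK : centralizer (P : Set Y) = ⊤ := b.τ.eq_top
      (fun q hq => mem_centralizer_iff.2 fun p hp => (hPQ' q hq p hp).symm)
      (mem_centralizer_iff.2 fun p hp => (small_fixed h7
        (fun x hx => Normal.conj_mem inferInstance x hx h) (k := 2) hP4 le_rfl hp).symm) hhQ
    exact (mem_centralizer_iff.1 (hK.ge (mem_top g)) p hp).symm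
  have hUcomm := comm_of_free h7 H.PU hUP H.free W2 (fun q _ => Wc q) (fun q hq => hPQ' q (H.le hq))
    (fun x hx v hv => b.comm x (H.le hx) v (H.le hv))
  -- squares on `U`
  let σ : U →* W :=
    { toFun := fun v => ⟨(v : Y) * v, ((H.mem v).1 v.2).2⟩
      map_one' := Subtype.ext (by simp)
      map_mul' := fun x v => Subtype.ext (by
        show (x : Y) * v * ((x : Y) * v) = (x : Y) * x * ((v : Y) * v)
        calc (x : Y) * v * ((x : Y) * v) = x * ((v : Y) * x) * v := by group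
          _ = x * ((x : Y) * v) * v := by rw [hUcomm v v.2 x x.2]
          _ = _ := by group) }
  set J := σ.ker.map U.subtype with hJ
  have hJmem : ∀ q, q ∈ J ↔ q ∈ Q ∧ q * q = 1 := by
    intro q
    constructor
    · rintro ⟨v, hv, rfl⟩
      exact ⟨H.le v.2, congrArg Subtype.val (MonoidHom.mem_ker.1 hv)⟩
    · rintro ⟨hq, h1⟩
      exact ⟨⟨q, (H.mem q).2 ⟨hq, h1 ▸ one_mem W⟩⟩, MonoidHom.mem_ker.2 (Subtype.ext h1), rfl⟩
  haveI : J.Normal := ⟨fun q hq g => by
    rw [hJmem] at hq ⊢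
    refine ⟨Normal.conj_mem inferInstance q hq.1 g, ?_⟩
    rw [show g * q * g⁻¹ * (g * q * g⁻¹) = g * (q * q) * g⁻¹ by group, hq.2, mul_one, mul_inv_cancel]⟩
  have hJU : J ≤ U := map_subtype_le _
  have hJQ : J ≤ Q := hJU.trans H.le
  have hJexp : Exp2 J := fun q hq => ((hJmem q).1 hq).2
  have hJ16 : Nat.card J = 16 := by
    have h1 := σ.ker.card_mul_index
    rw [index_ker, hU32, ← card_map_of_injective U.subtype_injective, ← hJ] at h1
    have h2 := card_dvd_of_le (le_top : σ.range ≤ ⊤)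
    rw [card_top, W2] at h2
    rcases (Nat.dvd_prime Nat.prime_two).1 h2 with e1 | e1
    · exfalso
      rw [e1, mul_one] at h1
      have := Invol.prank_of_sectional b.rank J hJexp.isMulCommutative
        (fun a ha => by rw [pow_two]; exact hJexp a ha)
      omega
    · rw [e1] at h1; omega
  have hzz : z * z ≠ 1 := by
    intro h1
    have hPJ : P ≤ J := by
      intro p hp
      refine (hJmem p).2 ⟨b.PQ hp, ?_⟩
      rcases hPcases p hp with hw | ⟨w, hw, rfl⟩
      · exact Wexp p hw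
      · calc z * w * (z * w) = z * (w * z) * w := by group
          _ = z * (z * w) * w := by rw [Wc z w hw]
          _ = (z * z) * (w * w) := by group
          _ = 1 := by rw [h1, Wexp w hw, one_mul]
    rcases free_step h7 hPJ hJU hUP (fun x hx => Normal.conj_mem inferInstance x hx h) H.free with e1 | e1
    · rw [e1] at hJ16; omega
    · rw [e1] at hJ16; omega
  have hzzW : z * z ∈ W := b.sqP hzP
  have hW2 : ∀ w ∈ W, w = 1 ∨ w = z * z := fun w hw => two_cases W2.le hzzW hzz hw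
  have hWJ : W ≤ J := fun w hw => (hJmem w).2 ⟨b.PQ (b.WP hw), Wexp w hw⟩
  have hJP : ∀ p ∈ P, p * p = 1 → p ∈ W := by
    intro p hp h1
    rcases hPcases p hp with hw | ⟨w, hw, rfl⟩
    · exact hw
    · exfalso
      refine hzz ?_
      rw [← h1]
      calc z * z = (z * z) * (w * w) := by rw [Wexp w hw, mul_one]
        _ = z * (z * w) * w := by group
        _ = z * (w * z) * w := by rw [Wc z w hw]
        _ = z * w * (z * w) := by group
  have hUdec : ∀ v ∈ U, v ∈ J ∨ ∃ j ∈ J, v = z * j := by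
    intro v hv
    have hzv : z⁻¹ * v * (z⁻¹ * v) = (z * z)⁻¹ * (v * v) := by
      calc z⁻¹ * v * (z⁻¹ * v) = z⁻¹ * (v * z⁻¹) * v := by group
        _ = z⁻¹ * (z⁻¹ * v) * v := by rw [hPc v z⁻¹ (inv_mem hzP)]
        _ = _ := by group
    rcases hW2 _ ((H.mem v).1 hv).2 with e1 | e1
    · exact Or.inl ((hJmem v).2 ⟨H.le hv, e1⟩)
    · refine Or.inr ⟨z⁻¹ * v, (hJmem _).2 ⟨mul_mem (inv_mem (b.PQ hzP)) (H.le hv), ?_⟩,
        (mul_inv_cancel_left z v).symm⟩
      rw [hzv, e1, inv_mul_cancel]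
  have hecen : ∀ v ∈ U, e * v = v * e := by
    let β : U →* W :=
      { toFun := fun v => ⟨e * (v : Y) * e⁻¹ * (v : Y)⁻¹, b.comm e H.eQ v (H.le v.2)⟩
        map_one' := Subtype.ext (by simp)
        map_mul' := fun x v => Subtype.ext (by
          show e * ((x : Y) * v) * e⁻¹ * ((x : Y) * v)⁻¹ =
            e * (x : Y) * e⁻¹ * (x : Y)⁻¹ * (e * (v : Y) * e⁻¹ * (v : Y)⁻¹)
          calc e * ((x : Y) * v) * e⁻¹ * ((x : Y) * v)⁻¹ =
              e * (x : Y) * e⁻¹ * ((e * (v : Y) * e⁻¹ * (v : Y)⁻¹) * (x : Y)⁻¹) := by group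
            _ = e * (x : Y) * e⁻¹ * ((x : Y)⁻¹ * (e * (v : Y) * e⁻¹ * (v : Y)⁻¹)) := by
              rw [← Wc (x : Y)⁻¹ _ (b.comm e H.eQ v (H.le v.2))]
            _ = _ := by group) }
    set K := β.ker.map U.subtype with hK
    have hKmem : ∀ v, v ∈ K ↔ v ∈ U ∧ e * v = v * e := by
      intro v
      constructor
      · rintro ⟨x, hx, rfl⟩
        exact ⟨x.2, conj_eq_iff.1 (mul_inv_eq_one.1 (congrArg Subtype.val (MonoidHom.mem_ker.1 hx)))⟩
      · rintro ⟨hv, hev⟩
        refine ⟨⟨v, hv⟩, MonoidHom.mem_ker.2 (Subtype.ext ?_), rfl⟩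
        show e * v * e⁻¹ * v⁻¹ = 1
        rw [hev, mul_inv_cancel_right, mul_inv_cancel]
    have hKinv : ∀ x ∈ K, h * x * h⁻¹ ∈ K := by
      intro x hx
      rw [hKmem] at hx ⊢
      refine ⟨Normal.conj_mem inferInstance x hx.1 h, ?_⟩
      have h1 : Commute (h * e * h⁻¹) (h * x * h⁻¹) := by
        show h * e * h⁻¹ * (h * x * h⁻¹) = h * x * h⁻¹ * (h * e * h⁻¹)
        calc h * e * h⁻¹ * (h * x * h⁻¹) = h * (e * x) * h⁻¹ := by group
          _ = h * (x * e) * h⁻¹ := by rw [hx.2]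
          _ = _ := by group
      rw [conj_eq_iff.2 H.fix] at h1
      exact h1.eq
    rcases free_step h7 (fun p hp => (hKmem p).2 ⟨H.PU hp, hPc e p hp⟩) (map_subtype_le _ : K ≤ U) hUP
      hKinv H.free with e1 | e1
    · exfalso
      have h1 := β.ker.card_mul_index
      rw [index_ker, hU32, ← card_map_of_injective U.subtype_injective, ← hK, e1, hP4] at h1
      have h2 : Nat.card β.range ≤ 2 := W2 ▸ β.range.card_le_card_group
      omega
    · exact fun v hv => ((hKmem v).1 (e1.ge hv)).2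
  have hcomm : ∀ x ∈ Q, ∀ v ∈ Q, x * v = v * x := by
    have hU : ∀ x ∈ Q, ∀ v ∈ U, x * v = v * x := by
      intro x hx v hv
      by_cases hxU : x ∈ U
      · exact hUcomm x hxU v hv
      · have h1 : Commute (e * (e⁻¹ * x)) v :=
          (show Commute e v from hecen v hv).mul_left (hUcomm _ (H.split x hx hxU) v hv)
        rwa [mul_inv_cancel_left] at h1
    intro x hx v hv
    by_cases hvU : v ∈ U
    · exact hU x hx v hvU
    by_cases hxU : x ∈ U
    · exact (hU v hv x hxU).symm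
    have h1 : Commute x (e * (e⁻¹ * v)) := by
      refine Commute.mul_right ?_ (hU x hx _ (H.split v hv hvU))
      have h2 : Commute (e * (e⁻¹ * x)) e :=
        (Commute.refl e).mul_left (show Commute (e⁻¹ * x) e from (hecen _ (H.split x hx hxU)).symm)
      rwa [mul_inv_cancel_left] at h2
    rwa [mul_inv_cancel_left] at h1
  -- coordinates on `J / W`
  set p := QuotientGroup.mk' W with hp
  haveI : (Q.map p).Normal := Normal.map inferInstance _ (QuotientGroup.mk'_surjective W)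
  set B := J.map p with hB
  haveI : B.Normal := Normal.map inferInstance _ (QuotientGroup.mk'_surjective W)
  have hBexp : Exp2 B := by
    rintro _ ⟨j, hj, rfl⟩
    rw [← map_mul, hJexp j hj, map_one]
  have hB8 : Nat.card B = 8 := by
    have := card_map_mk hWJ
    rw [hJ16, W2] at this
    change 16 = 2 * Nat.card B at this
    omega
  obtain ⟨j0, hj0, hj0W⟩ : ∃ j ∈ J, j ∉ W := by
    by_contra! hall
    have := card_le_of_le (show J ≤ W from hall)
    omega
  obtain ⟨F⟩ := (b.τ.quot (b.WP.trans b.PQ)).exists_frame hBexp hB8 (by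
    rintro _ ⟨q, hq, rfl⟩ _ ⟨j, hj, rfl⟩
    rw [← map_mul, ← map_mul, hcomm q hq j (hJQ hj)]) (g := p h) (mem_map_of_mem p hj0) (fun hh => hj0W
      (hJP j0 (H.free j0 (hJU hj0) (b.WP ((QuotientGroup.eq_one_iff _).1 (by
        show p h * p j0 * (p h)⁻¹ * (p j0)⁻¹ = 1
        rw [hh, mul_inv_cancel_right, mul_inv_cancel])))) (hJexp j0 hj0)))
  let π : Y →* L := F.π.comp p
  have hker : ∀ g, π g = 1 ↔ g ∈ Q := by
    intro g
    refine (F.ker (p g)).trans ⟨fun hm => ?_, fun hm => mem_map_of_mem p hm⟩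
    obtain ⟨q, hq, hqe⟩ := hm
    simpa using mul_mem hq ((b.WP.trans b.PQ) (QuotientGroup.eq.1 hqe))
  have hπsurj : Function.Surjective π := F.πsurj.comp (QuotientGroup.mk'_surjective W)
  have hv : ∀ j ∈ J, ∃ v, F.φ v = p j := fun j hj => F.surj _ (mem_map_of_mem p hj)
  have heq : ∀ (g : Y) (v : Fin 3 → ZMod 2) (j : Y), F.φ v = p j →
      F.φ ((π g : Matrix (Fin 3) (Fin 3) (ZMod 2)) *ᵥ v) = p (g * j * g⁻¹) := fun g v j hj => by
    rw [show π g = F.π (p g) from rfl, F.equiv, hj, map_mul, map_mul, map_inv]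
  -- the fixed point of `e` modulo `P`
  set pP := QuotientGroup.mk' P with hpP
  set V := Q.map pP with hV
  haveI : V.Normal := Normal.map inferInstance _ (QuotientGroup.mk'_surjective P)
  have hVexp : Exp2 V := by
    rintro _ ⟨q, hq, rfl⟩
    rw [← map_mul]
    exact (QuotientGroup.eq_one_iff _).2 (b.sq q hq)
  have hV16 : Nat.card V = 16 := by
    have := card_map_mk b.PQ
    rw [hQ64, hP4] at this
    change 64 = 4 * Nat.card V at this
    omega
  have heP : pP e ≠ 1 := fun h1 => H.eU (H.PU ((QuotientGroup.eq_one_iff e).1 h1))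
  have hhe : pP h * pP e = pP e * pP h := by rw [← map_mul, ← map_mul, H.fix]
  have hfreeP : ∀ v ∈ U, pP h * pP v = pP v * pP h → pP v = 1 := by
    intro v hv hh
    refine (QuotientGroup.eq_one_iff v).2 (H.free v hv ((QuotientGroup.eq_one_iff _).1 ?_))
    show pP h * pP v * (pP h)⁻¹ * (pP v)⁻¹ = 1
    rw [hh, mul_inv_cancel_right, mul_inv_cancel]
  have hj0P : pP j0 ≠ 1 := fun h1 => hj0W (hJP j0 ((QuotientGroup.eq_one_iff j0).1 h1) (hJexp j0 hj0))
  -- suitable lifts
  obtain ⟨s, y, hs, hy, hy3, hcase⟩ : ∃ s y : Y, π s = gS ∧ π y = gY ∧ y ^ 3 = 1 ∧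
      ((∀ g : Y, e⁻¹ * (g * e * g⁻¹) ∈ W) ∨
        (s * s * (s * s) ∈ U ∧ s * s * (y * (s * s) * y⁻¹) * (y * (y * (s * s) * y⁻¹) * y⁻¹) ∈ U ∧
          y * (s * s) * y⁻¹ * (s * s) * (y * (s * s) * y⁻¹)⁻¹ * (s * s)⁻¹ ∈ U)) := by
    obtain ⟨s0, hs0⟩ := hπsurj gS
    obtain ⟨y0, hy0⟩ := hπsurj gY
    have h3 : (y0 : Y ⧸ Q) ^ 3 = 1 := by
      rw [← QuotientGroup.mk_pow, QuotientGroup.eq_one_iff, ← hker, map_pow, hy0, gY_pow]
    obtain ⟨y, hy', hy3⟩ := exists_lift b.τ.two Nat.prime_three (by norm_num) h3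
    have hy : π y = gY := by
      have hm : y⁻¹ * y0 ∈ Q := QuotientGroup.eq.1 hy'
      rw [← hy0, show π y0 = π (y * (y⁻¹ * y0)) by rw [mul_inv_cancel_left], map_mul π y, (hker _).2 hm, mul_one]
    rcases fixed_or_hyperplane (b.τ.quot b.PQ) (h := pP h) (by rw [← map_pow, h7, map_one]) hVexp hV16
      (fun q hq v hv => hVexp.comm hq hv) (mem_map_of_mem pP H.eQ) heP hhe (mem_map_of_mem pP (hJQ hj0))
      (fun hh => hj0P (hfreeP j0 (hJU hj0) hh)) with hfix | ⟨U', hU'n, hU'V, hU'8, heU', hfree⟩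
    · refine ⟨s0, y, hs0, hy, hy3, Or.inl fun g => ?_⟩
      set d := e⁻¹ * (g * e * g⁻¹) with hd
      have hdP : d ∈ P := by
        refine QuotientGroup.eq.1 ?_
        show pP e = pP (g * e * g⁻¹)
        rw [map_mul, map_mul, map_inv, hfix, mul_inv_cancel_right]
      refine hJP d hdP ?_
      have h1 : g * z * g⁻¹ = z * (d * d) := by
        calc g * z * g⁻¹ = e * (d * e) * d := by rw [hd, hz]; group
          _ = e * (e * d) * d := by rw [hPc e d hdP]
          _ = _ := by rw [hz]; group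
      rw [hPc g z hzP, mul_inv_cancel_right] at h1
      exact (left_eq_mul.1 h1)
    · haveI := hU'n
      haveI : (U.map pP).Normal := Normal.map inferInstance _ (QuotientGroup.mk'_surjective P)
      have hU8 : Nat.card (U.map pP) = 8 := by
        have := card_map_mk H.PU
        rw [hU32, hP4] at this
        change 32 = 4 * Nat.card (U.map pP) at this
        omega
      have hU' : U' = U.map pP := eight_unique (h := pP h) (by rw [← map_pow, h7, map_one]) hU'V
        (map_mono H.le) hV16 hU'8 hU8 (by rintro _ ⟨v, hv, rfl⟩ hh; exact hfreeP v hv hh)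
      have hsq : ∀ x, x * x ∈ Q → x * x ∈ U := by
        intro x hxx
        by_contra hnm
        have hxQ : x ∉ Q := fun hm => hnm (H.PU (b.sq x hm))
        refine hfree _ (mem_map_of_mem pP hxx) (fun hh => hnm ?_) (pP x) (fun hm => hxQ ?_)
          (by rw [← map_mul]; exact mem_map_of_mem pP hxx) (by rw [← map_mul, ← map_mul, ← mul_assoc])
        · rw [hU'] at hh
          obtain ⟨v, hv, hve⟩ := hh
          simpa using mul_mem hv (H.PU (QuotientGroup.eq.1 hve))
        · obtain ⟨q, hq, hqe⟩ := hm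
          simpa using mul_mem hq (b.PQ (QuotientGroup.eq.1 hqe))
      obtain ⟨Y1, -, hY1, hY1Q, hidx⟩ := exists_index_two b.τ π hπsurj hker H.le H.card.symm hsq
      obtain ⟨s, hs, hsY⟩ : ∃ s, π s = gS ∧ s ∈ Y1 := by
        have hm : s0 ∈ ((Y1 ⊔ Q : Subgroup Y) : Set Y) := by rw [hY1Q]; trivial
        rw [Subgroup.mul_normal] at hm
        obtain ⟨s, hs, q, hq, hsq'⟩ := Set.mem_mul.1 hm
        refine ⟨s, ?_, hs⟩
        rw [← hs0, ← hsq', map_mul π s, (hker q).2 hq, mul_one]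
      have hyY : y ∈ Y1 := by
        have h2 := sq_mem_of_index_two hidx y
        rw [show y = (y ^ 2) ^ 2 by rw [← pow_mul, show 2 * 2 = 3 + 1 from rfl, pow_succ, hy3, one_mul]]
        exact pow_mem h2 2
      have ht : s * s ∈ Y1 := mul_mem hsY hsY
      have hu : y * (s * s) * y⁻¹ ∈ Y1 := mul_mem (mul_mem hyY ht) (inv_mem hyY)
      have hin : ∀ g ∈ Y1, π g = 1 → g ∈ U := fun g hg h1 => hY1.le ⟨hg, (hker g).1 h1⟩
      refine ⟨s, y, hs, hy, hy3, Or.inr ⟨hin _ (mul_mem ht ht) ?_,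
        hin _ (mul_mem (mul_mem ht hu) (mul_mem (mul_mem hyY hu) (inv_mem hyY))) ?_,
        hin _ (mul_mem (mul_mem (mul_mem hu ht) (inv_mem hu)) (inv_mem ht)) ?_⟩⟩
      · rw [map_mul, map_mul, hs, gS_sq, gT_sq]
      · simp only [map_mul, map_inv, hs, hy, gS_sq]
        exact gU_facts.2.2.1
      · simp only [map_mul, map_inv, hs, hy, gS_sq]
        exact gU_facts.2.2.2
  set t := s * s with ht
  set u := y * t * y⁻¹ with hu
  have hπt : π t = gT := by rw [ht, map_mul, hs, gS_sq]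
  have hπu : π u = gU := by rw [hu, map_mul, map_mul, map_inv, hy, hπt]; rfl
  -- the centre of the two elations
  set R0 := (zpowers (F.φ e3)).comap p with hR0
  have he3o : Nat.card (zpowers (F.φ e3)) = 2 := by
    rw [Nat.card_zpowers, orderOf_eq_prime (show F.φ e3 ^ 2 = 1 by rw [pow_two]; exact hBexp _ (F.mem e3))
      (F.ne_one e3_fixed.2.2.2)]
  have hR0mem : ∀ x, x ∈ R0 ↔ p x = 1 ∨ p x = F.φ e3 := fun x =>
    ⟨fun hx => two_cases he3o.le (mem_zpowers _) (F.ne_one e3_fixed.2.2.2) hx, fun hx => by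
      show p x ∈ zpowers (F.φ e3)
      rcases hx with e1 | e1
      · rw [e1]; exact one_mem _
      · rw [e1]; exact mem_zpowers _⟩
  have hWR : W ≤ R0 := fun w hw => (hR0mem w).2 (Or.inl ((QuotientGroup.eq_one_iff w).2 hw))
  have hR0J : R0 ≤ J := by
    intro x hx
    rcases (hR0mem x).1 hx with e1 | e1
    · exact hWJ ((QuotientGroup.eq_one_iff x).1 e1)
    · obtain ⟨j, hj, hje⟩ := F.mem e3
      have hm : j⁻¹ * x ∈ W := QuotientGroup.eq.1 (hje.trans e1.symm)
      simpa using mul_mem hj (hWJ hm)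
  have hR04 : Nat.card R0 = 4 := by
    rw [card_map_mk hWR, hR0, map_comap_eq_self_of_surjective (QuotientGroup.mk'_surjective W), W2, he3o]
  obtain ⟨j1, hj1, hj1e⟩ : ∃ j ∈ J, p j = F.φ ![1, 0, 0] := F.mem ![1, 0, 0]
  set jh := j1⁻¹ * (t * j1 * t⁻¹) with hjh
  have hjhJ : jh ∈ J := mul_mem (inv_mem hj1) (Normal.conj_mem inferInstance j1 hj1 t)
  have hjhe : p jh = F.φ e3 := by
    rw [hjh, map_mul, map_inv, ← heq t _ j1 hj1e.symm, hπt, hj1e, hBexp.inv_eq (F.mem _), ← F.add, axis_step]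
  have htt : t * t ∈ Q := (hker _).1 (by rw [map_mul, hπt, gT_sq])
  have htjh : t * jh = jh * t := by
    refine conj_eq_iff.1 ?_
    calc t * jh * t⁻¹ = (t * j1 * t⁻¹)⁻¹ * ((t * t) * j1 * (t * t)⁻¹) := by simp only [hjh]; group
      _ = (t * j1 * t⁻¹)⁻¹ * j1 := by rw [hcomm _ htt j1 (hJQ hj1), mul_inv_cancel_right]
      _ = jh⁻¹ := by simp only [hjh]; group
      _ = jh := hJexp.inv_eq hjhJ
  have hyjh : y * jh = jh * y := by
    set w := jh⁻¹ * (y * jh * y⁻¹) with hw
    have hwW : w ∈ W := by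
      refine QuotientGroup.eq.1 ?_
      show p jh = p (y * jh * y⁻¹)
      rw [← heq y e3 jh hjhe.symm, hy, e3_fixed.2.2.1, hjhe]
    have h1 : y * jh * y⁻¹ = jh * w := by rw [hw, mul_inv_cancel_left]
    exact cube_fix hy3 h1 (Wc y w hwW) (Wexp w hwW)
  have hR0cases : ∀ x ∈ R0, x ∈ W ∨ ∃ w ∈ W, x = jh * w := by
    intro x hx
    rcases (hR0mem x).1 hx with e1 | e1
    · exact Or.inl ((QuotientGroup.eq_one_iff x).1 e1)
    · exact Or.inr ⟨jh⁻¹ * x, QuotientGroup.eq.1 (hjhe.trans e1.symm), (mul_inv_cancel_left jh x).symm⟩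
  have hR0fix : ∀ x ∈ R0, t * x = x * t ∧ y * x = x * y := by
    intro x hx
    rcases hR0cases x hx with hw | ⟨w, hw, rfl⟩
    · exact ⟨Wc t x hw, Wc y x hw⟩
    · exact ⟨((show Commute t jh from htjh).mul_right (Wc t w hw)).eq,
        ((show Commute y jh from hyjh).mul_right (Wc y w hw)).eq⟩
  have hconjy : ∀ (g x : Y), y * x = x * y → g * x = x * g → y * g * y⁻¹ * x = x * (y * g * y⁻¹) :=
    fun g x h1 h2 => (((show Commute y x from h1).mul_left h2).mul_left (show Commute y x from h1).inv_left).eq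
  have hR0u : ∀ x ∈ R0, u * x = x * u := fun x hx => hconjy t x (hR0fix x hx).2 (hR0fix x hx).1
  have helat : ∀ j ∈ J, t * j * t⁻¹ * j⁻¹ ∈ R0 ∧ u * j * u⁻¹ * j⁻¹ ∈ R0 := by
    intro j hj
    obtain ⟨v, hv'⟩ := hv j hj
    have key : ∀ g : Y, ((π g : Matrix (Fin 3) (Fin 3) (ZMod 2)) *ᵥ v = v ∨
        (π g : Matrix (Fin 3) (Fin 3) (ZMod 2)) *ᵥ v = v + e3) → g * j * g⁻¹ * j⁻¹ ∈ R0 := by
      intro g hg
      rw [hR0mem, map_mul p (g * j * g⁻¹), map_inv, ← heq g v j hv', ← hv']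
      rcases hg with e1 | e1
      · left; rw [e1, mul_inv_cancel]
      · right; rw [e1, F.add, hBexp.comm (F.mem v) (F.mem e3), mul_inv_cancel_right]
    exact ⟨key t (by rw [hπt]; exact (elation v).1), key u (by rw [hπu]; exact (elation v).2)⟩
  have hdU : ∀ v ∈ U, t * v * t⁻¹ * v⁻¹ ∈ R0 ∧ u * v * u⁻¹ * v⁻¹ ∈ R0 := by
    intro v hv'
    rcases hUdec v hv' with hj | ⟨j, hj, rfl⟩
    · exact helat v hj
    · have key : ∀ g : Y, g * (z * j) * g⁻¹ * (z * j)⁻¹ = g * j * g⁻¹ * j⁻¹ := by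
        intro g
        calc g * (z * j) * g⁻¹ * (z * j)⁻¹ = g * (z * j) * g⁻¹ * (j⁻¹ * z⁻¹) := by group
          _ = g * (j * z) * g⁻¹ * (j⁻¹ * z⁻¹) := by rw [hPc j z hzP]
          _ = g * j * (z * g⁻¹) * (j⁻¹ * z⁻¹) := by group
          _ = g * j * (g⁻¹ * z) * (j⁻¹ * z⁻¹) := by rw [hPc g⁻¹ z hzP]
          _ = g * j * g⁻¹ * (z * j⁻¹) * z⁻¹ := by group
          _ = g * j * g⁻¹ * (j⁻¹ * z) * z⁻¹ := by rw [hPc j⁻¹ z hzP]
          _ = _ := by group
      rw [key, key]
      exact helat j hj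
  have hsR : ∀ v ∈ U, s * v * s⁻¹ * v⁻¹ ∈ W → y * v = v * y := by
    intro v hv' hsv
    have keyJ : ∀ j ∈ J, s * j * s⁻¹ * j⁻¹ ∈ W → j ∈ R0 := by
      intro j hj hsj
      obtain ⟨w, hw'⟩ := hv j hj
      have h1 : (gS : Matrix (Fin 3) (Fin 3) (ZMod 2)) *ᵥ w = w := by
        rw [← hs]
        refine F.inj ?_
        rw [heq s w j hw', hw']
        refine mul_inv_eq_one.1 ?_
        rw [← map_inv, ← map_mul]
        exact (QuotientGroup.eq_one_iff _).2 hsj
      rw [hR0mem, ← hw']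
      rcases fix_S w h1 with rfl | rfl
      · exact Or.inl F.zero
      · exact Or.inr rfl
    rcases hUdec v hv' with hj | ⟨j, hj, rfl⟩
    · exact (hR0fix v (keyJ v hj hsv)).2
    · refine ((show Commute y z from hPc y z hzP).mul_right (hR0fix j (keyJ j hj ?_)).2).eq
      rwa [show s * (z * j) * s⁻¹ * (z * j)⁻¹ = s * j * s⁻¹ * j⁻¹ by
        calc s * (z * j) * s⁻¹ * (z * j)⁻¹ = (s * z) * j * s⁻¹ * (j⁻¹ * z⁻¹) := by group
          _ = (z * s) * j * s⁻¹ * (j⁻¹ * z⁻¹) := by rw [hPc s z hzP]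
          _ = z * (s * j * s⁻¹ * j⁻¹) * z⁻¹ := by group
          _ = _ := by rw [← hPc _ z hzP, mul_inv_cancel_right]] at hsv
  have keyU : ∀ c ∈ U, c * (t * c * t⁻¹) = 1 → c * (u * c * u⁻¹) = 1 → c ∈ R0 := by
    intro c hc hct hcu
    obtain ⟨j, hj, hi⟩ : ∃ j ∈ J, c = j ∨ c = z * j := by
      rcases hUdec c hc with hj | ⟨j, hj, e1⟩
      exacts [⟨c, hj, Or.inl rfl⟩, ⟨j, hj, Or.inr e1⟩]
    have key : ∀ g : Y, c * (g * c * g⁻¹) = 1 →
        (c = j ∧ j * (g * j * g⁻¹) = 1) ∨ (c = z * j ∧ z * z * (j * (g * j * g⁻¹)) = 1) := by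
      intro g hg
      rcases hi with e1 | e1
      · exact Or.inl ⟨e1, e1 ▸ hg⟩
      · refine Or.inr ⟨e1, ?_⟩
        rw [e1] at hg
        rw [← hg]
        calc z * z * (j * (g * j * g⁻¹)) = z * (z * j) * g * j * g⁻¹ := by group
          _ = z * (j * z) * g * j * g⁻¹ := by rw [hPc j z hzP]
          _ = z * j * (z * g) * j * g⁻¹ := by group
          _ = z * j * (g * z) * j * g⁻¹ := by rw [hPc g z hzP]
          _ = _ := by group
    obtain ⟨v, hv'⟩ := hv j hj
    have hfix : ∀ g : Y, c * (g * c * g⁻¹) = 1 → (π g : Matrix (Fin 3) (Fin 3) (ZMod 2)) *ᵥ v = v := by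
      intro g hg
      have hm : p (j * (g * j * g⁻¹)) = 1 := by
        rcases key g hg with ⟨-, e1⟩ | ⟨-, e1⟩
        · rw [e1, map_one]
        · rw [eq_inv_of_mul_eq_one_right e1]
          exact (QuotientGroup.eq_one_iff _).2 (inv_mem hzzW)
      rw [map_mul, ← heq g v j hv', ← hv'] at hm
      refine F.inj ?_
      rw [eq_inv_of_mul_eq_one_right hm, hBexp.inv_eq (F.mem v)]
    have h1 := hfix t hct
    rw [hπt] at h1
    have h2 := hfix u hcu
    rw [hπu] at h2
    have hjR : j ∈ R0 := by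
      rw [hR0mem, ← hv']
      rcases plane_inter v h1 h2 with rfl | rfl
      · exact Or.inl F.zero
      · exact Or.inr rfl
    rcases key t hct with ⟨e1, -⟩ | ⟨-, e1⟩
    · rw [e1]; exact hjR
    · exfalso
      rw [(hR0fix j hjR).1, mul_inv_cancel_right, hJexp j hj, mul_one] at e1
      exact hzz e1
  have hPR : ∀ (R : Subgroup Y), R0 ≤ R → z ∈ R → ∀ p ∈ P, p ∈ R := by
    intro R hR hzR x hx
    rcases hPcases x hx with hw | ⟨w, hw, rfl⟩
    · exact hR (hWR hw)
    · exact mul_mem hzR (hR (hWR hw))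
  rcases hcase with hA | ⟨hmU, hqU, hcU⟩
  · -- `e` is central modulo `W`
    have hye : y * e = e * y := by
      set w := e⁻¹ * (y * e * y⁻¹) with hw
      have h1 : y * e * y⁻¹ = e * w := by rw [hw, mul_inv_cancel_left]
      have hwW : w ∈ W := hA y
      exact cube_fix hy3 h1 (Wc y w hwW) (Wexp w hwW)
    have hte : t * e = e * t := by
      set w := e⁻¹ * (s * e * s⁻¹) with hw
      have h1 : s * e * s⁻¹ = e * w := by rw [hw, mul_inv_cancel_left]
      exact sq_fix h1 (Wc s w (hA s)) (Wexp w (hA s))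
    have hue : u * e = e * u := hconjy t e hye hte
    haveI : (zpowers z).Normal := ⟨fun n hn g => by
      obtain ⟨i, rfl⟩ := mem_zpowers_iff.1 hn
      rw [conj_eq_iff.2 ((show Commute g z from hPc g z hzP).zpow_right i).eq]
      exact zpow_mem (mem_zpowers z) i⟩
    set R := R0 ⊔ zpowers z with hR
    have hR8 : Nat.card R ≤ 8 := by
      have h1 := card_sup_inf R0 (zpowers z)
      have h2 : 2 ≤ Nat.card (zpowers z ⊓ R0 : Subgroup Y) := by
        by_contra! hlt
        have := Nat.card_pos (α := (zpowers z ⊓ R0 : Subgroup Y))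
        exact hzz ((eq_bot_iff_forall _).1 (card_eq_one.1 (show Nat.card (zpowers z ⊓ R0 : Subgroup Y) = 1 by omega))
          (z * z) ⟨mul_mem (mem_zpowers z) (mem_zpowers z), hWR hzzW⟩)
      have h3 : Nat.card (zpowers z) ≤ 4 := hP4 ▸ card_le_of_le (zpowers_le.2 hzP)
      rw [hR04] at h1
      change Nat.card R * _ = _ at h1
      nlinarith
    have hRQ : R ≤ Q := sup_le (hR0J.trans hJQ) (zpowers_le.2 (b.PQ hzP))
    have hRfix : ∀ g : Y, (∀ x ∈ R0, g * x = x * g) → ∀ r ∈ R, g * r = r * g := by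
      intro g hg r hr
      have hle : R ≤ centralizer ({g} : Set Y) := sup_le
        (fun x hx => mem_centralizer_singleton_iff.2 (hg x hx).symm)
        (zpowers_le.2 (mem_centralizer_singleton_iff.2 (hPc g z hzP).symm))
      exact (mem_centralizer_singleton_iff.1 (hle hr)).symm
    have hdQ : ∀ q ∈ Q, t * q * t⁻¹ * q⁻¹ ∈ R ∧ u * q * u⁻¹ * q⁻¹ ∈ R := by
      intro q hq
      by_cases hqU : q ∈ U
      · exact ⟨mem_sup_left (hdU q hqU).1, mem_sup_left (hdU q hqU).2⟩
      · have hv' := H.split q hq hqU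
        set v := e⁻¹ * q with hvdef
        have key : ∀ g : Y, g * e = e * g → g * v * g⁻¹ * v⁻¹ ∈ R0 → g * q * g⁻¹ * q⁻¹ ∈ R := by
          intro g hge hgv
          refine mem_sup_left ?_
          have hc : e * (g * v * g⁻¹ * v⁻¹) = (g * v * g⁻¹ * v⁻¹) * e :=
            hcomm e H.eQ _ (hJQ (hR0J hgv))
          have h1 : g * q * g⁻¹ * q⁻¹ = g * v * g⁻¹ * v⁻¹ := by
            calc g * q * g⁻¹ * q⁻¹ = (g * e) * v * g⁻¹ * v⁻¹ * e⁻¹ := by rw [hvdef]; group
              _ = (e * g) * v * g⁻¹ * v⁻¹ * e⁻¹ := by rw [hge]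
              _ = e * (g * v * g⁻¹ * v⁻¹) * e⁻¹ := by group
              _ = _ := by rw [hc, mul_inv_cancel_right]
          rw [h1]
          exact hgv
        exact ⟨key t hte (hdU v hv').1, key u hue (hdU v hv').2⟩
    have hle := four_witness b.rank (S := Q) (R := R) le_rfl hRQ hcomm π hker hs hy
      (fun q hq => hPR R le_sup_left (mem_sup_right (mem_zpowers z)) _ (b.sq q hq))
      (fun r hr => ⟨hRfix t (fun x hx => (hR0fix x hx).1) r hr, hRfix u hR0u r hr⟩) hdQ htt ?_ ?_ ?_ ?_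
    · omega
    · -- `y` fixes `t²`
      by_cases hmU : t * t ∈ U
      · refine hsR _ hmU ?_
        rw [show s * (t * t) * s⁻¹ * (t * t)⁻¹ = 1 by rw [ht]; group]
        exact one_mem W
      · have hv' := H.split _ htt hmU
        have h1 : Commute y (e * (e⁻¹ * (t * t))) := by
          refine (show Commute y e from hye).mul_right (hsR _ hv' ?_)
          set w := e⁻¹ * (s * e * s⁻¹) with hw
          have hwW : w ∈ W := hA s
          have h2 : s * (e⁻¹ * (t * t)) * s⁻¹ * (e⁻¹ * (t * t))⁻¹ = w⁻¹ := by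
            calc s * (e⁻¹ * (t * t)) * s⁻¹ * (e⁻¹ * (t * t))⁻¹
                = (s * e * s⁻¹)⁻¹ * ((s * (t * t) * s⁻¹) * (t * t)⁻¹) * e := by group
              _ = (s * e * s⁻¹)⁻¹ * e := by
                rw [show s * (t * t) * s⁻¹ = t * t by rw [ht]; group, mul_inv_cancel, mul_one]
              _ = _ := by rw [hw]; group
          rw [h2]
          exact inv_mem hwW
        rw [mul_inv_cancel_left] at h1
        exact h1.eq
    · rw [← hker]
      simp only [map_mul, map_inv, hs, hy, gS_sq]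
      exact gU_facts.2.2.1
    · rw [← hker]
      simp only [map_mul, map_inv, hs, hy, gS_sq]
      exact gU_facts.2.2.2
    · intro c hc hct hcu
      by_cases hcU : c ∈ U
      · exact mem_sup_left (keyU c hcU hct hcu)
      exfalso
      set v := e⁻¹ * c with hvdef
      have hv' : v ∈ U := H.split c hc hcU
      set v' := t * v * t⁻¹ with hv'def
      have hv'U : v' ∈ U := Normal.conj_mem inferInstance v hv' t
      have h1 : z * (v * v') = 1 := by
        rw [← hct]
        calc z * (v * v') = e * (e * v) * v' := by rw [hz]; group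
          _ = e * (v * e) * v' := by rw [hecen v hv']
          _ = e * v * (e * t) * v * t⁻¹ := by rw [hv'def]; group
          _ = e * v * (t * e) * v * t⁻¹ := by rw [hte]
          _ = c * (t * c * t⁻¹) := by rw [hvdef]; group
      have h2 : v * v' * (v * v') = 1 := by
        calc v * v' * (v * v') = v * (v' * v) * v' := by group
          _ = v * (v * v') * v' := by rw [hUcomm v' hv'U v hv']
          _ = (v * v) * (t * (v * v) * t⁻¹) := by rw [hv'def]; group
          _ = 1 := by rw [Wc t _ ((H.mem v).1 hv').2, mul_inv_cancel_right, Wexp _ ((H.mem v).1 hv').2]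
      rw [eq_inv_of_mul_eq_one_right h1, ← _root_.mul_inv_rev, inv_eq_one] at h2
      exact hzz h2
  · -- the index-two subgroup
    have hle := four_witness b.rank (S := U) (R := R0) H.le (hR0J.trans hJU) hUcomm π hker hs hy
      (fun q hq => hWR ((H.mem q).1 hq).2) (fun r hr => ⟨(hR0fix r hr).1, hR0u r hr⟩) hdU hmU ?_ hqU hcU keyU
    · omega
    · refine hsR _ hmU ?_
      rw [show s * (t * t) * s⁻¹ * (t * t)⁻¹ = 1 by rw [ht]; group]
      exact one_mem W

end CfsgLib.SRank.Seven
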