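import Cfsg.Agent.Lib.SRank.Seven.Split

/-!
`O₂` with a quotient `C₄ × E₈` by a minimal normal subgroup of order `2` or `8`: impossible.
-/

set_option autoImplicit false
set_option linter.style.haveILetI false

namespace CfsgLib.SRank.Seven

open Subgroup Matrix
open CfsgLib.SRank.Five (card_map_mk card_set_modEq exists_lift)

universe u

variable {Y : Type u} [Group Y] [Finite Y]

/-- Two normal subgroups of order `8` in a group of order `16`, one with free action. -/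
theorem eight_unique {h : Y} (h7 : h ^ 7 = 1) {B U W : Subgroup Y} [U.Normal] [W.Normal] (hUB : U ≤ B)
    (hWB : W ≤ B) (h16 : Nat.card B = 16) (hU8 : Nat.card U = 8) (hW8 : Nat.card W = 8)
    (hWfree : ∀ w ∈ W, h * w = w * h → w = 1) : U = W := by
  have hdvd : Nat.card (U ⊓ W : Subgroup Y) ∣ 2 ^ 3 := by
    have := card_dvd_of_le (inf_le_right : U ⊓ W ≤ W)
    rwa [hW8] at this
  obtain ⟨i, hi, hic⟩ := (Nat.dvd_prime_pow Nat.prime_two).1 hdvd
  have hsup : Nat.card (U ⊔ W : Subgroup Y) ≤ 16 := h16 ▸ card_le_of_le (sup_le hUB hWB)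
  have hprod := card_sup_inf U W
  rw [inf_comm W U, hU8, hW8, hic] at hprod
  have hi2 : 2 ≤ i := by
    by_contra hlt
    have : 2 ^ i ≤ 2 := by interval_cases i <;> norm_num
    nlinarith
  rcases (show i = 2 ∨ i = 3 by omega) with rfl | rfl
  · exfalso
    obtain ⟨x, hx, hx1⟩ := (U ⊓ W).bot_or_exists_ne_one.resolve_left
      (fun e => by rw [e, card_bot] at hic; norm_num at hic)
    exact hx1 (hWfree x hx.2 (small_fixed h7
      (fun z hz => Normal.conj_mem (inferInstance : (U ⊓ W).Normal) z hz h) hic le_rfl hx))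
  · have hD : U ⊓ W = W := eq_of_le_of_card_ge inf_le_right (by rw [hic, hW8]; norm_num)
    exact (eq_of_le_of_card_ge (hD ▸ inf_le_left) (by rw [hU8, hW8])).symm

/-- `W` of order `8`: impossible. -/
theorem false_ext_eight {Q P W : Subgroup Y} [Q.Normal] [P.Normal] [W.Normal] (b : Pre Q P W)
    (W8 : Nat.card W = 8) (Wexp : Exp2 W) (Wcen : ∀ q ∈ Q, ∀ w ∈ W, q * w = w * q)
    (Wmove : ∃ g, ∃ w ∈ W, g * w ≠ w * g) : False := by
  classical
  haveI : Fact (Nat.Prime 2) := ⟨Nat.prime_two⟩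
  haveI : Fact (Nat.Prime 7) := ⟨by norm_num⟩
  obtain ⟨h, h7, hhQ⟩ := b.τ.exists_seven
  have hWQ : W ≤ Q := b.WP.trans b.PQ
  obtain ⟨cW, hcW, hcWm⟩ : ∃ c ∈ W, h * c ≠ c * h := by
    by_contra! hall
    obtain ⟨g, w, hw, hgw⟩ := Wmove
    have hK : centralizer (W : Set Y) = ⊤ := b.τ.eq_top
      (fun q hq => mem_centralizer_iff.2 fun w hw => (Wcen q hq w hw).symm)
      (mem_centralizer_iff.2 fun w hw => (hall w hw).symm) hhQ
    exact hgw (mem_centralizer_iff.1 (hK.ge (mem_top g)) w hw).symm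
  have hWfree : ∀ w ∈ W, h * w = w * h → w = 1 := fun w hw hc =>
    eight_fixed h7 (fun x hx => Normal.conj_mem inferInstance x hx h) W8 hcW hcWm hw hc
  obtain ⟨U, e, H⟩ := b.exists_halves h7 hhQ
  haveI := H.normal
  have hP16 : Nat.card P = 16 := by rw [b.two, W8]
  have hQ256 : Nat.card Q = 256 := by rw [b.card, hP16]
  have hU128 : Nat.card U = 128 := by have := H.card; omega
  set z := e * e with hz
  have hzP : z ∈ P := b.sq e H.eQ
  have hzW : z ∉ W := fun hm => H.eU ((H.mem e).2 ⟨H.eQ, hm⟩)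
  have hhz : h * z = z * h := ((show Commute h e from H.fix).mul_right H.fix).eq
  have hzz : z * z = 1 := hWfree _ (b.sqP hzP) ((show Commute h z from hhz).mul_right hhz).eq
  have hz1 : z ≠ 1 := fun e1 => hzW (e1 ▸ one_mem W)
  have hidxW : (W.subgroupOf P).index = 2 := by
    have h1 := (W.subgroupOf P).card_mul_index
    rw [Nat.card_congr (subgroupOfEquivOfLe b.WP).toEquiv, W8, hP16] at h1
    omega
  have hPcases : ∀ p ∈ P, p ∈ W ∨ ∃ w ∈ W, p = z * w := by
    intro p hp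
    by_cases hpW : p ∈ W
    · exact Or.inl hpW
    refine Or.inr ⟨z⁻¹ * p, ?_, (mul_inv_cancel_left z p).symm⟩
    exact (mul_mem_iff_of_index_two hidxW (a := (⟨z, hzP⟩ : P)⁻¹) (b := ⟨p, hp⟩)).2
      (by simp only [inv_mem_iff, mem_subgroupOf]; exact ⟨fun hh => absurd hh hzW, fun hh => absurd hh hpW⟩)
  have hzcen : ∀ q ∈ Q, q * z = z * q := by
    intro q hq
    set c := e * q * e⁻¹ * q⁻¹ with hc
    have hcW : c ∈ W := b.comm e H.eQ q hq
    refine (conj_eq_iff.1 ?_ : z * q = q * z).symm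
    calc z * q * z⁻¹ = e * (e * q * e⁻¹ * q⁻¹) * q * e⁻¹ := by rw [hz]; group
      _ = e * c * q * e⁻¹ := by rw [hc]
      _ = c * e * q * e⁻¹ := by rw [Wcen e H.eQ c hcW]
      _ = c * (e * q * e⁻¹ * q⁻¹) * q := by group
      _ = q := by rw [← hc, Wexp c hcW, one_mul]
  have hPcen : ∀ q ∈ Q, ∀ p ∈ P, q * p = p * q := by
    intro q hq p hp
    rcases hPcases p hp with hw | ⟨w, hw, rfl⟩
    · exact Wcen q hq p hw
    · exact ((show Commute q z from hzcen q hq).mul_right (Wcen q hq w hw)).eq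
  have hPexp : Exp2 P := by
    intro p hp
    rcases hPcases p hp with hw | ⟨w, hw, rfl⟩
    · exact Wexp p hw
    · calc z * w * (z * w) = z * (w * z) * w := by group
        _ = z * (z * w) * w := by rw [Wcen z (b.PQ hzP) w hw]
        _ = (z * z) * (w * w) := by group
        _ = 1 := by rw [hzz, Wexp w hw, one_mul]
  rcases fixed_or_hyperplane b.τ h7 hPexp hP16 hPcen hzP hz1 hhz (b.WP hcW) hcWm with
    hfix | ⟨U', hU'n, hU'P, hU'8, hzU', hfree⟩
  · -- `<z>` is normal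
    set Z := zpowers z with hZ
    haveI : Z.Normal := ⟨fun n hn g => by
      obtain ⟨i, rfl⟩ := mem_zpowers_iff.1 hn
      rw [conj_eq_iff.2 ((show Commute g z from hfix g).zpow_right i).eq]
      exact zpow_mem (mem_zpowers z) i⟩
    set p2 := QuotientGroup.mk' Z with hp2
    haveI : (Q.map p2).Normal := Normal.map inferInstance _ (QuotientGroup.mk'_surjective Z)
    haveI : (W.map p2).Normal := Normal.map inferInstance _ (QuotientGroup.mk'_surjective Z)
    have hZQ : Z ≤ Q := zpowers_le.2 (b.PQ hzP)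
    have hZP : Z ≤ P := zpowers_le.2 hzP
    have hZ2 : Nat.card Z = 2 := by
      rw [hZ, Nat.card_zpowers, orderOf_eq_prime (show z ^ 2 = 1 by rw [pow_two, hzz]) hz1]
    have hWZ : ∀ w ∈ W, p2 w = 1 → w = 1 := by
      intro w hw h1
      rcases two_cases hZ2.le (mem_zpowers z) hz1 ((QuotientGroup.eq_one_iff w).1 h1) with e1 | e1
      exacts [e1, absurd (e1 ▸ hw) hzW]
    have hPimage : ∀ p ∈ P, p2 p ∈ W.map p2 := by
      intro p hp
      rcases hPcases p hp with hw | ⟨w, hw, rfl⟩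
      · exact mem_map_of_mem p2 hw
      · rw [map_mul, show p2 z = 1 from (QuotientGroup.eq_one_iff z).2 (mem_zpowers z), one_mul]
        exact mem_map_of_mem p2 hw
    refine false_big (Q := Q.map p2) (W := W.map p2) ⟨b.τ.quot hZQ, Invol.sectional_quotient Z b.rank,
      map_mono hWQ, ?_, ?_, ?_, ?_, ?_, ?_, ?_⟩
    · rintro _ ⟨w, hw, rfl⟩; rw [← map_mul, Wexp w hw, map_one]
    · rintro _ ⟨q, hq, rfl⟩ _ ⟨w, hw, rfl⟩; rw [← map_mul, ← map_mul, Wcen q hq w hw]
    · rw [← W8]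
      exact (Nat.card_congr (Equiv.ofBijective (fun w : W => (⟨p2 w, mem_map_of_mem p2 w.2⟩ : W.map p2))
        ⟨fun a c hac => Subtype.ext (inv_mul_eq_one.1 (hWZ _ (mul_mem (inv_mem a.2) c.2) (by
          rw [map_mul, map_inv, show p2 (a : Y) = p2 (c : Y) from congrArg Subtype.val hac, inv_mul_cancel]))),
          fun ⟨_, w, hw, e1⟩ => ⟨⟨w, hw⟩, Subtype.ext e1⟩⟩)).symm
    · have := card_map_mk hZQ
      rw [hQ256, hZ2] at this
      change 256 = 2 * Nat.card (Q.map p2) at this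
      omega
    · rintro _ ⟨q, hq, rfl⟩; rw [← map_mul]; exact hPimage _ (b.sq q hq)
    · refine ⟨p2 h, p2 cW, mem_map_of_mem p2 hcW, fun e1 => hcWm ?_⟩
      rw [← map_mul, ← map_mul] at e1
      have : (cW * h)⁻¹ * (h * cW) ∈ W := by
        rw [show (cW * h)⁻¹ * (h * cW) = h⁻¹ * (cW⁻¹ * (h * cW * h⁻¹)) * h⁻¹⁻¹ by group]
        exact Normal.conj_mem inferInstance _ (mul_mem (inv_mem hcW) (Normal.conj_mem inferInstance cW hcW h)) _
      exact (inv_mul_eq_one.1 (hWZ _ this (by rw [map_mul, map_inv, e1, inv_mul_cancel]))).symm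
    · obtain ⟨q, hq, hqm⟩ : ∃ q ∈ Q, h * q * h⁻¹ * q⁻¹ ∉ P := by
        by_contra! hall
        exact hhQ (b.self h hall)
      refine ⟨p2 h, p2 q, mem_map_of_mem p2 hq, fun hm => hqm ?_⟩
      rw [← map_inv, ← map_inv, ← map_mul, ← map_mul, ← map_mul] at hm
      obtain ⟨w, hw, hwe⟩ := hm
      have hh : w⁻¹ * (h * q * h⁻¹ * q⁻¹) ∈ Z := QuotientGroup.eq.1 hwe
      simpa using mul_mem (b.WP hw) (hZP hh)
  -- involutions move all of `zW`
  haveI := hU'n
  have hU'W : U' = W := eight_unique h7 hU'P b.WP hP16 hU'8 W8 hWfree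
  have hUP : Nat.card U = 8 * Nat.card P := by rw [hU128, hP16]
  have l : LayerIn Q U P W := by
    refine ⟨b.τ, H.le, fun k hk u hu => b.WP (b.comm k hk u (H.le hu)), Wcen, b.WP, H.PU, hPexp,
      fun u hu => hPcen u (H.le hu), W8, hUP, fun u hu => ((H.mem u).1 hu).2, ?_, Wmove, ?_⟩
    · by_contra! hall
      have hexp : Exp2 U := hall
      have := Invol.prank_of_sectional b.rank U hexp.isMulCommutative
        (fun a ha => by rw [pow_two]; exact hexp a ha)
      omega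
    · obtain ⟨u, hu, huP⟩ : ∃ u ∈ U, u ∉ P := by
        by_contra! hall
        have := card_le_of_le (show U ≤ P from hall)
        omega
      exact ⟨h, u, hu, fun hm => huP (H.free u hu hm)⟩
  obtain ⟨D⟩ := l.exists_data
  obtain ⟨s, y, hs, hy, -⟩ := D.exists_elts b.τ.two
  -- the commutator with `e`
  let β : Y → Y := fun v => e * v * e⁻¹ * v⁻¹
  have hβW : ∀ v ∈ U, β v ∈ W := fun v hv => b.comm e H.eQ v (H.le hv)
  have hβconj : ∀ g : Y, ∀ v ∈ U, β (g * v * g⁻¹) = g * β v * g⁻¹ := by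
    intro g v hv
    set v' := g * v * g⁻¹ with hv'
    have hv'U : v' ∈ U := Normal.conj_mem inferInstance v hv g
    set w := e⁻¹ * (g * e * g⁻¹) with hw
    have hwU : w ∈ U := H.split _ (Normal.conj_mem inferInstance e H.eQ g) fun hh => H.eU (by
      have := Normal.conj_mem (inferInstance : U.Normal) _ hh g⁻¹
      rwa [show g⁻¹ * (g * e * g⁻¹) * g⁻¹⁻¹ = e by group] at this)
    calc e * v' * e⁻¹ * v'⁻¹ = e * (v' * w) * w⁻¹ * e⁻¹ * v'⁻¹ := by group
      _ = e * (w * v') * w⁻¹ * e⁻¹ * v'⁻¹ := by rw [D.comm v' hv'U w hwU]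
      _ = g * (e * v * e⁻¹ * v⁻¹) * g⁻¹ := by simp only [hw, hv']; group
  have hβψ : ∀ v ∈ U, ∀ v' ∈ U, D.ψ v = D.ψ v' → β v = β v' := by
    intro v hv v' hv' hvv
    have hd : v⁻¹ * v' ∈ P := by
      rw [← D.ψker _ (mul_mem (inv_mem hv) hv')]
      have h1 := D.ψmul v hv _ (mul_mem (inv_mem hv) hv')
      rw [mul_inv_cancel_left, ← hvv] at h1
      exact left_eq_add.1 h1
    set d := v⁻¹ * v'
    calc e * v * e⁻¹ * v⁻¹ = e * v * (d * e⁻¹) * d⁻¹ * v⁻¹ := by
          rw [← hPcen e⁻¹ (inv_mem H.eQ) d hd]; group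
      _ = e * (v * d) * e⁻¹ * (v * d)⁻¹ := by group
      _ = _ := by rw [show v * d = v' from mul_inv_cancel_left v v']
  obtain ⟨a, ha, hae⟩ := D.ψsurj e3
  have hβcase : β a = 1 ∨ β a = a * a := by
    obtain ⟨v2, hv2⟩ := D.ωsurj _ (hβW a ha)
    have hfix : ∀ g : Y, (D.π g : Matrix (Fin 3) (Fin 3) (ZMod 2)) *ᵥ e3 = e3 →
        (D.π g : Matrix (Fin 3) (Fin 3) (ZMod 2)) *ᵥ v2 = v2 := by
      intro g hg
      refine D.ωinj ?_
      rw [D.ωconj, hv2, ← hβconj g a ha]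
      exact hβψ _ (Normal.conj_mem inferInstance a ha g) a ha (by rw [D.ψconj g a ha, hae, hg])
    have h1 := hfix y (by rw [hy]; exact e3_fixed.2.2.1)
    have h2 := hfix (s * s) (by rw [map_mul, hs, gS_sq]; exact e3_fixed.2.1)
    rw [hy] at h1
    rw [map_mul, hs, gS_sq] at h2
    rcases fixed_vectors v2 h1 h2 with rfl | rfl
    · exact Or.inl (hv2.symm.trans D.ω_zero)
    · exact Or.inr (by rw [← hv2, D.sq a ha, hae])
  have hall : ∀ v ∈ U, D.ψ v ≠ 0 → ∃ k : Y, β v = k * β a * k⁻¹ ∧ v * v = k * (a * a) * k⁻¹ := by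
    intro v hv hv0
    obtain ⟨i, hi⟩ := gK_trans e3 (D.ψ v) e3_fixed.2.2.2 hv0
    obtain ⟨k, hk⟩ := D.πsurj (gK ^ (i : ℕ))
    refine ⟨k, ?_, ?_⟩
    · rw [← hβconj k a ha]
      exact hβψ v hv _ (Normal.conj_mem inferInstance a ha k) (by rw [D.ψconj k a ha, hae, hk, hi])
    · rw [D.sq v hv, D.sq a ha, hae, ← D.ωconj, hk, hi]
  have hβP : ∀ v ∈ U, D.ψ v = 0 → β v = 1 ∧ v * v = 1 := by
    intro v hv h0
    have hvP := (D.ψker v hv).1 h0
    refine ⟨?_, hPexp v hvP⟩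
    show e * v * e⁻¹ * v⁻¹ = 1
    rw [hPcen e H.eQ v hvP, mul_inv_cancel_right, mul_inv_cancel]
  obtain ⟨t0, ht0⟩ := D.πsurj gT
  have ht0Q : t0 ∉ Q := fun hh => gT_ne (by rw [← ht0]; exact (D.ker _).2 hh)
  have htt0 : t0 * t0 ∈ Q := (D.ker _).1 (by rw [map_mul, ht0, gT_sq])
  have hzfree : ∀ x : Y, x ∉ Q → x * x ∈ Q → ∀ p ∈ P, x * p = p * x → p ∈ W := by
    intro x hxQ hxx p hp hxp
    by_contra hpW
    exact hfree p hp (fun hh => hpW (hU'W ▸ hh)) x hxQ hxx hxp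
  have hecen : ∀ v ∈ U, e * v = v * e := by
    rcases hβcase with h1 | h1
    · intro v hv
      refine conj_eq_iff.1 (mul_inv_eq_one.1 ?_)
      by_cases hv0 : D.ψ v = 0
      · exact (hβP v hv hv0).1
      · obtain ⟨k, hk, -⟩ := hall v hv hv0
        show β v = 1
        rw [hk, h1, mul_one, mul_inv_cancel]
    exfalso
    -- `z` would be central
    have hβsq : ∀ v ∈ U, β v = v * v := by
      intro v hv
      by_cases hv0 : D.ψ v = 0
      · obtain ⟨h2, h3⟩ := hβP v hv hv0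
        rw [h2, h3]
      · obtain ⟨k, hk, hk'⟩ := hall v hv hv0
        rw [hk, hk', h1]
    have hzfix : t0 * z * t0⁻¹ = z := by
      set w := e⁻¹ * (t0 * e * t0⁻¹) with hw
      have hwU : w ∈ U := H.split _ (Normal.conj_mem inferInstance e H.eQ t0) fun hh => H.eU (by
        have := Normal.conj_mem (inferInstance : U.Normal) _ hh t0⁻¹
        rwa [show t0⁻¹ * (t0 * e * t0⁻¹) * t0⁻¹⁻¹ = e by group] at this)
      calc t0 * z * t0⁻¹ = e * w * (e * w) := by rw [hw, hz]; group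
        _ = β w * (w * z) * w := by simp only [β, hz]; group
        _ = β w * (z * w) * w := by rw [hzcen w (H.le hwU)]
        _ = β w * z * (w * w) := by group
        _ = z * β w * (w * w) := by rw [hPcen z (b.PQ hzP) _ (b.WP (hβW w hwU))]
        _ = z := by rw [hβsq w hwU, mul_assoc, Wexp _ ((H.mem w).1 hwU).2, mul_one]
    exact hzW (hzfree t0 ht0Q htt0 z hzP (conj_eq_iff.1 hzfix))
  have hcomm : ∀ x ∈ Q, ∀ v ∈ Q, x * v = v * x := by
    have hU : ∀ x ∈ Q, ∀ v ∈ U, x * v = v * x := by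
      intro x hx v hv
      by_cases hxU : x ∈ U
      · exact D.comm x hxU v hv
      · have h1 : Commute (e * (e⁻¹ * x)) v :=
          (show Commute e v from hecen v hv).mul_left (D.comm _ (H.split x hx hxU) v hv)
        rwa [mul_inv_cancel_left] at h1
    intro x hx v hv
    by_cases hvU : v ∈ U
    · exact hU x hx v hvU
    by_cases hxU : x ∈ U
    · exact (hU v hv x hxU).symm
    have h1 : Commute x (e * (e⁻¹ * v)) := by
      refine Commute.mul_right ?_ (hU x hx _ (H.split v hv hvU))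
      have h2 : Commute (e * (e⁻¹ * x)) e :=
        (Commute.refl e).mul_left (show Commute (e⁻¹ * x) e from (hecen _ (H.split x hx hxU)).symm)
      rwa [mul_inv_cancel_left] at h2
    rwa [mul_inv_cancel_left] at h1
  -- squaring is onto `P`
  let σ : Q →* P :=
    { toFun := fun q => ⟨(q : Y) * q, b.sq q q.2⟩
      map_one' := Subtype.ext (by simp)
      map_mul' := fun x v => Subtype.ext (by
        show (x : Y) * v * ((x : Y) * v) = (x : Y) * x * ((v : Y) * v)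
        calc (x : Y) * v * ((x : Y) * v) = x * ((v : Y) * x) * v := by group
          _ = x * ((x : Y) * v) * v := by rw [hcomm v v.2 x x.2]
          _ = _ := by group) }
  have hσ : Function.Surjective σ := by
    rintro ⟨p, hp⟩
    rcases hPcases p hp with hw | ⟨w, hw, rfl⟩
    · obtain ⟨v, hv⟩ := D.ωsurj p hw
      obtain ⟨q, hq, hqv⟩ := D.ψsurj v
      exact ⟨⟨q, H.le hq⟩, Subtype.ext (by show q * q = p; rw [D.sq q hq, hqv, hv])⟩
    · obtain ⟨v, hv⟩ := D.ωsurj w hw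
      obtain ⟨q, hq, hqv⟩ := D.ψsurj v
      refine ⟨⟨e * q, mul_mem H.eQ (H.le hq)⟩, Subtype.ext ?_⟩
      show e * q * (e * q) = z * w
      calc e * q * (e * q) = e * (q * e) * q := by group
        _ = e * (e * q) * q := by rw [hcomm q (H.le hq) e H.eQ]
        _ = z * (q * q) := by rw [hz]; group
        _ = z * w := by rw [D.sq q hq, hqv, hv]
  have hσker : ∀ q ∈ Q, q * q = 1 → q ∈ P := by
    intro q hq h1
    have hqU : q ∈ U := (H.mem q).2 ⟨hq, h1 ▸ one_mem W⟩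
    refine (D.ψker q hqU).1 (D.ωinj ?_)
    rw [← D.sq q hqU, h1, D.ω_zero]
  -- fixed points of the involution
  set R := P ⊓ centralizer ({t0} : Set Y) with hR
  have hRfix : ∀ r ∈ R, t0 * r = r * t0 := fun r hr => (mem_centralizer_singleton_iff.1 hr.2).symm
  have hRW : R ≤ W := fun r hr => hzfree t0 ht0Q htt0 r hr.1 (hRfix r hr)
  have hinv : ∀ x ∈ Q, t0 * (t0 * x * t0⁻¹) * t0⁻¹ = x := fun x hx => by
    rw [show t0 * (t0 * x * t0⁻¹) * t0⁻¹ = t0 * t0 * x * (t0 * t0)⁻¹ by group, hcomm _ htt0 x hx,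
      mul_inv_cancel_right]
  have hR4 : Nat.card R ≤ 4 := by
    have hd := card_dvd_of_le hRW
    rw [W8, show 8 = 2 ^ 3 from rfl] at hd
    obtain ⟨i, hi, hiR⟩ := (Nat.dvd_prime_pow Nat.prime_two).1 hd
    rw [hiR]
    by_contra hbig
    have h3 : i = 3 := by interval_cases i <;> omega
    have heq := eq_of_le_of_card_ge hRW (by rw [hiR, h3, W8]; norm_num)
    have hK : centralizer (W : Set Y) = ⊤ := b.τ.eq_top
      (fun q hq => mem_centralizer_iff.2 fun w hw => (Wcen q hq w hw).symm)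
      (mem_centralizer_iff.2 fun w hw => (hRfix w (heq.ge hw)).symm) ht0Q
    exact hcWm (mem_centralizer_iff.1 (hK.ge (mem_top h)) cW hcW).symm
  have hRlo : 16 ≤ Nat.card R * Nat.card R := by
    have := card_le_fixed_sq hPexp (a := t0) (fun p hp => Normal.conj_mem inferInstance p hp t0)
      (fun p hp => hPcen _ htt0 p hp)
    rwa [show Nat.card P = 16 from hP16] at this
  have hR4' : Nat.card R = 4 := by nlinarith
  have hnorms : ∀ r ∈ R, ∃ p ∈ P, p * (t0 * p * t0⁻¹) = r := by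
    set I := (dltHom hPexp t0).range.map P.subtype with hI
    have hI4 : Nat.card I = 4 := by
      rw [hI, card_map_of_injective P.subtype_injective]
      have hr := card_range_dlt hPexp t0
      change _ * Nat.card R = _ at hr
      rw [hR4', show Nat.card P = 16 from hP16] at hr
      omega
    have hIR : I ≤ R := by
      rintro _ ⟨_, ⟨⟨p, hp⟩, rfl⟩, rfl⟩
      show p * (t0 * p * t0⁻¹) ∈ R
      have hp' : t0 * p * t0⁻¹ ∈ P := Normal.conj_mem inferInstance p hp t0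
      refine ⟨mul_mem hp hp', mem_centralizer_singleton_iff.2 (conj_eq_iff.1 ?_).symm⟩
      rw [show t0 * (p * (t0 * p * t0⁻¹)) * t0⁻¹ = (t0 * p * t0⁻¹) * (t0 * (t0 * p * t0⁻¹) * t0⁻¹) by group,
        hinv p (b.PQ hp), hPexp.comm hp' hp]
    intro r hr
    obtain ⟨_, ⟨⟨p, hp⟩, rfl⟩, hpr⟩ := (eq_of_le_of_card_ge hIR (by rw [hI4, hR4'])).ge hr
    exact ⟨p, hp, hpr⟩
  -- a lift
  set m := t0 * t0 with hm
  obtain ⟨v, hv, hd⟩ : ∃ v ∈ Q, (t0 * v⁻¹) * (t0 * v⁻¹) ∈ R := by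
    have hmm : m * m ∈ R := ⟨b.sq m htt0, mem_centralizer_singleton_iff.2 (by rw [hm]; simp only [mul_assoc])⟩
    obtain ⟨p, hp, hpm⟩ := hnorms _ hmm
    obtain ⟨⟨v, hv⟩, hvp⟩ := hσ ⟨p, hp⟩
    have hvv : v * v = p := congrArg Subtype.val hvp
    refine ⟨v, hv, ?_⟩
    set v' := t0 * v * t0⁻¹ with hv'
    have hv'Q : v' ∈ Q := Normal.conj_mem inferInstance v hv t0
    have hsplit : t0 * v⁻¹ * (t0 * v⁻¹) = m * (v' * v)⁻¹ := by
      calc t0 * v⁻¹ * (t0 * v⁻¹) = v'⁻¹ * m * v⁻¹ := by simp only [hv', hm]; group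
        _ = m * v'⁻¹ * v⁻¹ := by rw [hcomm _ (inv_mem hv'Q) m htt0]
        _ = m * (v⁻¹ * v'⁻¹) := by rw [mul_assoc, hcomm v'⁻¹ (inv_mem hv'Q) v⁻¹ (inv_mem hv)]
        _ = _ := by group
    rw [hsplit]
    set d := m * (v' * v)⁻¹ with hdd
    have hdQ : d ∈ Q := mul_mem htt0 (inv_mem (mul_mem hv'Q hv))
    have hd1 : d * d = 1 := by
      have h1 : σ ⟨d, hdQ⟩ = σ ⟨m, htt0⟩ * (σ (⟨v', hv'Q⟩ * ⟨v, hv⟩))⁻¹ := by
        rw [← map_inv, ← map_mul]; rfl
      have h2 := congrArg Subtype.val h1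
      rw [Subgroup.coe_mul, Subgroup.coe_inv, map_mul, Subgroup.coe_mul] at h2
      change d * d = m * m * (v' * v' * (v * v))⁻¹ at h2
      rw [h2, show v' * v' = t0 * (v * v) * t0⁻¹ by rw [hv']; group, hvv,
        hPexp.comm (Normal.conj_mem inferInstance p hp t0) hp, hpm, mul_inv_cancel]
    refine ⟨hσker d hdQ hd1, mem_centralizer_singleton_iff.2 (conj_eq_iff.1 ?_).symm⟩
    calc t0 * d * t0⁻¹ = m * ((t0 * v' * t0⁻¹) * v')⁻¹ := by simp only [hdd, hm, hv']; group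
      _ = d := by rw [hv', hinv v hv, ← hv', hcomm v hv v' hv'Q]
  set x := t0 * v⁻¹ with hx
  have hxconj : ∀ q ∈ Q, x * q * x⁻¹ = t0 * q * t0⁻¹ := fun q hq => by
    rw [hx, show t0 * v⁻¹ * q * (t0 * v⁻¹)⁻¹ = t0 * (v⁻¹ * q * v) * t0⁻¹ by group,
      mul_assoc v⁻¹, hcomm q hq v hv, inv_mul_cancel_left]
  set G0 := ((R.subgroupOf P).comap σ).map Q.subtype with hG0
  have hG0mem : ∀ q, q ∈ G0 → q ∈ Q ∧ q * q ∈ R := by
    rintro _ ⟨q, hq, rfl⟩
    exact ⟨q.2, hq⟩
  have hG0card : Nat.card G0 = 64 := by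
    rw [hG0, card_map_of_injective Q.subtype_injective]
    have h1 := ((R.subgroupOf P).comap σ).card_mul_index
    rw [index_comap_of_surjective _ hσ, hQ256] at h1
    have h2 := (R.subgroupOf P).card_mul_index
    rw [Nat.card_congr (subgroupOfEquivOfLe (inf_le_left : R ≤ P)).toEquiv, hR4', hP16] at h2
    rw [show (R.subgroupOf P).index = 4 by omega] at h1
    omega
  set G : Set Y := (G0 : Set Y) ∪ {x} with hG
  have hle := card_closure_le b.rank (G := G) (R := R) (fun r hr => Subgroup.subset_closure (Or.inl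
    ⟨⟨r, b.PQ hr.1⟩, show (⟨r * r, _⟩ : P) ∈ R.subgroupOf P by
      rw [mem_subgroupOf]; show r * r ∈ R; rw [hPexp r hr.1]; exact one_mem R, rfl⟩)) (by
    rintro g (hg | rfl) r hr
    · rw [hPcen g (hG0mem g hg).1 r hr.1, mul_inv_cancel_right]; exact hr
    · rw [hxconj r (b.PQ hr.1), hRfix r hr, mul_inv_cancel_right]; exact hr) (by
    rintro g (hg | rfl)
    exacts [(hG0mem g hg).2, hd]) (by
    have hxq : ∀ q ∈ G0, x * q * x⁻¹ * q⁻¹ ∈ R := by
      intro q hq
      obtain ⟨hqQ, hqR⟩ := hG0mem q hq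
      rw [hxconj q hqQ]
      set q' := t0 * q * t0⁻¹ with hq'
      have hq'Q : q' ∈ Q := Normal.conj_mem inferInstance q hqQ t0
      have hd1 : q' * q⁻¹ * (q' * q⁻¹) = 1 := by
        calc q' * q⁻¹ * (q' * q⁻¹) = q' * (q⁻¹ * q') * q⁻¹ := by group
          _ = q' * (q' * q⁻¹) * q⁻¹ := by rw [hcomm q⁻¹ (inv_mem hqQ) q' hq'Q]
          _ = (t0 * (q * q) * t0⁻¹) * (q * q)⁻¹ := by rw [hq']; group
          _ = 1 := by rw [hRfix _ hqR, mul_inv_cancel_right, mul_inv_cancel]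
      refine ⟨hσker _ (mul_mem hq'Q (inv_mem hqQ)) hd1, mem_centralizer_singleton_iff.2 (conj_eq_iff.1 ?_).symm⟩
      calc t0 * (q' * q⁻¹) * t0⁻¹ = (t0 * q' * t0⁻¹) * q'⁻¹ := by simp only [hq']; group
        _ = q * q'⁻¹ := by rw [hq', hinv q hqQ]
        _ = (q' * q⁻¹)⁻¹ := by group
        _ = q' * q⁻¹ := inv_eq_of_mul_eq_one_right hd1
    rintro a (ha | rfl) c (hc | rfl)
    · rw [hcomm a (hG0mem a ha).1 c (hG0mem c hc).1, mul_inv_cancel_right, mul_inv_cancel]; exact one_mem R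
    · rw [show a * x * a⁻¹ * x⁻¹ = (x * a * x⁻¹ * a⁻¹)⁻¹ by group]; exact inv_mem (hxq a ha)
    · exact hxq c hc
    · rw [mul_inv_cancel_right, mul_inv_cancel]; exact one_mem R)
  have hlt : G0 < Subgroup.closure G := lt_of_le_not_ge (fun q hq => Subgroup.subset_closure (Or.inl hq))
    fun hh => ht0Q (by
      have := mul_mem (hG0mem x (hh (Subgroup.subset_closure (Or.inr rfl)))).1 hv
      rwa [hx, inv_mul_cancel_right] at this)
  have := two_mul_card_le hlt
  rw [hR4'] at hle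
  omega

end CfsgLib.SRank.Seven
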