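import Cfsg.Agent.Lib.SRank.Seven.Homocyclic

/-!
`O₂` of order `128` with squares in a natural module of order `8`: impossible.
-/

set_option autoImplicit false
set_option linter.style.haveILetI false

namespace CfsgLib.SRank.Seven

open Subgroup Matrix
open CfsgLib.SRank.Five (card_map_mk card_set_modEq exists_lift)

universe u

variable {Y : Type u} [Group Y] [Finite Y]

theorem plane_facts : ∀ v : Fin 3 → ZMod 2, ((gT : Matrix (Fin 3) (Fin 3) (ZMod 2)) *ᵥ v = v ↔ v 0 = 0) := by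
  decide

theorem axis_ne : (![0, 1, 0] : Fin 3 → ZMod 2) ≠ 0 := by decide

theorem card_nonzero : Nat.card {v : Fin 3 → ZMod 2 // v ≠ 0} = 7 := by
  rw [Nat.card_eq_fintype_card]; decide

omit [Finite Y] in
theorem card_sup_inf (A T : Subgroup Y) [T.Normal] :
    Nat.card ↥(A ⊔ T) * Nat.card ↥(T ⊓ A) = Nat.card A * Nat.card T := by
  have e : ∀ H K : Subgroup Y, H ≤ K → Nat.card H * H.relIndex K = Nat.card K := fun H K h => by
    rw [← relIndex_bot_left, ← relIndex_bot_left, relIndex_mul_relIndex ⊥ H K bot_le h]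
  rw [← e T (A ⊔ T) le_sup_right, ← e (T ⊓ A) A inf_le_right, inf_relIndex_right,
    relIndex_sup_right]
  ring

theorem axis_step : ![1, 0, 0] + (gT : Matrix (Fin 3) (Fin 3) (ZMod 2)) *ᵥ ![1, 0, 0] = e3 := by decide

omit [Finite Y] in
/-- Passing to the quotient by a normal subgroup inside `Q`. -/
theorem Top.quot {Q : Subgroup Y} [Q.Normal] (τ : Top Q) {R : Subgroup Y} [R.Normal] (hR : R ≤ Q)
    [(Q.map (QuotientGroup.mk' R)).Normal] : Top (Q.map (QuotientGroup.mk' R)) := by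
  let e := QuotientGroup.quotientQuotientEquivQuotient R Q hR
  refine ⟨τ.two.map _, ?_, (Nat.card_congr e.toEquiv).trans τ.card⟩
  haveI := τ.simple
  exact e.isSimpleGroup

omit [Finite Y] in
theorem Top.sub {Q : Subgroup Y} [Q.Normal] (τ : Top Q) {A Y1 : Subgroup Y} (hA : Y1 ⊓ Q = A)
    (htop : Y1 ⊔ Q = ⊤) [(A.subgroupOf Y1).Normal] : Top (A.subgroupOf Y1) := by
  have hAY : A ≤ Y1 := hA ▸ inf_le_left
  let f : Y1 →* Y ⧸ Q := (QuotientGroup.mk' Q).comp Y1.subtype
  have hf : Function.Surjective f := by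
    intro x
    obtain ⟨x, rfl⟩ := QuotientGroup.mk'_surjective Q x
    have hx : x ∈ ((Y1 ⊔ Q : Subgroup Y) : Set Y) := by rw [htop]; trivial
    rw [Subgroup.mul_normal] at hx
    obtain ⟨a, ha, q, hq, rfl⟩ := Set.mem_mul.1 hx
    refine ⟨⟨a, ha⟩, ?_⟩
    show QuotientGroup.mk' Q a = QuotientGroup.mk' Q (a * q)
    rw [map_mul, show QuotientGroup.mk' Q q = 1 from (QuotientGroup.eq_one_iff q).2 hq, mul_one]
  have hker : A.subgroupOf Y1 = f.ker := by
    ext x
    rw [MonoidHom.mem_ker, mem_subgroupOf, ← hA, mem_inf]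
    exact ⟨fun h => (QuotientGroup.eq_one_iff _).2 h.2, fun h => ⟨x.2, (QuotientGroup.eq_one_iff _).1 h⟩⟩
  let e := (QuotientGroup.quotientMulEquivOfEq hker).trans (QuotientGroup.quotientKerEquivOfSurjective f hf)
  refine ⟨(τ.two.to_le (hA ▸ inf_le_right)).of_equiv (subgroupOfEquivOfLe hAY).symm, ?_,
    (Nat.card_congr e.toEquiv).trans τ.card⟩
  haveI := τ.simple
  exact e.isSimpleGroup

/-- The hypotheses. -/
structure Big (Q W : Subgroup Y) [Q.Normal] [W.Normal] : Prop where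
  τ : Top Q
  rank : Cfsg.SectionalPRankLE 2 4 Y
  WQ : W ≤ Q
  Wexp : Exp2 W
  Wcen : ∀ q ∈ Q, ∀ w ∈ W, q * w = w * q
  W8 : Nat.card W = 8
  card : Nat.card Q = 128
  sq : ∀ q ∈ Q, q * q ∈ W
  Wmove : ∃ g, ∃ w ∈ W, g * w ≠ w * g
  Qmove : ∃ g, ∃ q ∈ Q, g * q * g⁻¹ * q⁻¹ ∉ W

/-- `O₂` of order `128` over a natural module is impossible. -/
theorem false_big {Q W : Subgroup Y} [Q.Normal] [W.Normal] (b : Big Q W) : False := by
  classical
  haveI : Fact (Nat.Prime 2) := ⟨Nat.prime_two⟩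
  haveI : Fact (Nat.Prime 7) := ⟨by norm_num⟩
  obtain ⟨h, h7, hhQ⟩ := b.τ.exists_seven
  set p := QuotientGroup.mk' W with hp
  set V := Q.map p with hV
  haveI : V.Normal := Normal.map inferInstance _ (QuotientGroup.mk'_surjective W)
  have hVexp : Exp2 V := by
    rintro _ ⟨q, hq, rfl⟩
    rw [← map_mul]
    exact (QuotientGroup.eq_one_iff _).2 (b.sq q hq)
  have hV16 : Nat.card V = 16 := by
    have := card_map_mk b.WQ
    rw [b.card, b.W8] at this
    change 128 = 8 * Nat.card V at this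
    omega
  have τb : Top V := b.τ.quot b.WQ
  -- `h` moves `W` and `V`
  obtain ⟨cW, hcW, hcWm⟩ : ∃ c ∈ W, h * c ≠ c * h := by
    by_contra! hall
    obtain ⟨g, w, hw, hgw⟩ := b.Wmove
    have hK : centralizer (W : Set Y) = ⊤ := b.τ.eq_top
      (fun q hq => mem_centralizer_iff.2 fun w hw => (b.Wcen q hq w hw).symm)
      (mem_centralizer_iff.2 fun w hw => (hall w hw).symm) hhQ
    exact hgw (mem_centralizer_iff.1 (hK.ge (mem_top g)) w hw).symm
  have hWfree : ∀ w ∈ W, h * w = w * h → w = 1 := fun w hw hc =>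
    eight_fixed h7 (fun x hx => Normal.conj_mem inferInstance x hx h) b.W8 hcW hcWm hw hc
  have hpV : ∀ q ∈ Q, p q ∈ V := fun q hq => mem_map_of_mem p hq
  have hb7 : p h ^ 7 = 1 := by rw [← map_pow, h7, map_one]
  have hhV : p h ∉ V := by
    rintro ⟨q, hq, hqe⟩
    exact hhQ (by simpa using mul_mem hq (b.WQ (QuotientGroup.eq.1 hqe)))
  obtain ⟨cV, hcV, hcVm⟩ : ∃ c ∈ V, p h * c ≠ c * p h := by
    by_contra! hall
    obtain ⟨g, q, hq, hgq⟩ := b.Qmove
    have hK : centralizer (V : Set (Y ⧸ W)) = ⊤ := τb.eq_top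
      (fun x hx => mem_centralizer_iff.2 fun v hv => hVexp.comm hv hx)
      (mem_centralizer_iff.2 fun v hv => (hall v hv).symm) hhV
    refine hgq ((QuotientGroup.eq_one_iff _).1 ?_)
    show p g * p q * (p g)⁻¹ * (p q)⁻¹ = 1
    rw [← mem_centralizer_iff.1 (hK.ge (mem_top (p g))) _ (hpV q hq), mul_inv_cancel_right, mul_inv_cancel]
  have hF2 := sixteen_fixed hb7 (fun x hx => Normal.conj_mem inferInstance x hx (p h)) hV16 hcV hcVm
  obtain ⟨ev, hev, hev1⟩ := (V ⊓ centralizer ({p h} : Set (Y ⧸ W))).bot_or_exists_ne_one.resolve_left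
    (fun e => by rw [e, card_bot] at hF2; norm_num at hF2)
  have hhe : p h * ev = ev * p h := (mem_centralizer_singleton_iff.1 hev.2).symm
  have hFe : ∀ x ∈ V, p h * x = x * p h → x = 1 ∨ x = ev := fun x hx hc =>
    two_cases hF2.le hev hev1 ⟨hx, mem_centralizer_singleton_iff.2 hc.symm⟩
  obtain ⟨j, hjQ, hjv, hhj⟩ : ∃ j ∈ Q, p j = ev ∧ h * j = j * h := by
    obtain ⟨j0, hj0, hj0e⟩ := hev.1
    set S : Set Y := {x | x ∈ Q ∧ p x = ev}
    have hS : ∀ x ∈ S, h * x * h⁻¹ ∈ S := fun x hx => ⟨Normal.conj_mem inferInstance x hx.1 h, by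
      rw [map_mul, map_mul, map_inv, hx.2, hhe, mul_inv_cancel_right]⟩
    have hm := card_set_modEq h7 hS
    have hS8 : Nat.card S = 8 := by
      rw [← b.W8]
      have hmk : ∀ w : W, j0 * (w : Y) ∈ S := fun w => ⟨mul_mem hj0 (b.WQ w.2), by
        rw [map_mul, hj0e, show p (w : Y) = 1 from (QuotientGroup.eq_one_iff _).2 w.2, mul_one]⟩
      exact (Nat.card_congr (α := W) (β := S) ⟨fun w => ⟨j0 * w, hmk w⟩, fun x => ⟨j0⁻¹ * x,
        QuotientGroup.eq.1 (hj0e.trans x.2.2.symm)⟩, fun w => Subtype.ext (inv_mul_cancel_left j0 (w : Y)),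
        fun x => Subtype.ext (mul_inv_cancel_left j0 (x : Y))⟩).symm
    rw [hS8] at hm
    obtain ⟨⟨x, hxS, hx⟩⟩ : Nonempty {s : Y // s ∈ S ∧ h * s * h⁻¹ = s} := by
      refine Finite.card_pos_iff.1 (Nat.pos_of_ne_zero fun e0 => ?_)
      rw [e0] at hm
      exact absurd hm (by decide)
    exact ⟨x, hxS.1, hxS.2, conj_eq_iff.1 hx⟩
  have hj1 : p j ≠ 1 := fun e => hev1 (hjv ▸ e)
  have hjW : j ∉ W := fun hm => hj1 ((QuotientGroup.eq_one_iff j).2 hm)
  have hjj : j * j = 1 := hWfree _ (b.sq j hjQ) ((show Commute h j from hhj).mul_right hhj).eq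
  have hsqW : ∀ x ∈ Q, ∀ w ∈ W, x * w * (x * w) = x * x := fun x hx w hw => by
    rw [mul_assoc, ← mul_assoc w, ← b.Wcen x hx w hw, mul_assoc, b.Wexp w hw, mul_one]
  have hne : ∀ A : Subgroup Y, A ≤ Q → W ≤ A → 32 ≤ Nat.card A → ∃ q ∈ A, q * q ≠ 1 := by
    intro A hAQ hWA hA
    by_contra! hall
    have hexp : Exp2 A := hall
    have := Invol.prank_of_sectional b.rank A hexp.isMulCommutative (fun a ha => by rw [pow_two]; exact hexp a ha)
    omega
  -- the case where all involutions split over an invariant hyperplane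
  have split : ∀ U : Subgroup (Y ⧸ W), U.Normal → U ≤ V → Nat.card U = 8 → ev ∉ U →
      (∀ x, x * x ∈ Q → p (x * x) ∈ U) → False := by
    intro U hUn hUV hU8 heU hsq
    haveI := hUn
    set A := U.comap p with hA
    haveI : A.Normal := Normal.comap inferInstance _
    have hWA : W ≤ A := fun w hw => by
      show p w ∈ U
      rw [show p w = 1 from (QuotientGroup.eq_one_iff w).2 hw]; exact one_mem U
    have hAQ : A ≤ Q := fun a ha => by
      obtain ⟨q, hq, hqe⟩ := hUV ha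
      simpa using mul_mem hq (b.WQ (QuotientGroup.eq.1 hqe))
    have hA64 : Nat.card A = 64 := by
      rw [card_map_mk hWA, map_comap_eq_self_of_surjective (QuotientGroup.mk'_surjective W), b.W8, hU8]
    obtain ⟨F⟩ := b.τ.exists_frame b.Wexp b.W8 b.Wcen hcW hcWm
    obtain ⟨Y1, hAY, hY1A, hY1Q, hidx⟩ := exists_index_two b.τ F.π F.πsurj F.ker hAQ (by rw [b.card, hA64])
      (fun x hx => hsq x hx)
    haveI : (A.subgroupOf Y1).Normal := Normal.subgroupOf inferInstance Y1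
    haveI : (W.subgroupOf Y1).Normal := Normal.subgroupOf inferInstance Y1
    have hhY1 : h ∈ Y1 := by
      have h2 := sq_mem_of_index_two hidx h
      rw [show h = (h ^ 2) ^ 4 by rw [← pow_mul, show 2 * 4 = 7 + 1 from rfl, pow_succ, h7, one_mul]]
      exact pow_mem h2 4
    have hWY : W ≤ Y1 := hWA.trans hAY
    refine false_homocyclic (Q := A.subgroupOf Y1) (W := W.subgroupOf Y1)
      ⟨b.τ.sub hY1A hY1Q, Five.sectional_subgroup Y1 b.rank, le_rfl, fun w hw => hWA hw,
        fun w hw => Subtype.ext (b.Wexp w hw),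
        fun q hq w hw => Subtype.ext (b.Wcen q (hAQ hq) w hw),
        by rw [Nat.card_congr (subgroupOfEquivOfLe hWY).toEquiv, b.W8],
        by rw [Nat.card_congr (subgroupOfEquivOfLe hWY).toEquiv, Nat.card_congr (subgroupOfEquivOfLe hAY).toEquiv,
          hA64, b.W8],
        fun q hq => b.sq q (hAQ hq), ?_, ?_, ?_⟩
    · obtain ⟨q, hq, hq1⟩ := hne A hAQ hWA (by omega)
      exact ⟨⟨q, hAY hq⟩, hq, fun e => hq1 (congrArg Subtype.val e)⟩
    · exact ⟨⟨h, hhY1⟩, ⟨cW, hWY hcW⟩, hcW, fun e => hcWm (congrArg Subtype.val e)⟩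
    · obtain ⟨u, hu, hu1⟩ := U.bot_or_exists_ne_one.resolve_left
        (fun e => by rw [e, card_bot] at hU8; norm_num at hU8)
      obtain ⟨a, rfl⟩ := QuotientGroup.mk'_surjective W u
      refine ⟨⟨h, hhY1⟩, ⟨a, hAY hu⟩, hu, fun hm => ?_⟩
      have h1 : p h * p a * (p h)⁻¹ * (p a)⁻¹ = 1 := (QuotientGroup.eq_one_iff _).2 hm
      rcases hFe (p a) (hUV hu) (conj_eq_iff.1 (mul_inv_eq_one.1 h1)) with e | e
      exacts [hu1 e, heU (e ▸ hu)]
  rcases fixed_or_hyperplane τb hb7 hVexp hV16 (fun q hq v hv => hVexp.comm hq hv) hev.1 hev1 hhe hcV hcVm with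
    hfix | ⟨U, hUn, hUV, hU8, heU, hUfree⟩
  swap
  · refine split U hUn hUV hU8 heU fun x hx => ?_
    by_cases hxQ : x ∈ Q
    · rw [show p (x * x) = 1 from (QuotientGroup.eq_one_iff _).2 (b.sq x hxQ)]; exact one_mem U
    by_contra hnm
    refine hUfree _ (hpV _ hx) hnm (p x) (fun hm => hxQ ?_) (by rw [← map_mul]; exact hpV _ hx) ?_
    · obtain ⟨q, hq, hqe⟩ := hm
      simpa using mul_mem hq (b.WQ (QuotientGroup.eq.1 hqe))
    · rw [← map_mul, ← map_mul, ← mul_assoc]
  -- `ev` is central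
  set J := W ⊔ zpowers j with hJ
  have hjJ : j ∈ J := mem_sup_right (mem_zpowers j)
  have hJQ : J ≤ Q := sup_le b.WQ (zpowers_le.2 hjQ)
  have hJmem : ∀ x, x ∈ J ↔ p x = 1 ∨ p x = ev := by
    intro x
    constructor
    · intro hx
      have hm : p x ∈ J.map p := mem_map_of_mem p hx
      rw [hJ, Subgroup.map_sup, QuotientGroup.map_mk'_self, bot_sup_eq, MonoidHom.map_zpowers, hjv] at hm
      have h2 : Nat.card (zpowers ev) ≤ 2 := by
        rw [Nat.card_zpowers]
        exact Nat.le_of_dvd (by norm_num) (orderOf_dvd_of_pow_eq_one (by rw [pow_two]; exact hVexp _ hev.1))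
      exact two_cases h2 (mem_zpowers ev) hev1 hm
    · rintro (h1 | h1)
      · exact mem_sup_left ((QuotientGroup.eq_one_iff x).1 h1)
      · have hm : j⁻¹ * x ∈ W := QuotientGroup.eq.1 (hjv.trans h1.symm)
        simpa using mul_mem hjJ (mem_sup_left hm)
  haveI : J.Normal := ⟨fun x hx g => (hJmem _).2 (by
    rcases (hJmem x).1 hx with e | e
    · left; rw [map_mul, map_mul, e, mul_one, map_inv, mul_inv_cancel]
    · right; rw [map_mul, map_mul, e, hfix, map_inv, mul_inv_cancel_right])⟩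
  have hJcases : ∀ x ∈ J, x ∈ W ∨ ∃ w ∈ W, x = j * w := by
    intro x hx
    rcases (hJmem x).1 hx with e | e
    · exact Or.inl ((QuotientGroup.eq_one_iff x).1 e)
    · exact Or.inr ⟨j⁻¹ * x, QuotientGroup.eq.1 (hjv.trans e.symm), (mul_inv_cancel_left j x).symm⟩
  have hJexp : Exp2 J := by
    intro x hx
    rcases hJcases x hx with hw | ⟨w, hw, rfl⟩
    · exact b.Wexp x hw
    · rw [hsqW j hjQ w hw, hjj]
  have hJ16 : Nat.card J = 16 := by
    rw [card_map_mk (show W ≤ J from le_sup_left), b.W8, hJ, Subgroup.map_sup, QuotientGroup.map_mk'_self,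
      bot_sup_eq, MonoidHom.map_zpowers, hjv, Nat.card_zpowers,
      orderOf_eq_prime (show ev ^ 2 = 1 by rw [pow_two]; exact hVexp _ hev.1) hev1]
  -- commutators with `j`
  have hcW' : ∀ a ∈ Q, ∀ c ∈ Q, a * c * a⁻¹ * c⁻¹ ∈ W := by
    intro a ha c hc
    refine (QuotientGroup.eq_one_iff _).1 ?_
    show p a * p c * (p a)⁻¹ * (p c)⁻¹ = 1
    rw [hVexp.comm (hpV a ha) (hpV c hc), mul_inv_cancel_right, mul_inv_cancel]
  by_cases hcen : ∀ q ∈ Q, q * j = j * q
  · -- `j` centralizes `Q`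
    have hJcen : ∀ q ∈ Q, ∀ x ∈ J, q * x = x * q := by
      intro q hq x hx
      rcases hJcases x hx with hw | ⟨w, hw, rfl⟩
      · exact b.Wcen q hq x hw
      · exact ((show Commute q j from hcen q hq).mul_right (b.Wcen q hq w hw)).eq
    have l : Layer Q J W := by
      refine ⟨b.τ, b.rank, le_sup_left, hJQ, hJexp, hJcen, b.W8, by rw [b.card, hJ16], b.sq,
        hne Q le_rfl b.WQ (by rw [b.card]; norm_num), b.Wmove, ?_⟩
      by_contra! hall
      refine hcVm ?_
      obtain ⟨q, hq, rfl⟩ := hcV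
      rcases (hJmem _).1 (hall h q hq) with e | e
      · simp only [map_mul, map_inv] at e
        exact conj_eq_iff.1 (mul_inv_eq_one.1 e)
      · exfalso
        simp only [map_mul, map_inv] at e
        have hb' : p h * p q * (p h)⁻¹ = ev * p q := mul_inv_eq_iff_eq_mul.1 e
        have hit : ∀ n : ℕ, p h ^ n * p q * (p h ^ n)⁻¹ = ev ^ n * p q := by
          intro n
          induction n with
          | zero => simp
          | succ n ih =>
            rw [pow_succ', show p h * p h ^ n * p q * (p h * p h ^ n)⁻¹ = p h * (p h ^ n * p q * (p h ^ n)⁻¹) * (p h)⁻¹ by group,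
              ih, show p h * (ev ^ n * p q) * (p h)⁻¹ = (p h * ev ^ n * (p h)⁻¹) * (p h * p q * (p h)⁻¹) by group, hb',
              conj_eq_iff.2 ((show Commute (p h) ev from hhe).pow_right n).eq, ← mul_assoc, ← pow_succ,
              pow_succ']
        have h' := hit 7
        rw [hb7, one_mul, inv_one, mul_one, show ev ^ 7 = ev by
          rw [show 7 = 2 * 3 + 1 from rfl, pow_succ, pow_mul, pow_two, hVexp ev hev.1, one_pow, one_mul]] at h'
        exact hev1 (right_eq_mul.1 h')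
    obtain ⟨D⟩ := l.exists_data
    rcases fixed_or_hyperplane b.τ h7 hJexp hJ16 hJcen hjJ (fun e => hjW (e ▸ one_mem W)) hhj
      (mem_sup_left hcW) hcWm with hjc | ⟨U, hUn, hUJ, hU8, hjU, hUfree⟩
    · -- `<j>` is normal
      set Z := zpowers j with hZ
      haveI : Z.Normal := ⟨fun n hn g => by
        obtain ⟨i, rfl⟩ := mem_zpowers_iff.1 hn
        rw [conj_eq_iff.2 ((show Commute g j from hjc g).zpow_right i).eq]
        exact zpow_mem (mem_zpowers j) i⟩
      set p2 := QuotientGroup.mk' Z with hp2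
      haveI : (Q.map p2).Normal := Normal.map inferInstance _ (QuotientGroup.mk'_surjective Z)
      haveI : (W.map p2).Normal := Normal.map inferInstance _ (QuotientGroup.mk'_surjective Z)
      have hZQ : Z ≤ Q := zpowers_le.2 hjQ
      have hZ2 : Nat.card Z = 2 := by
        rw [hZ, Nat.card_zpowers, orderOf_eq_prime (show j ^ 2 = 1 by rw [pow_two, hjj]) fun e => hjW (e ▸ one_mem W)]
      have hWZ : ∀ w ∈ W, p2 w = 1 → w = 1 := by
        intro w hw h1
        rcases two_cases hZ2.le (mem_zpowers j) (fun e => hjW (e ▸ one_mem W))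
          ((QuotientGroup.eq_one_iff w).1 h1) with e | e
        exacts [e, absurd (e ▸ hw) hjW]
      refine false_homocyclic (Q := Q.map p2) (W := W.map p2) ⟨b.τ.quot hZQ,
        Invol.sectional_quotient Z b.rank, le_rfl, map_mono b.WQ, ?_, ?_, ?_, ?_, ?_, ?_, ?_, ?_⟩
      · rintro _ ⟨w, hw, rfl⟩; rw [← map_mul, b.Wexp w hw, map_one]
      · rintro _ ⟨q, hq, rfl⟩ _ ⟨w, hw, rfl⟩; rw [← map_mul, ← map_mul, b.Wcen q hq w hw]
      · rw [← b.W8]
        exact (Nat.card_congr (Equiv.ofBijective (fun w : W => (⟨p2 w, mem_map_of_mem p2 w.2⟩ : W.map p2))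
          ⟨fun a c hac => Subtype.ext (inv_mul_eq_one.1 (hWZ _ (mul_mem (inv_mem a.2) c.2) (by
            rw [map_mul, map_inv, show p2 (a : Y) = p2 (c : Y) from congrArg Subtype.val hac, inv_mul_cancel]))),
            fun ⟨_, w, hw, e⟩ => ⟨⟨w, hw⟩, Subtype.ext e⟩⟩)).symm
      · have hW' : Nat.card (W.map p2) = 8 := by
          have hJmap : J.map p2 = W.map p2 := by
            rw [hJ, Subgroup.map_sup, QuotientGroup.map_mk'_self, sup_bot_eq]
          have := card_map_mk (show Z ≤ J from le_sup_right)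
          rw [hJ16, hZ2, show J.map (QuotientGroup.mk' Z) = W.map p2 from hJmap] at this
          omega
        have := card_map_mk hZQ
        rw [b.card, hZ2] at this
        change 128 = 2 * Nat.card (Q.map p2) at this
        rw [hW']
        omega
      · rintro _ ⟨q, hq, rfl⟩; rw [← map_mul]; exact mem_map_of_mem p2 (b.sq q hq)
      · obtain ⟨q, hq, hq1⟩ := hne Q le_rfl b.WQ (by rw [b.card]; norm_num)
        exact ⟨p2 q, mem_map_of_mem p2 hq, fun e => hq1 (hWZ _ (b.sq q hq) (by rw [map_mul]; exact e))⟩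
      · refine ⟨p2 h, p2 cW, mem_map_of_mem p2 hcW, fun e => hcWm ?_⟩
        rw [← map_mul, ← map_mul] at e
        have : (cW * h)⁻¹ * (h * cW) ∈ W := by
          rw [show (cW * h)⁻¹ * (h * cW) = h⁻¹ * (cW⁻¹ * (h * cW * h⁻¹)) * h⁻¹⁻¹ by group]
          exact Normal.conj_mem inferInstance _ (mul_mem (inv_mem hcW) (Normal.conj_mem inferInstance cW hcW h)) _
        exact (inv_mul_eq_one.1 (hWZ _ this (by rw [map_mul, map_inv, e, inv_mul_cancel]))).symm
      · obtain ⟨g, q, hq, hgq⟩ := l.Qmove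
        refine ⟨p2 g, p2 q, mem_map_of_mem p2 hq, fun hm => hgq ?_⟩
        rw [← map_inv, ← map_inv, ← map_mul, ← map_mul, ← map_mul] at hm
        obtain ⟨w, hw, hwe⟩ := hm
        have hz : w⁻¹ * (g * q * g⁻¹ * q⁻¹) ∈ Z := QuotientGroup.eq.1 hwe
        simpa using mul_mem (mem_sup_left hw : w ∈ J) (mem_sup_right hz : _ ∈ J)
    -- involutions move all of `jW`
    have hUW : U = W := by
      haveI := hUn
      have hD : U ⊓ W = W := by
        have hdvd : Nat.card (U ⊓ W : Subgroup Y) ∣ 2 ^ 3 := by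
          have := card_dvd_of_le (inf_le_right : U ⊓ W ≤ W)
          rwa [b.W8] at this
        obtain ⟨i, hi, hic⟩ := (Nat.dvd_prime_pow Nat.prime_two).1 hdvd
        have hsup : Nat.card (U ⊔ W : Subgroup Y) ≤ 16 :=
          hJ16 ▸ card_le_of_le (sup_le hUJ le_sup_left)
        have hprod := card_sup_inf U W
        rw [inf_comm W U, hU8, b.W8, hic] at hprod
        have hi2 : 2 ≤ i := by
          by_contra hlt
          have : 2 ^ i ≤ 2 := by interval_cases i <;> norm_num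
          nlinarith
        rcases (show i = 2 ∨ i = 3 by omega) with rfl | rfl
        · exfalso
          obtain ⟨x, hx, hx1⟩ := (U ⊓ W).bot_or_exists_ne_one.resolve_left
            (fun e => by rw [e, card_bot] at hic; norm_num at hic)
          exact hx1 (hWfree x hx.2 (small_fixed h7 (fun z hz => Normal.conj_mem inferInstance z hz h) hic le_rfl hx))
        · exact eq_of_le_of_card_ge inf_le_right (by rw [hic, b.W8]; norm_num)
      exact (eq_of_le_of_card_ge (hD ▸ inf_le_left) (by rw [hU8, b.W8])).symm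
    obtain ⟨s, -, hs, -, -⟩ := D.exists_elts b.τ.two
    set t0 := s * s with ht0
    have hπt0 : D.π t0 = gT := by rw [map_mul, hs, gS_sq]
    have hm : t0 * t0 ∈ Q := (D.ker _).1 (by rw [map_mul, hπt0, gT_sq])
    have ht0Q : t0 ∉ Q := fun hh => gT_ne (by rw [← hπt0]; exact (D.ker _).2 hh)
    have hnofix : ∀ w ∈ W, t0 * (j * w) ≠ j * w * t0 := by
      intro w hw
      refine hUfree _ (mul_mem hjJ (mem_sup_left hw)) (fun hh => hjW ?_) t0 ht0Q hm
      rw [hUW] at hh
      simpa using mul_mem hh (inv_mem hw)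
    set τ := fun x : Y => t0 * x * t0⁻¹ with hτ
    have hττ : ∀ x ∈ Q, τ (τ x) = x := fun x hx => by
      show t0 * (t0 * x * t0⁻¹) * t0⁻¹ = x
      rw [show t0 * (t0 * x * t0⁻¹) * t0⁻¹ = t0 * t0 * x * (t0 * t0)⁻¹ by group, D.comm _ hm x hx,
        mul_inv_cancel_right]
    set w0 := j⁻¹ * τ j with hw0
    have hw0W : w0 ∈ W := by
      refine QuotientGroup.eq.1 ?_
      show p j = p (t0 * j * t0⁻¹)
      rw [map_mul, map_mul, map_inv, hjv, hfix, mul_inv_cancel_right]
    have hrange : ∀ w ∈ W, w * τ w ≠ w0 := by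
      intro w hw e
      refine hnofix w hw (conj_eq_iff.1 ?_)
      have hτw : τ w ∈ W := Normal.conj_mem inferInstance w hw t0
      rw [show t0 * (j * w) * t0⁻¹ = τ j * τ w by simp only [hτ]; group,
        show τ j = j * w0 by rw [hw0, mul_inv_cancel_left], ← e, mul_assoc j, mul_assoc w,
        b.Wexp _ hτw, mul_one]
    set R := W ⊓ centralizer ({t0} : Set Y) with hR
    have hRmem : ∀ w ∈ W, τ w = w → w ∈ R := fun w hw e =>
      ⟨hw, mem_centralizer_singleton_iff.2 (conj_eq_iff.1 e).symm⟩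
    have hR4 : Nat.card R ≤ 4 := by
      have hd := card_dvd_of_le (inf_le_left : R ≤ W)
      rw [b.W8, show 8 = 2 ^ 3 from rfl] at hd
      obtain ⟨i, hi, hiR⟩ := (Nat.dvd_prime_pow Nat.prime_two).1 hd
      rw [hiR]
      by_contra hbig
      have h3 : i = 3 := by interval_cases i <;> omega
      have heq := eq_of_le_of_card_ge (inf_le_left : R ≤ W) (by rw [hiR, h3, b.W8]; norm_num)
      have hK : centralizer (W : Set Y) = ⊤ := b.τ.eq_top
        (fun q hq => mem_centralizer_iff.2 fun w hw => (b.Wcen q hq w hw).symm)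
        (mem_centralizer_iff.2 fun w hw => mem_centralizer_singleton_iff.1 (heq.ge hw).2) ht0Q
      exact hcWm (mem_centralizer_iff.1 (hK.ge (mem_top h)) cW hcW).symm
    set G0 : Set Y := {x | x ∈ Q ∧ D.ψ x 0 = 0} with hG0
    have hG0sq : ∀ x ∈ G0, x * x ∈ R := by
      rintro x ⟨hx, hx0⟩
      rw [D.sq x hx]
      exact hRmem _ (D.ωmem _) (by
        show t0 * D.ω _ * t0⁻¹ = _
        rw [← D.ωconj, hπt0, (plane_facts _).2 hx0])
    have hG0t : ∀ x ∈ G0, x⁻¹ * τ x ∈ R := by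
      rintro x ⟨hx, hx0⟩
      have hτx : τ x ∈ Q := Normal.conj_mem inferInstance x hx t0
      set d := x⁻¹ * τ x with hd
      have hdJ : d ∈ J := by
        rw [← D.ψker _ (mul_mem (inv_mem hx) hτx)]
        have h1 := D.ψmul x hx _ (mul_mem (inv_mem hx) hτx)
        rw [mul_inv_cancel_left, show D.ψ (τ x) = D.ψ x by
          show D.ψ (t0 * x * t0⁻¹) = _
          rw [D.ψconj t0 x hx, hπt0, (plane_facts _).2 hx0]] at h1
        exact left_eq_add.1 h1
      have hdd : d * τ d = 1 := by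
        have h1 : τ d = (τ x)⁻¹ * x := by
          calc τ d = (τ x)⁻¹ * τ (τ x) := by simp only [hd, hτ]; group
            _ = _ := by rw [hττ x hx]
        rw [h1, hd]; group
      rcases hJcases d hdJ with hw | ⟨w, hw, hdw⟩
      · refine hRmem _ hw ?_
        rw [eq_inv_of_mul_eq_one_right hdd, b.Wexp.inv_eq hw]
      · exfalso
        refine hrange w hw ?_
        have hτw : τ w ∈ W := Normal.conj_mem inferInstance w hw t0
        rw [hdw, show τ (j * w) = τ j * τ w by simp only [hτ]; group,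
          show τ j = j * w0 by rw [hw0, mul_inv_cancel_left]] at hdd
        have h1 : j * w * (j * w0 * τ w) = w * w0 * τ w := by
          calc j * w * (j * w0 * τ w) = j * w * j * w0 * τ w := by group
            _ = w * w0 * τ w := by rw [← hcen w (b.WQ hw), mul_assoc w j j, hjj, mul_one]
        rw [h1, mul_assoc, b.Wexp.comm hw0W hτw, ← mul_assoc] at hdd
        rw [eq_inv_of_mul_eq_one_left hdd, b.Wexp.inv_eq hw0W]
    -- the lift of `t0`
    obtain ⟨f, hf, hfψ⟩ := D.ψsurj ![1, 0, 0]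
    have hτf : τ f ∈ Q := Normal.conj_mem inferInstance f hf t0
    set l0 := f⁻¹ * τ f with hl0
    have hl0Q : l0 ∈ Q := mul_mem (inv_mem hf) hτf
    have hl0ψ : D.ψ l0 = e3 := by
      have h1 := D.ψmul f hf l0 hl0Q
      rw [hl0, mul_inv_cancel_left, show D.ψ (τ f) = (gT : Matrix (Fin 3) (Fin 3) (ZMod 2)) *ᵥ D.ψ f by
        rw [← hπt0]; exact D.ψconj t0 f hf, hfψ] at h1
      rw [← axis_step, h1, ← add_assoc,
        show (![1, 0, 0] : Fin 3 → ZMod 2) + ![1, 0, 0] = 0 from funext fun i => CharTwo.add_self_eq_zero _, zero_add]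
    have hl0τ : τ l0 = l0⁻¹ := by
      calc τ l0 = (τ f)⁻¹ * τ (τ f) := by simp only [hl0, hτ]; group
        _ = l0⁻¹ := by rw [hττ f hf, hl0]; group
    have hl0sq : l0 * l0 = D.ω ![1, 0, 0] * τ (D.ω ![1, 0, 0]) := by
      rw [D.sq l0 hl0Q, hl0ψ, ← axis_step, D.ωadd]
      congr 1
      rw [← hπt0, D.ωconj]
    have hmψ : D.ψ (t0 * t0) = 0 ∨ D.ψ (t0 * t0) = e3 := by
      refine fix_S _ ?_
      rw [← hs, ← D.ψconj s _ hm, ht0]
      congr 1
      group
    have hτm : τ (t0 * t0) = t0 * t0 := by simp only [hτ]; group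
    obtain ⟨a, haQ, hga⟩ : ∃ a ∈ Q, t0 * a * (t0 * a) ∈ W := by
      have hmul : ∀ a ∈ Q, t0 * a * (t0 * a) = t0 * t0 * (τ a * a) := fun a ha => by
        have hτa : τ a ∈ Q := Normal.conj_mem inferInstance a ha t0
        calc t0 * a * (t0 * a) = τ a * (t0 * t0) * a := by simp only [hτ]; group
          _ = t0 * t0 * τ a * a := by rw [D.comm _ hτa _ hm]
          _ = _ := by rw [mul_assoc]
      rcases hmψ with h0 | h3
      · refine ⟨1, one_mem Q, ?_⟩
        rw [mul_one]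
        rcases hJcases _ ((D.ψker _ hm).1 h0) with hw | ⟨w, hw, hmw⟩
        · exact hw
        · exact absurd (conj_eq_iff.1 (by rw [← hmw]; exact hτm)) (hnofix w hw)
      · have hx : l0⁻¹ * (t0 * t0) ∈ J := by
          rw [← D.ψker _ (mul_mem (inv_mem hl0Q) hm)]
          have h1 := D.ψmul l0 hl0Q _ (mul_mem (inv_mem hl0Q) hm)
          rw [mul_inv_cancel_left, h3, hl0ψ] at h1
          exact left_eq_add.1 h1
        rcases hJcases _ hx with hw | ⟨w, hw, hmw⟩
        · refine ⟨f, hf, ?_⟩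
          rw [hmul f hf, show t0 * t0 = l0 * (l0⁻¹ * (t0 * t0)) by group, D.comm (τ f) hτf f hf,
            show τ f = f * l0 by rw [hl0]; group,
            show l0 * (l0⁻¹ * (t0 * t0)) * (f * (f * l0)) =
              (l0 * (l0⁻¹ * (t0 * t0))) * (f * f) * l0 by group]
          have hc : l0 * (l0⁻¹ * (t0 * t0)) * (f * f) * l0 = (l0⁻¹ * (t0 * t0)) * (f * f) * (l0 * l0) := by
            rw [D.comm l0 hl0Q _ (b.WQ hw), mul_assoc _ l0 (f * f), D.comm l0 hl0Q _ (b.WQ (b.sq f hf))]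
            group
          rw [hc]
          exact mul_mem (mul_mem hw (b.sq f hf)) (b.sq l0 hl0Q)
        · exfalso
          have hτw : τ w ∈ W := Normal.conj_mem inferInstance w hw t0
          have hme : t0 * t0 = l0 * (j * w) := by rw [← hmw, mul_inv_cancel_left]
          have h1 : τ (t0 * t0) = l0⁻¹ * (j * w0 * τ w) := by
            rw [hme, show τ (l0 * (j * w)) = τ l0 * (τ j * τ w) by simp only [hτ]; group, hl0τ,
              show τ j = j * w0 by rw [hw0, mul_inv_cancel_left]]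
          rw [hτm, hme] at h1
          -- hence `w0` is in the image of `t0`
          have h2 : l0 * l0 * w = w0 * τ w := by
            have h3 : j * (l0 * l0 * w) = j * (w0 * τ w) := by
              calc j * (l0 * l0 * w) = l0 * (j * l0) * w := by
                    rw [show l0 * (j * l0) * w = (l0 * j) * l0 * w by group, hcen l0 hl0Q]
                    group
                _ = l0 * (l0 * j) * w := by rw [hcen l0 hl0Q]
                _ = l0 * (l0 * (j * w)) := by group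
                _ = l0 * (l0⁻¹ * (j * w0 * τ w)) := by rw [h1]
                _ = _ := by group
            exact mul_left_cancel h3
          refine hrange (D.ω ![1, 0, 0] * w) (mul_mem (D.ωmem _) hw) ?_
          have hτω : τ (D.ω ![1, 0, 0]) ∈ W := Normal.conj_mem inferInstance _ (D.ωmem _) t0
          calc D.ω ![1, 0, 0] * w * τ (D.ω ![1, 0, 0] * w)
              = D.ω ![1, 0, 0] * (w * τ (D.ω ![1, 0, 0])) * τ w := by simp only [hτ]; group
            _ = l0 * l0 * w * τ w := by rw [b.Wexp.comm hw hτω, hl0sq]; group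
            _ = w0 * (τ w * τ w) := by rw [h2, mul_assoc]
            _ = w0 := by rw [b.Wexp _ hτw, mul_one]
    set t := t0 * a with ht
    have hτt : ∀ x ∈ Q, t * x * t⁻¹ = τ x := fun x hx => by
      rw [ht, show t0 * a * x * (t0 * a)⁻¹ = t0 * (a * x * a⁻¹) * t0⁻¹ by group, D.comm a haQ x hx,
        mul_inv_cancel_right]
    have htt : t * t ∈ R := hRmem _ hga (by rw [← hτt _ (b.WQ hga)]; group)
    set G : Set Y := G0 ∪ {t} with hG
    have hRG : R ≤ Subgroup.closure G := fun r hr => Subgroup.subset_closure (Or.inl ⟨b.WQ hr.1, by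
      rw [(D.ψker r (b.WQ hr.1)).2 (mem_sup_left hr.1)]; rfl⟩)
    have hτR : ∀ r ∈ R, τ r = r := fun r hr => conj_eq_iff.2 (mem_centralizer_singleton_iff.1 hr.2).symm
    have hle := card_closure_le b.rank hRG (by
      rintro g (⟨hg, -⟩ | rfl) r hr
      · rw [D.comm g hg r (b.WQ hr.1), mul_inv_cancel_right]; exact hr
      · rw [hτt r (b.WQ hr.1), hτR r hr]; exact hr) (by
      rintro g (hg | rfl)
      exacts [hG0sq g hg, htt]) (by
      have hxt : ∀ x ∈ G0, t * x * t⁻¹ * x⁻¹ ∈ R := fun x hx => by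
        rw [hτt x hx.1, D.comm (τ x) (Normal.conj_mem inferInstance x hx.1 t0) x⁻¹ (inv_mem hx.1)]
        exact hG0t x hx
      rintro x (hx | rfl) y (hy | rfl)
      · rw [D.comm x hx.1 y hy.1, mul_inv_cancel_right, mul_inv_cancel]; exact one_mem R
      · rw [show x * t * x⁻¹ * t⁻¹ = (t * x * t⁻¹ * x⁻¹)⁻¹ by group]
        exact inv_mem (hxt x hx)
      · exact hxt y hy
      · rw [mul_inv_cancel_right, mul_inv_cancel]; exact one_mem R)
    -- the order is at least `128`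
    obtain ⟨f2, hf2, hf2ψ⟩ := D.ψsurj ![0, 1, 0]
    set C0 := Subgroup.closure G0
    have hJC : J < C0 := by
      refine lt_of_le_not_ge (fun x hx => Subgroup.subset_closure ⟨hJQ hx, by
        rw [(D.ψker x (hJQ hx)).2 hx]; rfl⟩) fun hh => ?_
      have := (D.ψker f2 hf2).2 (hh (Subgroup.subset_closure ⟨hf2, by rw [hf2ψ]; rfl⟩))
      rw [hf2ψ] at this
      exact axis_ne this
    have h64 : 64 ≤ Nat.card C0 := by
      obtain ⟨f3, hf3, hf3ψ⟩ := D.ψsurj e3
      set C' := J ⊔ zpowers f2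
      have hC' : C' < C0 := by
        refine lt_of_le_not_ge (sup_le hJC.le (zpowers_le.2 (Subgroup.subset_closure ⟨hf2, by rw [hf2ψ]; rfl⟩)))
          fun hh => ?_
        have hm3 : f3 ∈ ((J ⊔ zpowers f2 : Subgroup Y) : Set Y) := hh (Subgroup.subset_closure ⟨hf3, by rw [hf3ψ]; rfl⟩)
        rw [normal_mul] at hm3
        obtain ⟨x, hx, z, hz, hxz⟩ := Set.mem_mul.1 hm3
        obtain ⟨n, rfl⟩ := mem_powers_iff_mem_zpowers.2 hz
        dsimp only at hxz
        have hpw : ∀ n : ℕ, D.ψ (f2 ^ n) = n • D.ψ f2 := by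
          intro n
          induction n with
          | zero => rw [pow_zero, zero_smul, D.ψ_one]
          | succ n ih => rw [pow_succ, D.ψmul _ (pow_mem hf2 n) _ hf2, ih, succ_nsmul]
        rw [← hxz, D.ψmul x (hJQ hx) _ (pow_mem hf2 n), (D.ψker x (hJQ hx)).2 hx, zero_add, hpw, hf2ψ] at hf3ψ
        have := congrFun hf3ψ 2
        simp [e3] at this
      have hJC' : J < C' := lt_of_le_not_ge le_sup_left fun hh => by
        have := (D.ψker f2 hf2).2 (hh (mem_sup_right (mem_zpowers f2)))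
        rw [hf2ψ] at this
        exact axis_ne this
      have := two_mul_card_le hJC'
      have := two_mul_card_le hC'
      omega
    have hC0G : C0 < Subgroup.closure G := by
      refine lt_of_le_not_ge (Subgroup.closure_mono Set.subset_union_left) fun hh => ?_
      have hQ : C0 ≤ Q := (Subgroup.closure_le _).2 fun x hx => hx.1
      exact ht0Q (by simpa [ht] using mul_mem (hQ (hh (Subgroup.subset_closure (Or.inr rfl)))) (inv_mem haQ))
    have := two_mul_card_le hC0G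
    omega
  -- `j` moves `Q`
  push Not at hcen
  obtain ⟨q0, hq0, hq0j⟩ := hcen
  obtain ⟨F⟩ := b.τ.exists_frame b.Wexp b.W8 b.Wcen hcW hcWm
  let β : Q →* W :=
    { toFun := fun a => ⟨j * a * j⁻¹ * (a : Y)⁻¹, hcW' j hjQ a a.2⟩
      map_one' := Subtype.ext (by simp)
      map_mul' := fun a c => Subtype.ext (by
        show j * ((a : Y) * c) * j⁻¹ * ((a : Y) * c)⁻¹ =
          (j * a * j⁻¹ * (a : Y)⁻¹) * (j * c * j⁻¹ * (c : Y)⁻¹)
        rw [show j * ((a : Y) * c) * j⁻¹ * ((a : Y) * c)⁻¹ =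
          j * a * j⁻¹ * ((j * c * j⁻¹ * (c : Y)⁻¹) * (a : Y)⁻¹) by group,
          ← b.Wcen (a : Y)⁻¹ (inv_mem a.2) _ (hcW' j hjQ c c.2)]
        group) }
  have hβconj : ∀ g : Y, ∀ a : Q, g * (β a : Y) * g⁻¹ = (β ⟨g * a * g⁻¹, Normal.conj_mem inferInstance _ a.2 g⟩ : Y) := by
    intro g a
    show g * (j * a * j⁻¹ * (a : Y)⁻¹) * g⁻¹ = j * (g * a * g⁻¹) * j⁻¹ * (g * a * g⁻¹)⁻¹
    have hx : j⁻¹ * (g * j * g⁻¹) ∈ W := by
      refine QuotientGroup.eq.1 ?_
      show p j = p (g * j * g⁻¹)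
      rw [map_mul, map_mul, map_inv, hjv, hfix, mul_inv_cancel_right]
    set w := j⁻¹ * (g * j * g⁻¹) with hwdef
    have hgj : g * j * g⁻¹ = j * w := by rw [hwdef, mul_inv_cancel_left]
    set a' := g * a * g⁻¹
    have ha' : a' ∈ Q := Normal.conj_mem inferInstance _ a.2 g
    calc g * (j * a * j⁻¹ * (a : Y)⁻¹) * g⁻¹ = (g * j * g⁻¹) * a' * (g * j * g⁻¹)⁻¹ * a'⁻¹ := by
          simp only [a']; group
      _ = j * (w * a') * w⁻¹ * j⁻¹ * a'⁻¹ := by rw [hgj]; group
      _ = j * a' * j⁻¹ * a'⁻¹ := by rw [← b.Wcen a' ha' w hx]; group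
  have hrange : (β.range.map W.subtype) = W := by
    set I := β.range.map W.subtype with hI
    have hIn : I.Normal := ⟨by
      rintro _ ⟨_, ⟨a, rfl⟩, rfl⟩ g
      refine ⟨β ⟨g * a * g⁻¹, Normal.conj_mem inferInstance _ a.2 g⟩, ⟨_, rfl⟩, ?_⟩
      exact (hβconj g a).symm⟩
    have hIW : I ≤ W := map_subtype_le _
    have hd := card_dvd_of_le hIW
    rw [b.W8, show 8 = 2 ^ 3 from rfl] at hd
    obtain ⟨i, hi, hic⟩ := (Nat.dvd_prime_pow Nat.prime_two).1 hd
    refine eq_of_le_of_card_ge hIW ?_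
    rw [hic, b.W8]
    by_contra hlt
    have hi2 : i ≤ 2 := by
      by_contra hh
      exact hlt (by rw [show i = 3 by omega]; norm_num)
    have hm : (β ⟨q0, hq0⟩ : Y) ∈ I := ⟨_, ⟨_, rfl⟩, rfl⟩
    have := hWfree _ (hIW hm) (small_fixed h7 (fun z hz => hIn.conj_mem z hz h) hic hi2 hm)
    change j * q0 * j⁻¹ * q0⁻¹ = 1 at this
    exact hq0j (conj_eq_iff.1 (mul_inv_eq_one.1 this)).symm
  have hkerJ : ∀ a : Q, β a = 1 ↔ (a : Y) ∈ J := by
    have hJk : J.subgroupOf Q ≤ β.ker := by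
      intro a ha
      refine MonoidHom.mem_ker.2 (Subtype.ext ?_)
      show j * (a : Y) * j⁻¹ * (a : Y)⁻¹ = 1
      rw [hJexp.comm hjJ (show (a : Y) ∈ J from ha), mul_inv_cancel_right, mul_inv_cancel]
    have hk : Nat.card β.ker ≤ Nat.card (J.subgroupOf Q) := by
      have h1 := β.ker.card_mul_index
      rw [index_ker, b.card, ← card_map_of_injective W.subtype_injective, hrange, b.W8] at h1
      rw [Nat.card_congr (subgroupOfEquivOfLe hJQ).toEquiv, hJ16]
      omega
    intro a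
    rw [← MonoidHom.mem_ker, ← eq_of_le_of_card_ge hJk hk, mem_subgroupOf]
  -- coordinates
  have hψ : ∀ a : Q, ∃ v, F.φ v = (β a : Y) := fun a => F.surj _ (β a).2
  choose ψ hψ using hψ
  have hψmul : ∀ a c : Q, ψ (a * c) = ψ a + ψ c := fun a c => F.inj (by
    rw [F.add, hψ, hψ, hψ, map_mul, Subgroup.coe_mul])
  have hψ0 : ∀ a : Q, ψ a = 0 ↔ (a : Y) ∈ J := fun a => by
    rw [← hkerJ, ← F.inj.eq_iff, hψ, F.zero]
    exact ⟨fun e => Subtype.ext e, fun e => by rw [e]; rfl⟩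
  have hψsurj : ∀ v, ∃ a : Q, ψ a = v := fun v => by
    obtain ⟨_, ⟨a, rfl⟩, hae⟩ := hrange.ge (F.mem v)
    exact ⟨a, F.inj (by rw [hψ]; exact hae)⟩
  have hψconj : ∀ g : Y, ∀ a : Q, ψ ⟨g * a * g⁻¹, Normal.conj_mem inferInstance _ a.2 g⟩ =
      (F.π g : Matrix (Fin 3) (Fin 3) (ZMod 2)) *ᵥ ψ a := fun g a => F.inj (by
    rw [hψ, F.equiv, hψ, hβconj])
  obtain ⟨s, y, hs, hy, hy3⟩ := F.exists_elts b.τ.two
  -- one of two classes squares to `1`
  have hone : ∀ v, v ≠ 0 → ∃ a : Q, ψ a = v ∧ (a : Y) * a = 1 := by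
    intro v hv
    obtain ⟨a, ha⟩ := hψsurj e3
    have hstab : ∀ g : Y, (F.π g : Matrix (Fin 3) (Fin 3) (ZMod 2)) *ᵥ e3 = e3 →
        p (g * a * g⁻¹) = p a ∨ p (g * a * g⁻¹) = p a * ev := by
      intro g hg
      have hm : (⟨g * a * g⁻¹, Normal.conj_mem inferInstance _ a.2 g⟩ : Q) = a * (a⁻¹ * ⟨g * a * g⁻¹, Normal.conj_mem inferInstance _ a.2 g⟩) := by group
      have hJ' : ((a⁻¹ * ⟨g * a * g⁻¹, Normal.conj_mem inferInstance _ a.2 g⟩ : Q) : Y) ∈ J := by
        rw [← hψ0]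
        have h1 := hψmul a (a⁻¹ * ⟨g * a * g⁻¹, Normal.conj_mem inferInstance _ a.2 g⟩)
        rw [← hm, hψconj, ha, hg] at h1
        exact left_eq_add.1 h1
      have h2 : g * a * g⁻¹ = (a : Y) * ((a : Y)⁻¹ * (g * a * g⁻¹)) := by group
      rcases (hJmem _).1 hJ' with e | e
      · left; rw [h2, map_mul, show p ((a : Y)⁻¹ * (g * a * g⁻¹)) = 1 from e, mul_one]
      · right; rw [h2, map_mul, show p ((a : Y)⁻¹ * (g * a * g⁻¹)) = ev from e]
    have hcl : ∀ g : Y, p (g * a * g⁻¹) = p a → g * ((a : Y) * a) = (a : Y) * a * g := by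
      intro g hg
      refine conj_eq_iff.1 ?_
      have hw : (a : Y)⁻¹ * (g * a * g⁻¹) ∈ W := QuotientGroup.eq.1 hg.symm
      rw [show g * ((a : Y) * a) * g⁻¹ = ((a : Y) * ((a : Y)⁻¹ * (g * a * g⁻¹))) * ((a : Y) * ((a : Y)⁻¹ * (g * a * g⁻¹))) by group,
        hsqW _ a.2 _ hw]
    have hconj2 : ∀ g k : Y, p (g * a * g⁻¹) = p a * ev → p (k * (g * a * g⁻¹) * k⁻¹) = p (k * a * k⁻¹) * ev := by
      intro g k hg
      simp only [map_mul, map_inv] at hg ⊢
      rw [hg, show p k * (p a * ev) * (p k)⁻¹ = p k * p a * (ev * (p k)⁻¹) by group,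
        ← hfix (p k)⁻¹]
      group
    have hs2 : p (s * s * a * (s * s)⁻¹) = p a := by
      rw [show s * s * a * (s * s)⁻¹ = s * (s * a * s⁻¹) * s⁻¹ by group]
      rcases hstab s (by rw [hs]; exact e3_fixed.1) with e | e
      · rw [map_mul, map_mul, e, ← map_mul, ← map_mul, e]
      · rw [hconj2 s s e, e, mul_assoc, hVexp ev hev.1, mul_one]
    have hy1 : p (y * a * y⁻¹) = p a := by
      refine (hstab y (by rw [hy]; exact e3_fixed.2.2.1)).resolve_right fun e => ?_
      have h2 : p (y * y * a * (y * y)⁻¹) = p a := by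
        rw [show y * y * a * (y * y)⁻¹ = y * (y * a * y⁻¹) * y⁻¹ by group, hconj2 y y e, e, mul_assoc,
          hVexp ev hev.1, mul_one]
      have h3 : p (y * a * y⁻¹) = p a := by
        have e3' : y * (y * y * a * (y * y)⁻¹) * y⁻¹ = a := by
          rw [show y * (y * y * a * (y * y)⁻¹) * y⁻¹ = y ^ 3 * a * (y ^ 3)⁻¹ by
            simp only [pow_succ, pow_zero, one_mul]; group, hy3, one_mul, inv_one, mul_one]
        have h4 : p (y * (y * y * a * (y * y)⁻¹) * y⁻¹) = p (y * a * y⁻¹) := by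
          rw [map_mul, map_mul, h2, ← map_mul, ← map_mul]
        rw [e3'] at h4
        exact h4.symm
      exact hev1 (mul_eq_left.1 (e.symm.trans h3))
    obtain ⟨v2, hv2⟩ := F.surj _ (b.sq a a.2)
    have h01 := fixed_vectors v2 (by rw [← hy, ← F.fixes, hv2]; exact hcl y hy1)
      (by
        rw [← gS_sq, ← hs, ← map_mul, ← F.fixes, hv2]
        exact hcl (s * s) hs2)
    obtain ⟨a', ha', haa'⟩ : ∃ a' : Q, ψ a' = e3 ∧ (a' : Y) * a' = 1 := by
      rcases h01 with rfl | rfl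
      · exact ⟨a, ha, by rw [← hv2, F.zero]⟩
      · refine ⟨a * ⟨j, hjQ⟩, ?_, ?_⟩
        · rw [hψmul, (hψ0 ⟨j, hjQ⟩).2 hjJ, add_zero, ha]
        · have hβa : (β a : Y) = (a : Y) * a := by rw [← hψ a, ha, hv2]
          change j * (a : Y) * j⁻¹ * (a : Y)⁻¹ = (a : Y) * a at hβa
          show (a : Y) * j * ((a : Y) * j) = 1
          rw [inv_eq_of_mul_eq_one_right hjj] at hβa
          calc (a : Y) * j * ((a : Y) * j) = a * (j * a * j * (a : Y)⁻¹) * a := by group
            _ = a * ((a : Y) * a) * a := by rw [hβa]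
            _ = ((a : Y) * a) * ((a : Y) * a) := by group
            _ = 1 := b.Wexp _ (b.sq a a.2)
    obtain ⟨i, hi⟩ := gK_trans e3 v e3_fixed.2.2.2 hv
    obtain ⟨k, hk⟩ := F.πsurj (gK ^ (i : ℕ))
    refine ⟨⟨k * a' * k⁻¹, Normal.conj_mem inferInstance _ a'.2 k⟩, by rw [hψconj, hk, ha', hi], ?_⟩
    show k * a' * k⁻¹ * (k * a' * k⁻¹) = 1
    rw [show k * a' * k⁻¹ * (k * a' * k⁻¹) = k * ((a' : Y) * a') * k⁻¹ by group, haa', mul_one, mul_inv_cancel]
  choose! sel hsel hsel1 using hone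
  set O : Set (Y ⧸ W) := {x | ∃ a : Q, p a = x ∧ (a : Y) ∉ J ∧ (a : Y) * a = 1} with hO
  have huniq : ∀ a c : Q, (a : Y) ∉ J → (a : Y) * a = 1 → (c : Y) * c = 1 → ψ a = ψ c → p a = p c := by
    intro a c haJ ha hc hac
    have hJ' : (a : Y)⁻¹ * c ∈ J := by
      have h1 := hψmul a (a⁻¹ * c)
      rw [mul_inv_cancel_left, ← hac] at h1
      exact (hψ0 (a⁻¹ * c)).1 (left_eq_add.1 h1)
    rcases hJcases _ hJ' with hw | ⟨w, hw, hcw⟩
    · exact QuotientGroup.eq.2 hw
    · exfalso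
      refine haJ ((hkerJ a).1 (Subtype.ext ?_))
      show j * (a : Y) * j⁻¹ * (a : Y)⁻¹ = 1
      have hce : (c : Y) = (a : Y) * j * w := by rw [mul_assoc, ← hcw, mul_inv_cancel_left]
      rw [hce, hsqW _ (mul_mem a.2 hjQ) w hw] at hc
      calc j * (a : Y) * j⁻¹ * (a : Y)⁻¹ = (a : Y)⁻¹ * ((a : Y) * j * ((a : Y) * j⁻¹)) * (a : Y)⁻¹ := by group
        _ = ((a : Y) * a)⁻¹ := by rw [inv_eq_of_mul_eq_one_right hjj, hc]; group
        _ = 1 := by rw [ha, inv_one]
  have hO7 : Nat.card O = 7 := by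
    have hJno : ∀ v : {v : Fin 3 → ZMod 2 // v ≠ 0}, (sel v.1 : Y) ∉ J := fun v hm => v.2 (by
      rw [← hsel v.1 v.2]; exact (hψ0 _).2 hm)
    rw [← card_nonzero]
    refine (Nat.card_congr (Equiv.ofBijective (fun v => (⟨p (sel v.1), sel v.1, rfl, hJno v, hsel1 v.1 v.2⟩ : O)) ⟨?_, ?_⟩)).symm
    · intro v v' hvv
      have hm : (sel v.1 : Y)⁻¹ * sel v'.1 ∈ J := mem_sup_left (QuotientGroup.eq.1 (congrArg Subtype.val hvv))
      have h1 := hψmul (sel v.1) ((sel v.1)⁻¹ * sel v'.1)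
      rw [mul_inv_cancel_left, (hψ0 ((sel v.1)⁻¹ * sel v'.1)).2 hm, add_zero, hsel v.1 v.2, hsel v'.1 v'.2] at h1
      exact Subtype.ext h1.symm
    · rintro ⟨x, a, rfl, haJ, ha1⟩
      have hv : ψ a ≠ 0 := fun e => haJ ((hψ0 a).1 e)
      exact ⟨⟨ψ a, hv⟩, Subtype.ext ((huniq a (sel (ψ a)) haJ ha1 (hsel1 _ hv) (hsel _ hv).symm).symm)⟩
  obtain ⟨U, hUn, hUV, hU8, heU⟩ := hyperplane_of_seven hb7 hVexp hV16 hev.1 hev1 hhe hcV hcVm (O := O)
    (by rintro x ⟨a, rfl, -, -⟩; exact hpV _ a.2)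
    (fun ⟨a, ha, haJ, _⟩ => haJ (mem_sup_left ((QuotientGroup.eq_one_iff (a : Y)).1 ha)))
    (fun ⟨a, ha, haJ, _⟩ => haJ ((hJmem a).2 (Or.inr ha))) hO7 (by
      rintro g x ⟨a, rfl, haJ, ha1⟩
      obtain ⟨g, rfl⟩ := QuotientGroup.mk'_surjective W g
      refine ⟨⟨g * a * g⁻¹, Normal.conj_mem inferInstance _ a.2 g⟩, by simp [map_mul, map_inv, hp], fun hm => haJ ?_, ?_⟩
      · have := Normal.conj_mem inferInstance _ hm g⁻¹
        simpa [mul_assoc] using this
      · show g * a * g⁻¹ * (g * a * g⁻¹) = 1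
        rw [show g * a * g⁻¹ * (g * a * g⁻¹) = g * ((a : Y) * a) * g⁻¹ by group, ha1, mul_one, mul_inv_cancel])
  set A := U.comap p with hA
  have hAQ : A ≤ Q := fun a ha => by
    obtain ⟨q, hq, hqe⟩ := hUV ha
    simpa using mul_mem hq (b.WQ (QuotientGroup.eq.1 hqe))
  haveI := hUn
  -- `O` avoids `U`, and `j` inverts `A`
  have hAsq : ∀ a : Q, (a : Y) ∈ A → (a : Y) * a = β a := by
    have hside : ∀ a : Q, (a : Y) ∈ A → (a : Y) * a = 1 → (a : Y) ∈ J := by
      intro a haA ha1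
      by_contra haJ
      -- then `A` would be elementary
      have hWA : W ≤ A := fun w hw => by
        show p w ∈ U
        rw [show p w = 1 from (QuotientGroup.eq_one_iff w).2 hw]; exact one_mem U
      set S := O ∩ (U : Set (Y ⧸ W)) with hS
      have hSne : S.Nonempty := ⟨p a, ⟨a, rfl, haJ, ha1⟩, haA⟩
      have hinvS : ∀ x ∈ S, p h * x * (p h)⁻¹ ∈ S := by
        rintro x ⟨⟨c, rfl, hcJ, hc1⟩, hxU⟩
        refine ⟨⟨⟨h * c * h⁻¹, Normal.conj_mem inferInstance _ c.2 h⟩, by simp [map_mul, map_inv, hp], fun hm => hcJ ?_, ?_⟩,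
          hUn.conj_mem _ hxU _⟩
        · have := Normal.conj_mem inferInstance _ hm h⁻¹
          simpa [mul_assoc] using this
        · show h * c * h⁻¹ * (h * c * h⁻¹) = 1
          rw [show h * c * h⁻¹ * (h * c * h⁻¹) = h * ((c : Y) * c) * h⁻¹ by group, hc1, mul_one, mul_inv_cancel]
      have hm := card_set_modEq hb7 hinvS
      have h0 : Nat.card {x : Y ⧸ W // x ∈ S ∧ p h * x * (p h)⁻¹ = x} = 0 := by
        haveI : IsEmpty {x : Y ⧸ W // x ∈ S ∧ p h * x * (p h)⁻¹ = x} := by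
          refine ⟨fun ⟨x, ⟨⟨c, hcx, hcJ, _⟩, hxU⟩, hx⟩ => ?_⟩
          rcases hFe x (hUV hxU) (conj_eq_iff.1 hx) with e | e
          · exact hcJ (mem_sup_left ((QuotientGroup.eq_one_iff (c : Y)).1 (hcx.trans e)))
          · exact heU (e ▸ hxU)
        exact Nat.card_of_isEmpty
      rw [h0, Nat.card_coe_set_eq] at hm
      have hSO : S.ncard ≤ O.ncard := Set.ncard_le_ncard Set.inter_subset_left (Set.toFinite _)
      rw [← Nat.card_coe_set_eq O, hO7] at hSO
      have hpos : 0 < S.ncard := (Set.ncard_pos (Set.toFinite _)).2 hSne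
      rw [Nat.ModEq] at hm
      have hU1 : ((U : Set (Y ⧸ W)) \ {1}).ncard = 7 := by
        rw [Set.ncard_sdiff_singleton_of_mem (one_mem U), ← Nat.card_coe_set_eq]
        show Nat.card U - 1 = 7
        rw [hU8]
      have hSU : S = (U : Set (Y ⧸ W)) \ {1} := Set.eq_of_subset_of_ncard_le (fun x hx => ⟨hx.2, fun e => by
        obtain ⟨c, hc, hcJ, -⟩ := hx.1
        exact hcJ (mem_sup_left ((QuotientGroup.eq_one_iff (c : Y)).1 (hc.trans e)))⟩) (by rw [hU1]; omega)
        (Set.toFinite _)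
      obtain ⟨q, hq, hq1⟩ := hne A hAQ hWA (by
        rw [card_map_mk hWA, map_comap_eq_self_of_surjective (QuotientGroup.mk'_surjective W), b.W8, hU8]
        norm_num)
      refine hq1 ?_
      by_cases hq0 : p q = 1
      · exact b.Wexp q ((QuotientGroup.eq_one_iff q).1 hq0)
      obtain ⟨⟨c, hc, -, hc1⟩, -⟩ := hSU.ge ⟨hq, hq0⟩
      have hw : (c : Y)⁻¹ * q ∈ W := QuotientGroup.eq.1 hc
      rw [show q = (c : Y) * ((c : Y)⁻¹ * q) by group, hsqW _ c.2 _ hw, hc1]
    intro a haA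
    by_cases haJ : (a : Y) ∈ J
    · rw [(hkerJ a).2 haJ, hJexp _ haJ]; rfl
    have hv : ψ a ≠ 0 := fun e => haJ ((hψ0 a).1 e)
    set c := sel (ψ a) with hc
    have hJ' : (a : Y)⁻¹ * c ∈ J := by
      have h1 := hψmul a (a⁻¹ * c)
      rw [mul_inv_cancel_left, hsel _ hv] at h1
      exact (hψ0 (a⁻¹ * c)).1 (left_eq_add.1 h1)
    rcases hJcases _ hJ' with hw | ⟨w, hw, hcw⟩
    · exfalso
      refine haJ (hside a haA ?_)
      have := hsel1 _ hv
      rw [← hc, show (c : Y) = (a : Y) * ((a : Y)⁻¹ * c) by group, hsqW _ a.2 _ hw] at this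
      exact this
    · have := hsel1 _ hv
      rw [← hc, show (c : Y) = (a : Y) * j * w by rw [mul_assoc, ← hcw, mul_inv_cancel_left],
        hsqW _ (mul_mem a.2 hjQ) w hw] at this
      show (a : Y) * a = j * (a : Y) * j⁻¹ * (a : Y)⁻¹
      have hja : j * (a : Y) * j = (a : Y)⁻¹ := by
        rw [eq_inv_iff_mul_eq_one, ← mul_left_cancel_iff (a := (a : Y)), mul_one]
        calc (a : Y) * (j * a * j * a) = (a : Y) * j * (a * j) * a := by group
          _ = a := by rw [this, one_mul]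
      rw [inv_eq_of_mul_eq_one_right hjj, hja, ← _root_.mul_inv_rev, b.Wexp.inv_eq (b.sq a a.2)]
  have hAcomm : ∀ a ∈ A, ∀ c ∈ A, a * c = c * a := by
    intro a ha c hc
    have h1 := hAsq (⟨a, hAQ ha⟩ * ⟨c, hAQ hc⟩) (mul_mem ha hc)
    rw [map_mul, Subgroup.coe_mul, Subgroup.coe_mul, ← hAsq ⟨a, hAQ ha⟩ ha, ← hAsq ⟨c, hAQ hc⟩ hc] at h1
    refine (mul_left_cancel (a := a) (mul_right_cancel (b := c) ?_)).symm
    calc a * (c * a) * c = a * c * (a * c) := by group
      _ = a * a * (c * c) := h1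
      _ = a * (a * c) * c := by group
  refine split U hUn hUV hU8 heU fun x hx => ?_
  by_contra hnm
  have hxQ : x ∉ Q := fun hm => hnm (by
    rw [show p (x * x) = 1 from (QuotientGroup.eq_one_iff _).2 (b.sq x hm)]; exact one_mem U)
  -- `x²` inverts `A`
  obtain ⟨a0, ha0, hxx⟩ : ∃ a0 ∈ A, x * x = j * a0 := by
    refine ⟨j⁻¹ * (x * x), ?_, (mul_inv_cancel_left _ _).symm⟩
    show p (j⁻¹ * (x * x)) ∈ U
    have hidx : (U.subgroupOf V).index = 2 := by
      have := (U.subgroupOf V).card_mul_index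
      rw [Nat.card_congr (subgroupOfEquivOfLe hUV).toEquiv, hU8, hV16] at this
      omega
    rw [map_mul, map_inv, hjv]
    exact (mul_mem_iff_of_index_two hidx (a := (⟨ev, hev.1⟩ : V)⁻¹) (b := ⟨p (x * x), hpV _ hx⟩)).2
      (by simp only [inv_mem_iff, mem_subgroupOf]; exact ⟨fun hh => absurd hh heU, fun hh => absurd hh hnm⟩)
  set R := (dltHom b.Wexp x).range.map W.subtype with hR
  have hR2 : Nat.card R ≤ 2 := by
    rw [hR, card_map_of_injective W.subtype_injective]
    have hr := card_range_dlt b.Wexp x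
    have hlo := card_le_fixed_sq b.Wexp (a := x) (fun w hw => Normal.conj_mem inferInstance w hw x)
      (fun w hw => b.Wcen _ hx w hw)
    rw [show Nat.card W = 8 from b.W8] at hr hlo
    change _ * Nat.card (W ⊓ centralizer ({x} : Set Y) : Subgroup Y) = _ at hr
    generalize Nat.card (dltHom b.Wexp x).range = r at hr
    generalize Nat.card (W ⊓ centralizer ({x} : Set Y) : Subgroup Y) = n at hr hlo
    have hn : 3 ≤ n := by nlinarith
    nlinarith
  set E := U ⊓ centralizer ({p x} : Set (Y ⧸ W)) with hE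
  have hE4 : 3 ≤ Nat.card E := by
    have := card_le_fixed_sq (hVexp.mono hUV) (a := p x) (fun u hu => hUn.conj_mem u hu _) (fun u hu => by
      rw [← map_mul]
      exact hVexp.comm (hpV _ hx) (hUV hu))
    rw [hU8] at this
    change 8 ≤ Nat.card E * Nat.card E at this
    nlinarith
  have himage : ∀ u ∈ E, ∃ a : Q, (a : Y) ∈ A ∧ p a = u ∧ (β a : Y) ∈ R := by
    rintro u ⟨huU, huC⟩
    obtain ⟨a, rfl⟩ := QuotientGroup.mk'_surjective W u
    refine ⟨⟨a, hAQ huU⟩, huU, rfl, ?_⟩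
    rw [← hAsq ⟨a, hAQ huU⟩ huU]
    set w := a⁻¹ * (x * a * x⁻¹)
    have hw : w ∈ W := by
      refine QuotientGroup.eq.1 ?_
      show p a = p (x * a * x⁻¹)
      rw [map_mul, map_mul, map_inv, ← mem_centralizer_singleton_iff.1 huC, mul_inv_cancel_right]
    refine ⟨dltHom b.Wexp x ⟨w, hw⟩, ⟨_, rfl⟩, ?_⟩
    show w * (x * w * x⁻¹) = a * a
    have h1 : a * w * (x * w * x⁻¹) = x * x * a * (x * x)⁻¹ := by simp only [w]; group
    have hja : j * a * j⁻¹ = a⁻¹ := by
      have := hAsq ⟨a, hAQ huU⟩ huU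
      change a * a = j * a * j⁻¹ * a⁻¹ at this
      rw [eq_inv_iff_mul_eq_one]
      calc j * a * j⁻¹ * a = (j * a * j⁻¹ * a⁻¹) * (a * a) := by group
        _ = (a * a) * (a * a) := by rw [← this]
        _ = 1 := b.Wexp _ (b.sq a (hAQ huU))
    rw [hxx, show j * a0 * a * (j * a0)⁻¹ = j * (a0 * a * a0⁻¹) * j⁻¹ by group, hAcomm a0 ha0 a huU,
      mul_inv_cancel_right, hja] at h1
    calc w * (x * w * x⁻¹) = a⁻¹ * (a * w * (x * w * x⁻¹)) := by group
      _ = (a * a)⁻¹ := by rw [h1]; group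
      _ = a * a := b.Wexp.inv_eq (b.sq a (hAQ huU))
  choose af haA hap haR using himage
  have hinj : Function.Injective fun u : E => (⟨(β (af u u.2) : Y), haR u u.2⟩ : R) := by
    intro u v huv
    have e : β (af u u.2) = β (af v v.2) := Subtype.ext (congrArg Subtype.val huv :)
    have hJ' : ((af u u.2)⁻¹ * af v v.2 : Q) = _ := rfl
    have hm : (((af u u.2)⁻¹ * af v v.2 : Q) : Y) ∈ J := (hkerJ _).1 (by rw [map_mul, map_inv, e, inv_mul_cancel])
    refine Subtype.ext ((hap u u.2).symm.trans (Eq.trans ?_ (hap v v.2)))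
    refine QuotientGroup.eq.2 ?_
    rcases hJcases _ hm with hw | ⟨w, hw, hw'⟩
    · exact hw
    · exfalso
      refine heU ?_
      have h1 : p ((af u u.2 : Y)⁻¹ * (af v v.2 : Y)) ∈ U := mul_mem (inv_mem (haA u u.2)) (haA v v.2)
      change p (((af u u.2)⁻¹ * af v v.2 : Q) : Y) ∈ U at h1
      rwa [hw', map_mul, hjv, show p w = 1 from (QuotientGroup.eq_one_iff w).2 hw, mul_one] at h1
  have := Nat.card_le_card_of_injective _ hinj
  omega

end CfsgLib.SRank.Seven
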