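import Cfsg.Agent.Lib.SRank.Seven.Sixteen

/-!
Tools for `O₂` with a quotient `C₄ × E₈`: the two halves, commutativity, and a four-group witness.
-/

set_option autoImplicit false
set_option linter.style.haveILetI false

namespace CfsgLib.SRank.Seven

open Subgroup Matrix
open CfsgLib.SRank.Five (card_map_mk card_set_modEq exists_lift)

universe u

/-- The conjugate of `gT` under `gY`. -/
def gU : L := gY * gT * gY⁻¹

theorem gU_facts : gU ≠ 1 ∧ gU ≠ gT ∧ gT * gU * (gY * gU * gY⁻¹) = 1 ∧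
    gU * gT * gU⁻¹ * gT⁻¹ = 1 := by decide

theorem plane_inter : ∀ v : Fin 3 → ZMod 2, (gT : Matrix (Fin 3) (Fin 3) (ZMod 2)) *ᵥ v = v →
    (gU : Matrix (Fin 3) (Fin 3) (ZMod 2)) *ᵥ v = v → v = 0 ∨ v = e3 := by decide

theorem elation : ∀ v : Fin 3 → ZMod 2,
    ((gT : Matrix (Fin 3) (Fin 3) (ZMod 2)) *ᵥ v = v ∨ (gT : Matrix (Fin 3) (Fin 3) (ZMod 2)) *ᵥ v = v + e3) ∧
    ((gU : Matrix (Fin 3) (Fin 3) (ZMod 2)) *ᵥ v = v ∨ (gU : Matrix (Fin 3) (Fin 3) (ZMod 2)) *ᵥ v = v + e3) := by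
  decide

variable {Y : Type u} [Group Y] [Finite Y]

/-- An invariant subgroup between `P` and `N`, when the action on `N / P` of order `8` is free. -/
theorem free_step {h : Y} (h7 : h ^ 7 = 1) {P M N : Subgroup Y} [P.Normal] (hPM : P ≤ M) (hMN : M ≤ N)
    (h8 : Nat.card N = 8 * Nat.card P) (hM : ∀ x ∈ M, h * x * h⁻¹ ∈ M)
    (hfree : ∀ q ∈ N, h * q * h⁻¹ * q⁻¹ ∈ P → q ∈ P) : M = P ∨ M = N := by
  set p := QuotientGroup.mk' P with hp
  set B := M.map p with hB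
  have hN8 : Nat.card (N.map p) = 8 := by
    have := card_map_mk (hPM.trans hMN)
    rw [h8, mul_comm 8] at this
    exact (Nat.eq_of_mul_eq_mul_left Nat.card_pos this).symm
  have hd : Nat.card B ∣ 2 ^ 3 := by
    have := card_dvd_of_le (map_mono (f := p) hMN)
    rwa [hN8] at this
  obtain ⟨i, hi, hic⟩ := (Nat.dvd_prime_pow Nat.prime_two).1 hd
  have hcard : Nat.card M = Nat.card P * Nat.card B := card_map_mk hPM
  rcases Nat.lt_or_ge i 3 with hlt | hge
  · refine Or.inl (le_antisymm (fun x hx => ?_) hPM)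
    have hc := small_fixed (h := p h) (by rw [← map_pow, h7, map_one]) (B := B) (by
      rintro _ ⟨y, hy, rfl⟩
      rw [← map_inv, ← map_mul, ← map_mul]
      exact mem_map_of_mem p (hM y hy)) hic (by omega) (mem_map_of_mem p hx)
    refine hfree x (hMN hx) ((QuotientGroup.eq_one_iff _).1 ?_)
    show p h * p x * (p h)⁻¹ * (p x)⁻¹ = 1
    rw [hc, mul_inv_cancel_right, mul_inv_cancel]
  · refine Or.inr (eq_of_le_of_card_ge hMN (le_of_eq ?_))
    rw [hcard, hic, show i = 3 by omega, h8, mul_comm 8]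
    norm_num

/-- A group with commutators of order `2` over a central `P`, with a free action on the quotient of order
`8`, is abelian. -/
theorem comm_of_free {h : Y} (h7 : h ^ 7 = 1) {W P N : Subgroup Y} [P.Normal] [N.Normal] (hPN : P ≤ N)
    (h8 : Nat.card N = 8 * Nat.card P) (hfree : ∀ q ∈ N, h * q * h⁻¹ * q⁻¹ ∈ P → q ∈ P)
    (hW : Nat.card W = 2) (hWcen : ∀ q ∈ N, ∀ w ∈ W, q * w = w * q)
    (hPcen : ∀ q ∈ N, ∀ z ∈ P, q * z = z * q) (hc : ∀ a ∈ N, ∀ b ∈ N, a * b * a⁻¹ * b⁻¹ ∈ W) :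
    ∀ a ∈ N, ∀ b ∈ N, a * b = b * a := by
  classical
  set Zc := N ⊓ centralizer (N : Set Y) with hZ
  have hPZ : P ≤ Zc := fun z hz => ⟨hPN hz, mem_centralizer_iff.2 fun q hq => hPcen q hq z hz⟩
  rcases free_step h7 hPZ inf_le_left h8
    (fun x hx => Normal.conj_mem (inferInstance : Zc.Normal) x hx h) hfree with hZP | hZN
  swap
  · exact fun a ha b hb => (mem_centralizer_iff.1 (hZN.ge hb).2 a ha)
  intro a ha b hb
  by_contra hab
  set w := a * b * a⁻¹ * b⁻¹ with hw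
  have hwW : w ∈ W := hc a ha b hb
  have hw1 : w ≠ 1 := fun e => hab (conj_eq_iff.1 (mul_inv_eq_one.1 e))
  have hW2 : ∀ x ∈ W, x = 1 ∨ x = w := fun x hx => two_cases hW.le hwW hw1 hx
  have hhom : ∀ c ∈ N, ∀ x ∈ N, ∀ y ∈ N, c * (x * y) * c⁻¹ * (x * y)⁻¹ =
      (c * x * c⁻¹ * x⁻¹) * (c * y * c⁻¹ * y⁻¹) := by
    intro c hcN x hx y hy
    have h1 := hWcen x⁻¹ (inv_mem hx) _ (hc c hcN y hy)
    calc c * (x * y) * c⁻¹ * (x * y)⁻¹ = c * x * c⁻¹ * ((c * y * c⁻¹ * y⁻¹) * x⁻¹) := by group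
      _ = c * x * c⁻¹ * (x⁻¹ * (c * y * c⁻¹ * y⁻¹)) := by rw [h1]
      _ = _ := by group
  let f : N →* W × W :=
    { toFun := fun x => (⟨_, hc a ha x x.2⟩, ⟨_, hc b hb x x.2⟩)
      map_one' := by ext <;> simp
      map_mul' := fun x y => Prod.ext (Subtype.ext (hhom a ha x x.2 y y.2)) (Subtype.ext (hhom b hb x x.2 y y.2)) }
  set N' := f.ker.map N.subtype with hN'
  have hN'mem : ∀ x, x ∈ N' → x ∈ N ∧ a * x = x * a ∧ b * x = x * b := by
    rintro _ ⟨x, hx, rfl⟩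
    refine ⟨x.2, conj_eq_iff.1 (mul_inv_eq_one.1 ?_), conj_eq_iff.1 (mul_inv_eq_one.1 ?_)⟩
    · exact congrArg (fun z : W × W => (z.1 : Y)) hx
    · exact congrArg (fun z : W × W => (z.2 : Y)) hx
  have hfb : f ⟨b, hb⟩ = (⟨w, hwW⟩, 1) := by
    refine Prod.ext (Subtype.ext rfl) (Subtype.ext ?_)
    show b * b * b⁻¹ * b⁻¹ = 1
    group
  have hfa : f ⟨a, ha⟩ = (1, ⟨w, hwW⟩) := by
    refine Prod.ext (Subtype.ext (show a * a * a⁻¹ * a⁻¹ = 1 by group)) (Subtype.ext ?_)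
    show b * a * b⁻¹ * a⁻¹ = w
    rcases hW2 _ (hc b hb a ha) with e | e
    · exfalso
      refine hw1 ?_
      rw [hw, show a * b * a⁻¹ * b⁻¹ = (b * a * b⁻¹ * a⁻¹)⁻¹ by group, e, inv_one]
    · exact e
  have hsurj : Function.Surjective f := by
    rintro ⟨⟨x, hx⟩, ⟨y, hy⟩⟩
    rcases hW2 x hx with rfl | rfl <;> rcases hW2 y hy with rfl | rfl
    · exact ⟨1, map_one f⟩
    · exact ⟨⟨a, ha⟩, hfa⟩
    · exact ⟨⟨b, hb⟩, hfb⟩
    · exact ⟨⟨b, hb⟩ * ⟨a, ha⟩, by rw [map_mul, hfb, hfa]; simp⟩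
  have hN'c : Nat.card N' = 2 * Nat.card P := by
    have h1 := f.ker.card_mul_index
    rw [index_ker, MonoidHom.range_eq_top.2 hsurj, card_top, Nat.card_prod, hW, h8,
      ← card_map_of_injective N.subtype_injective] at h1
    rw [← hN'] at h1
    omega
  have hPN' : P ≤ N' := fun z hz => by
    refine ⟨⟨z, hPN hz⟩, MonoidHom.mem_ker.2 ?_, rfl⟩
    refine Prod.ext (Subtype.ext ?_) (Subtype.ext ?_)
    · show a * z * a⁻¹ * z⁻¹ = 1
      rw [hPcen a ha z hz, mul_inv_cancel_right, mul_inv_cancel]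
    · show b * z * b⁻¹ * z⁻¹ = 1
      rw [hPcen b hb z hz, mul_inv_cancel_right, mul_inv_cancel]
  have hidx : (P.subgroupOf N').index = 2 := by
    have h1 := (P.subgroupOf N').card_mul_index
    rw [Nat.card_congr (subgroupOfEquivOfLe hPN').toEquiv, hN'c, mul_comm 2] at h1
    exact Nat.eq_of_mul_eq_mul_left Nat.card_pos h1
  have hN'comm : ∀ x ∈ N', ∀ y ∈ N', x * y = y * x := by
    intro x hx y hy
    by_cases hxP : x ∈ P
    · exact (hPcen y (hN'mem y hy).1 x hxP).symm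
    by_cases hyP : y ∈ P
    · exact hPcen x (hN'mem x hx).1 y hyP
    have hz : x⁻¹ * y ∈ P := (mul_mem_iff_of_index_two hidx (a := (⟨x, hx⟩ : N')⁻¹) (b := ⟨y, hy⟩)).2
      (by simp only [inv_mem_iff, mem_subgroupOf]; exact ⟨fun hh => absurd hh hxP, fun hh => absurd hh hyP⟩)
    have h1 := hPcen x (hN'mem x hx).1 _ hz
    rw [mul_inv_cancel_left] at h1
    calc x * y = x * (x * (x⁻¹ * y)) := by group
      _ = x * ((x⁻¹ * y) * x) := by rw [hPcen x (hN'mem x hx).1 _ hz]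
      _ = _ := by group
  obtain ⟨c, hcN', hcP⟩ : ∃ c ∈ N', c ∉ P := by
    by_contra! hall
    have := card_le_of_le (show N' ≤ P from hall)
    have := Nat.card_pos (α := P)
    omega
  refine hcP (hZP.le ⟨(hN'mem c hcN').1, mem_centralizer_iff.2 fun q hq => ?_⟩)
  obtain ⟨a0, hca, hq0⟩ : ∃ a0 : N, Commute c (a0 : Y) ∧ f a0 = f ⟨q, hq⟩ := by
    obtain ⟨-, hac, hbc⟩ := hN'mem c hcN'
    obtain ⟨⟨x, hx⟩, ⟨y, hy⟩⟩ := f ⟨q, hq⟩
    rcases hW2 x hx with rfl | rfl <;> rcases hW2 y hy with rfl | rfl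
    · exact ⟨1, Commute.one_right c, map_one f⟩
    · exact ⟨⟨a, ha⟩, hac.symm, hfa⟩
    · exact ⟨⟨b, hb⟩, hbc.symm, hfb⟩
    · exact ⟨⟨b, hb⟩ * ⟨a, ha⟩, (show Commute c b from hbc.symm).mul_right hac.symm,
        by rw [map_mul, hfb, hfa]; simp⟩
  have hm : (a0 : Y)⁻¹ * q ∈ N' :=
    ⟨a0⁻¹ * ⟨q, hq⟩, MonoidHom.mem_ker.2 (by rw [map_mul, map_inv, hq0, inv_mul_cancel]), rfl⟩
  have h1 : Commute c ((a0 : Y) * ((a0 : Y)⁻¹ * q)) := hca.mul_right (hN'comm c hcN' _ hm)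
  rw [mul_inv_cancel_left] at h1
  exact h1.eq.symm

/-! ### The two halves -/

/-- `P / W` has order `2` and `Q / W` is abelian with squares `P / W`. -/
structure Pre (Q P W : Subgroup Y) [Q.Normal] [P.Normal] [W.Normal] : Prop where
  τ : Top Q
  rank : Cfsg.SectionalPRankLE 2 4 Y
  WP : W ≤ P
  PQ : P ≤ Q
  two : Nat.card P = 2 * Nat.card W
  card : Nat.card Q = 16 * Nat.card P
  sq : ∀ q ∈ Q, q * q ∈ P
  gen : ∃ q ∈ Q, q * q ∉ W
  comm : ∀ a ∈ Q, ∀ b ∈ Q, a * b * a⁻¹ * b⁻¹ ∈ W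
  self : ∀ y, (∀ q ∈ Q, y * q * y⁻¹ * q⁻¹ ∈ P) → y ∈ Q

/-- The half `U` and the fixed element outside it. -/
structure Halves (Q P W U : Subgroup Y) (h e : Y) : Prop where
  le : U ≤ Q
  normal : U.Normal
  mem : ∀ q, q ∈ U ↔ q ∈ Q ∧ q * q ∈ W
  card : 2 * Nat.card U = Nat.card Q
  split : ∀ q ∈ Q, q ∉ U → e⁻¹ * q ∈ U
  eQ : e ∈ Q
  eU : e ∉ U
  fix : h * e = e * h
  PU : P ≤ U
  free : ∀ q ∈ U, h * q * h⁻¹ * q⁻¹ ∈ P → q ∈ P

namespace Pre

variable {Q P W : Subgroup Y} [Q.Normal] [P.Normal] [W.Normal] (b : Pre Q P W)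
include b

theorem sqP {z : Y} (hz : z ∈ P) : z * z ∈ W := by
  have hidx : (W.subgroupOf P).index = 2 := by
    have h1 := (W.subgroupOf P).card_mul_index
    rw [Nat.card_congr (subgroupOfEquivOfLe b.WP).toEquiv, b.two, mul_comm 2] at h1
    exact Nat.eq_of_mul_eq_mul_left Nat.card_pos h1
  have := sq_mem_of_index_two hidx (⟨z, hz⟩ : P)
  rwa [mem_subgroupOf, Subgroup.coe_pow, pow_two] at this

theorem exists_halves {h : Y} (h7 : h ^ 7 = 1) (hhQ : h ∉ Q) :
    ∃ U e, Halves Q P W U h e := by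
  classical
  haveI : Fact (Nat.Prime 2) := ⟨Nat.prime_two⟩
  haveI : Fact (Nat.Prime 7) := ⟨by norm_num⟩
  have hWQ : W ≤ Q := b.WP.trans b.PQ
  set p := QuotientGroup.mk' W with hp
  have hpc : ∀ a ∈ Q, ∀ c ∈ Q, p a * p c = p c * p a := fun a ha c hc => by
    refine conj_eq_iff.1 (mul_inv_eq_one.1 ?_)
    rw [← map_mul, ← map_inv, ← map_mul, ← map_inv, ← map_mul]
    exact (QuotientGroup.eq_one_iff _).2 (b.comm a ha c hc)
  let σ : Q →* Y ⧸ W :=
    { toFun := fun q => p ((q : Y) * q)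
      map_one' := by simp
      map_mul' := fun a c => by
        simp only [Subgroup.coe_mul, map_mul]
        calc p a * p c * (p a * p c) = p a * (p c * p a) * p c := by group
          _ = p a * (p a * p c) * p c := by rw [hpc c c.2 a a.2]
          _ = _ := by group }
  set U := σ.ker.map Q.subtype with hU
  have hmem : ∀ q, q ∈ U ↔ q ∈ Q ∧ q * q ∈ W := by
    intro q
    constructor
    · rintro ⟨x, hx, rfl⟩
      exact ⟨x.2, (QuotientGroup.eq_one_iff _).1 hx⟩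
    · rintro ⟨hq, hqq⟩
      exact ⟨⟨q, hq⟩, (QuotientGroup.eq_one_iff _).2 hqq, rfl⟩
  have hUQ : U ≤ Q := map_subtype_le _
  have hUn : U.Normal := ⟨fun q hq g => by
    rw [hmem] at hq ⊢
    refine ⟨Normal.conj_mem inferInstance q hq.1 g, ?_⟩
    rw [show g * q * g⁻¹ * (g * q * g⁻¹) = g * (q * q) * g⁻¹ by group]
    exact Normal.conj_mem inferInstance _ hq.2 g⟩
  have hPU : P ≤ U := fun z hz => (hmem z).2 ⟨b.PQ hz, b.sqP hz⟩
  have hidx : σ.ker.index = 2 := by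
    rw [index_ker]
    have hle : σ.range ≤ P.map p := by
      rintro _ ⟨q, rfl⟩; exact mem_map_of_mem p (b.sq q q.2)
    have hP2 : Nat.card (P.map p) = 2 := by
      have := card_map_mk b.WP
      rw [b.two, mul_comm 2] at this
      exact (Nat.eq_of_mul_eq_mul_left Nat.card_pos this).symm
    have hne : σ.range ≠ ⊥ := fun e => by
      obtain ⟨q, hq, hqq⟩ := b.gen
      exact hqq ((QuotientGroup.eq_one_iff _).1 ((eq_bot_iff_forall _).1 e _ ⟨⟨q, hq⟩, rfl⟩))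
    have h1 := card_dvd_of_le hle
    rw [hP2] at h1
    rcases (Nat.dvd_prime Nat.prime_two).1 h1 with e | e
    · exact absurd (card_eq_one.1 e) hne
    · exact e
  have hcardU : 2 * Nat.card U = Nat.card Q := by
    rw [hU, card_map_of_injective Q.subtype_injective, ← hidx, mul_comm, σ.ker.card_mul_index]
  -- a fixed point outside `U`
  set S : Set Y := (Q : Set Y) \ (U : Set Y) with hS
  have hm := card_set_modEq h7 (S := S) fun x hx => ⟨Normal.conj_mem inferInstance x hx.1 h, fun hh => hx.2 (by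
    have := hUn.conj_mem _ hh h⁻¹
    rwa [show h⁻¹ * (h * x * h⁻¹) * h⁻¹⁻¹ = x by group] at this)⟩
  have hScard : Nat.card S = Nat.card U := by
    rw [Nat.card_coe_set_eq, hS, Set.ncard_sdiff hUQ (Set.toFinite _), ← Nat.card_coe_set_eq,
      ← Nat.card_coe_set_eq]
    show Nat.card Q - Nat.card U = _
    omega
  obtain ⟨⟨e, ⟨heQ, heU⟩, hee⟩⟩ : Nonempty {s : Y // s ∈ S ∧ h * s * h⁻¹ = s} := by
    refine Finite.card_pos_iff.1 (Nat.pos_of_ne_zero fun e0 => ?_)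
    rw [e0, hScard] at hm
    have hd : 7 ∣ Nat.card U := Nat.modEq_zero_iff_dvd.1 hm
    obtain ⟨n, hn⟩ := (b.τ.two.to_le hUQ).exists_card_eq
    rw [hn] at hd
    exact absurd ((Nat.prime_dvd_prime_iff_eq (by norm_num) Nat.prime_two).1
      ((by norm_num : Nat.Prime 7).dvd_of_dvd_pow hd)) (by norm_num)
  refine ⟨U, e, hUQ, hUn, hmem, hcardU, fun q hq hqU => ?_, heQ, heU, conj_eq_iff.1 hee, hPU, ?_⟩
  · have heK : (⟨e, heQ⟩ : Q) ∉ σ.ker := fun hh => heU ⟨_, hh, rfl⟩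
    have hqK : (⟨q, hq⟩ : Q) ∉ σ.ker := fun hh => hqU ⟨_, hh, rfl⟩
    exact ⟨_, (mul_mem_iff_of_index_two hidx (a := (⟨e, heQ⟩ : Q)⁻¹) (b := ⟨q, hq⟩)).2
      (by simp only [inv_mem_iff]; exact ⟨fun hh => absurd hh heK, fun hh => absurd hh hqK⟩), rfl⟩
  -- freeness
  intro q hq hfix
  set pP := QuotientGroup.mk' P with hpP
  set B := Q.map pP with hB
  haveI : B.Normal := Normal.map inferInstance _ (QuotientGroup.mk'_surjective P)
  have hB16 : Nat.card B = 16 := by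
    have := card_map_mk b.PQ
    rw [b.card, mul_comm 16] at this
    exact (Nat.eq_of_mul_eq_mul_left Nat.card_pos this).symm
  obtain ⟨c, hcQ, hcm⟩ : ∃ c ∈ Q, h * c * h⁻¹ * c⁻¹ ∉ P := by
    by_contra! hall
    exact hhQ (b.self h hall)
  have hF2 := sixteen_fixed (h := pP h) (by rw [← map_pow, h7, map_one])
    (fun x hx => Normal.conj_mem inferInstance x hx _) hB16 (mem_map_of_mem pP hcQ) (fun hh => hcm
      ((QuotientGroup.eq_one_iff _).1 (by
        show pP h * pP c * (pP h)⁻¹ * (pP c)⁻¹ = 1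
        rw [hh, mul_inv_cancel_right, mul_inv_cancel])))
  have hqF : pP q ∈ B ⊓ centralizer ({pP h} : Set (Y ⧸ P)) :=
    ⟨mem_map_of_mem pP (hUQ hq), mem_centralizer_singleton_iff.2 (conj_eq_iff.1 (mul_inv_eq_one.1 (by
      simp only [← map_inv, ← map_mul]
      exact (QuotientGroup.eq_one_iff _).2 hfix))).symm⟩
  have heF : pP e ∈ B ⊓ centralizer ({pP h} : Set (Y ⧸ P)) :=
    ⟨mem_map_of_mem pP heQ, mem_centralizer_singleton_iff.2 (by
      rw [← map_mul, ← map_mul, conj_eq_iff.1 hee])⟩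
  rcases two_cases hF2.le heF (fun h1 => heU (hPU ((QuotientGroup.eq_one_iff e).1 h1))) hqF with h1 | h1
  · exact (QuotientGroup.eq_one_iff q).1 h1
  · exfalso
    have hm : e⁻¹ * q ∈ P := QuotientGroup.eq.1 h1.symm
    exact heU (by simpa using mul_mem hq (inv_mem (hPU hm)))

end Pre

/-! ### A four-group witness -/

/-- Two commuting elations over a commutative `S` give a section that is too large. -/
theorem four_witness (rank : Cfsg.SectionalPRankLE 2 4 Y) {Q S R : Subgroup Y} [Q.Normal] [S.Normal]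
    (hSQ : S ≤ Q) (hRS : R ≤ S) (hS : ∀ a ∈ S, ∀ c ∈ S, a * c = c * a) (π : Y →* L)
    (hker : ∀ g, π g = 1 ↔ g ∈ Q) {s y : Y} (hs : π s = gS) (hy : π y = gY)
    (hsq : ∀ q ∈ S, q * q ∈ R)
    (hRt : ∀ r ∈ R, s * s * r = r * (s * s) ∧ y * (s * s) * y⁻¹ * r = r * (y * (s * s) * y⁻¹))
    (hdt : ∀ q ∈ S, s * s * q * (s * s)⁻¹ * q⁻¹ ∈ R ∧
      y * (s * s) * y⁻¹ * q * (y * (s * s) * y⁻¹)⁻¹ * q⁻¹ ∈ R)
    (hm : s * s * (s * s) ∈ S) (hym : y * (s * s * (s * s)) = s * s * (s * s) * y)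
    (hq3 : s * s * (y * (s * s) * y⁻¹) * (y * (y * (s * s) * y⁻¹) * y⁻¹) ∈ S)
    (hc : y * (s * s) * y⁻¹ * (s * s) * (y * (s * s) * y⁻¹)⁻¹ * (s * s)⁻¹ ∈ S)
    (keyC : ∀ c ∈ S, c * (s * s * c * (s * s)⁻¹) = 1 →
      c * (y * (s * s) * y⁻¹ * c * (y * (s * s) * y⁻¹)⁻¹) = 1 → c ∈ R) :
    4 * Nat.card S ≤ 16 * Nat.card R := by
  classical
  set t := s * s with ht
  set u := y * t * y⁻¹ with hu
  set u' := y * u * y⁻¹ with hu'
  set m := t * t with hmdef
  have hym' : y * m * y⁻¹ = m := conj_eq_iff.2 hym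
  have huu : u * u = m := by
    rw [hu, show y * t * y⁻¹ * (y * t * y⁻¹) = y * (t * t) * y⁻¹ by group, hym']
  have hu'u' : u' * u' = m := by
    rw [hu', show y * u * y⁻¹ * (y * u * y⁻¹) = y * (u * u) * y⁻¹ by group, huu, hym']
  set c := u * t * u⁻¹ * t⁻¹ with hcdef
  have hct : c * (t * c * t⁻¹) = 1 := by
    have h1 : c * (t * c * t⁻¹) * (t * t) = u * (t * t) * u⁻¹ := by simp only [hcdef]; group
    have h2 : u * (t * t) * u⁻¹ = t * t := by
      refine conj_eq_iff.2 ?_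
      show u * m = m * u
      rw [← huu]
      exact (mul_assoc u u u).symm
    rw [h2] at h1
    exact mul_eq_right.1 h1
  have hcu : c * (u * c * u⁻¹) = 1 := by
    have h2 : t * (u * u) * t⁻¹ = u * u := by
      refine conj_eq_iff.2 ?_
      rw [huu, hmdef]
      exact (mul_assoc t t t).symm
    have hd : c⁻¹ * (u * c⁻¹ * u⁻¹) * (u * u) = t * (u * u) * t⁻¹ := by simp only [hcdef]; group
    rw [h2] at hd
    have h3 : c⁻¹ * (u * c⁻¹ * u⁻¹) = 1 := mul_eq_right.1 hd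
    have hn : u * c * u⁻¹ ∈ S := Normal.conj_mem inferInstance c hc u
    rw [hS c hc _ hn, ← _root_.inv_inj, inv_one, ← h3]
    group
  have hcR : c ∈ R := keyC c hc hct hcu
  set q := t * u * u' with hqdef
  -- `m ∈ R`
  have hRu : ∀ r ∈ R, u * r = r * u := fun r hr => (hRt r hr).2
  have hRtt : ∀ r ∈ R, t * r = r * t := fun r hr => (hRt r hr).1
  have hmR : m ∈ R := by
    set a := u⁻¹ * t⁻¹ with ha
    have hu'a : u' = a * q := by simp only [ha, hqdef]; group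
    obtain ⟨r1, hr1, hr1e⟩ : ∃ r ∈ R, a⁻¹ * q * a = r * q := by
      obtain ⟨h1, h2⟩ := hdt q hq3
      refine ⟨(u * q * u⁻¹ * q⁻¹) * (t * q * t⁻¹ * q⁻¹), mul_mem h2 h1, ?_⟩
      have h3 := hRtt _ h2
      calc a⁻¹ * q * a = (t * (u * q * u⁻¹ * q⁻¹)) * q * t⁻¹ := by simp only [ha]; group
        _ = (u * q * u⁻¹ * q⁻¹) * t * q * t⁻¹ := by rw [h3]
        _ = _ := by group
    have haa : a * a ∈ R := by
      have h1 : t * u * (t * u) = c * m * m := by
        have hut : u * t = c * t * u := by simp only [hcdef]; group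
        calc t * u * (t * u) = t * (u * t) * u := by group
          _ = (t * c) * t * (u * u) := by rw [hut]; group
          _ = (c * t) * t * (u * u) := by rw [hRtt c hcR]
          _ = c * m * m := by rw [huu, hmdef]; group
      rw [show a * a = (t * u * (t * u))⁻¹ by simp only [ha]; group, h1, mul_assoc]
      exact inv_mem (mul_mem hcR (hsq m hm))
    rw [← hu'u', hu'a, show a * q * (a * q) = a * a * (a⁻¹ * q * a) * q by group, hr1e,
      mul_assoc (a * a), mul_assoc r1]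
    exact mul_mem haa (mul_mem hr1 (hsq q hq3))
  -- the section
  set G : Set Y := (S : Set Y) ∪ {t, u} with hG
  have hle := card_closure_le rank (G := G) (R := R)
    (fun r hr => Subgroup.subset_closure (Or.inl (hRS hr))) (by
      rintro g (hg | rfl | rfl) r hr
      · rw [hS g hg r (hRS hr), mul_inv_cancel_right]; exact hr
      · rw [hRtt r hr, mul_inv_cancel_right]; exact hr
      · rw [hRu r hr, mul_inv_cancel_right]; exact hr) (by
      rintro g (hg | rfl | rfl)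
      · exact hsq g hg
      · exact hmR
      · rw [huu]; exact hmR) (by
      rintro x (hx | rfl | rfl) z (hz | rfl | rfl)
      · rw [hS x hx z hz, mul_inv_cancel_right, mul_inv_cancel]; exact one_mem R
      · rw [show x * t * x⁻¹ * t⁻¹ = (t * x * t⁻¹ * x⁻¹)⁻¹ by group]; exact inv_mem (hdt x hx).1
      · rw [show x * u * x⁻¹ * u⁻¹ = (u * x * u⁻¹ * x⁻¹)⁻¹ by group]; exact inv_mem (hdt x hx).2
      · exact (hdt z hz).1
      · rw [mul_inv_cancel_right, mul_inv_cancel]; exact one_mem R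
      · rw [show t * u * t⁻¹ * u⁻¹ = c⁻¹ by simp only [hcdef]; group]; exact inv_mem hcR
      · exact (hdt z hz).2
      · exact hcR
      · rw [mul_inv_cancel_right, mul_inv_cancel]; exact one_mem R)
  refine le_trans ?_ hle
  obtain ⟨hU1, hUT, -, -⟩ := gU_facts
  have hπt : π t = gT := by rw [ht, map_mul, hs, gS_sq]
  have hπu : π u = gU := by rw [hu, map_mul, map_mul, map_inv, hy, hπt]; rfl
  set K := S ⊔ zpowers t with hK
  have h1 : S < K := lt_of_le_not_ge le_sup_left fun hh => gT_ne (by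
    rw [← hπt]; exact (hker _).2 (hSQ (hh (mem_sup_right (mem_zpowers t)))))
  have h2 : K < Subgroup.closure G := by
    refine lt_of_le_not_ge (sup_le (fun x hx => Subgroup.subset_closure (Or.inl hx))
      (zpowers_le.2 (Subgroup.subset_closure (Or.inr (Or.inl rfl))))) fun hh => ?_
    have hmem : π u ∈ K.map π := mem_map_of_mem π (hh (Subgroup.subset_closure (Or.inr (Or.inr rfl))))
    have hSb : S.map π = ⊥ := (eq_bot_iff_forall _).2 (by
      rintro _ ⟨x, hx, rfl⟩; exact (hker x).2 (hSQ hx))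
    rw [hK, Subgroup.map_sup, hSb, bot_sup_eq, MonoidHom.map_zpowers, hπt, hπu] at hmem
    have h2' : Nat.card (zpowers gT) ≤ 2 := by
      rw [Nat.card_zpowers]
      exact Nat.le_of_dvd (by norm_num) (orderOf_dvd_of_pow_eq_one (by rw [pow_two]; exact gT_sq))
    rcases two_cases h2' (mem_zpowers gT) gT_ne hmem with e | e
    exacts [hU1 e, hUT e]
  have := two_mul_card_le h1
  have := two_mul_card_le h2
  omega

end CfsgLib.SRank.Seven
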